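import Mathlib
import Cfsg.Agent.Lib.Char.SelfCentChars
import Cfsg.Agent.Lib.Fus.SmallOrders

/-!
Simple groups of order 95040: general facts on centralizers and character values.
-/

set_option autoImplicit false
set_option linter.style.haveILetI false

namespace Cfsg.Agent.Invol.M12Ord

open scoped ComplexConjugate
open Cfsg Cfsg.Agent.Block Cfsg.Agent.Char

universe u

variable {G : Type u} [Group G] [Finite G]

/-- The degree. -/
noncomputable abbrev dg (χ : IrrCharacter G) : ℕ := charDegree (χ : G → ℂ)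

/-- The order of the centralizer of an element. -/
noncomputable abbrev cn (g : G) : ℕ := Nat.card (Subgroup.centralizer ({g} : Set G))

theorem dg_trivial : dg (trivialIrr G) = 1 := charDeg_trivial

theorem trivial_value (g : G) : ((trivialIrr G : IrrCharacter G) : G → ℂ) g = 1 := rfl

theorem value_one (χ : IrrCharacter G) : (χ : G → ℂ) 1 = (dg χ : ℂ) := charDeg_spec' χ

theorem cn_pos (g : G) : 0 < cn g := Nat.card_pos

theorem cn_dvd_card (g : G) : cn g ∣ Nat.card G := Subgroup.card_subgroup_dvd_card _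

theorem orderOf_dvd_cn {g x : G} (hc : x * g = g * x) : orderOf x ∣ cn g :=
  Subgroup.orderOf_dvd_natCard _ (Subgroup.mem_centralizer_singleton_iff.2 hc)

theorem cn_eq_of_isConj {g g' : G} (h : IsConj g g') : cn g = cn g' := by
  classical
  have h1 := sum_irr_mul_conj g g
  have h2 := sum_irr_mul_conj g' g'
  rw [if_pos (IsConj.refl _)] at h1 h2
  simp only [(isConj_iff_irr g g').1 h] at h1
  exact Nat.cast_injective (R := ℂ) (h1.symm.trans h2)

theorem ne_one_of_orderOf {g : G} {n : ℕ} (h : orderOf g = n) (hn : n ≠ 1) : g ≠ 1 := fun e => by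
  rw [e, orderOf_one] at h
  exact hn h.symm

theorem sum_sq (hG : Nat.card G = 95040) : ∑ χ : IrrCharacter G, dg χ ^ 2 = 95040 := by
  apply Nat.cast_injective (R := ℂ)
  push_cast
  rw [show (95040 : ℂ) = (Nat.card G : ℂ) by rw [hG]; norm_num, ← sum_degree_sq (G := G)]
  refine Finset.sum_congr rfl fun χ _ => ?_
  rw [charDeg_spec']

theorem sum_sq_le (hG : Nat.card G = 95040) (S : Finset (IrrCharacter G)) :
    ∑ χ ∈ S, dg χ ^ 2 ≤ 95040 := by
  rw [← sum_sq hG]
  exact Finset.sum_le_univ_sum_of_nonneg fun χ => Nat.zero_le _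

theorem dg_dvd (hG : Nat.card G = 95040) (χ : IrrCharacter G) : dg χ ∣ 95040 := hG ▸ charDeg_dvd χ

theorem dg_le (hG : Nat.card G = 95040) (χ : IrrCharacter G) : dg χ ≤ 308 := by
  have h := sum_sq_le hG {χ}
  rw [Finset.sum_singleton] at h
  by_contra hc
  have h' : 309 ≤ dg χ := by omega
  have := Nat.pow_le_pow_left h' 2
  omega

theorem index_eq (hG : Nat.card G = 95040) (g : G) :
    (Subgroup.centralizer ({g} : Set G)).index = 95040 / cn g := by
  rw [← hG, ← Subgroup.index_mul_card (Subgroup.centralizer ({g} : Set G)),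
    Nat.mul_div_cancel _ (cn_pos g)]

/-- Divisibility of a rational value times the class length by the degree. -/
theorem idx_mod (hG : Nat.card G = 95040) (χ : IrrCharacter G) {g : G} {a : ℤ}
    (ha : (χ : G → ℂ) g = a) : (((95040 / cn g : ℕ) : ℤ) * a) % (dg χ : ℤ) = 0 := by
  have h := OrdP.index_dvd χ ha
  rw [index_eq hG] at h
  exact Int.emod_eq_zero_of_dvd h

/-- The squares of integral values are bounded by the order of the centralizer. -/
theorem norm_le (S : Finset (IrrCharacter G)) {g : G} (a : IrrCharacter G → ℤ)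
    (ha : ∀ χ ∈ S, (χ : G → ℂ) g = a χ) : ∑ χ ∈ S, a χ * a χ ≤ (cn g : ℤ) := by
  cases nonempty_fintype G
  have h := OrdP.normSq_column S g
  rw [Finset.sum_congr rfl (g := fun χ => ((a χ * a χ : ℤ) : ℝ)) fun χ hχ => by
    rw [ha χ hχ, Complex.normSq_intCast]; push_cast; ring, ← Int.cast_sum] at h
  exact_mod_cast h

/-- The squares of integral values sum to the order of the centralizer. -/
theorem norm_eq {g : G} (a : IrrCharacter G → ℤ) (ha : ∀ χ : IrrCharacter G, (χ : G → ℂ) g = a χ) :
    ∑ χ : IrrCharacter G, a χ * a χ = (cn g : ℤ) := by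
  classical
  apply Int.cast_injective (α := ℂ)
  have h := sum_irr_mul_conj g g
  rw [if_pos (IsConj.refl g)] at h
  simp only [ha, map_intCast] at h
  push_cast
  exact h

/-- Orthogonality of two integral columns. -/
theorem orth {g k : G} (hgk : ¬ IsConj g k) (a b : IrrCharacter G → ℤ)
    (ha : ∀ χ : IrrCharacter G, (χ : G → ℂ) g = a χ) (hb : ∀ χ : IrrCharacter G, (χ : G → ℂ) k = b χ) :
    ∑ χ : IrrCharacter G, a χ * b χ = 0 := by
  classical
  apply Int.cast_injective (α := ℂ)
  have h := sum_irr_mul_conj g k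
  rw [if_neg hgk] at h
  simp only [ha, hb, map_intCast] at h
  push_cast
  exact h

/-- Orthogonality of a column with that of the identity. -/
theorem orth_one {g : G} (hg : g ≠ 1) : ∑ χ : IrrCharacter G, (χ : G → ℂ) g * (dg χ : ℂ) = 0 := by
  classical
  have h := sum_irr_mul_conj g 1
  rw [if_neg (fun hc => hg (isConj_one_left.1 hc))] at h
  simpa only [value_one, map_natCast] using h

theorem orth_one_int {g : G} (hg : g ≠ 1) (a : IrrCharacter G → ℤ)
    (ha : ∀ χ : IrrCharacter G, (χ : G → ℂ) g = a χ) : ∑ χ : IrrCharacter G, a χ * (dg χ : ℤ) = 0 := by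
  apply Int.cast_injective (α := ℂ)
  have h := orth_one hg
  simp only [ha] at h
  push_cast
  exact h

variable [IsSimpleGroup G]

theorem not_comm (hG : Nat.card G = 95040) : ¬ IsMulCommutative G := fun h => by
  have h1 := card_prime_of_simple_of_comm (G := G) fun a b => h.1.1 a b
  rw [hG] at h1
  norm_num at h1

theorem cn_lt (hG : Nat.card G = 95040) {g : G} (hg : g ≠ 1) : cn g < 95040 := by
  refine lt_of_le_of_ne (Nat.le_of_dvd (by norm_num) (hG ▸ cn_dvd_card g)) fun h => ?_
  refine not_comm hG ⟨⟨comm_of_central_ne_one hg ?_⟩⟩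
  have ht : Subgroup.centralizer ({g} : Set G) = ⊤ :=
    Subgroup.eq_top_of_card_eq _ (h.trans hG.symm)
  exact Subgroup.mem_center_iff.2 fun k =>
    Subgroup.mem_centralizer_singleton_iff.1 (ht ▸ Subgroup.mem_top k)

theorem two_le (hG : Nat.card G = 95040) {χ : IrrCharacter G} (h : χ ≠ trivialIrr G) : 2 ≤ dg χ :=
  OrdP.two_le_deg (not_comm hG) h

/-- No nontrivial element acts by a scalar in a nontrivial irreducible representation. -/
theorem norm_value_ne (hG : Nat.card G = 95040) {χ : IrrCharacter G} (hne : χ ≠ trivialIrr G) {v : G}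
    (hv : v ≠ 1) : ‖(χ : G → ℂ) v‖ ≠ (dg χ : ℝ) := by
  intro hn
  refine not_comm hG ⟨⟨comm_of_central_ne_one hv (Subgroup.mem_center_iff.2 fun g => ?_)⟩⟩
  obtain ⟨n, ρ, hρ, hρχ, hn', -⟩ := IsIrr.exists_rep χ.2
  have hnd : n = dg χ := Nat.cast_injective (R := ℂ) (hn'.symm.trans (charDeg_spec' χ))
  obtain ⟨ω, hω⟩ := (norm_character_eq_iff ρ v).1 (by
    rw [show ρ.character v = (χ : G → ℂ) v by rw [← hρχ], Module.finrank_fin_fun, hnd]
    exact hn)
  have hcomm : ρ (g * v) = ρ (v * g) := by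
    rw [map_mul, map_mul, hω, ← Module.End.one_eq_id, mul_smul_comm, smul_mul_assoc, mul_one, one_mul]
  have h1 : ρ (v * g * (g * v)⁻¹) = 1 := by
    rw [map_mul, ← hcomm, ← map_mul, mul_inv_cancel, map_one]
  have h2 : v * g * (g * v)⁻¹ = 1 := OrdP.eq_one_of_value hne (by
    rw [← hρχ]
    show LinearMap.trace ℂ _ (ρ _) = LinearMap.trace ℂ _ (ρ 1)
    exact congrArg _ (h1.trans (map_one ρ).symm))
  exact (mul_inv_eq_one.1 h2).symm

/-- The value of a nontrivial irreducible character at an involution. -/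
theorem inv_value (hG : Nat.card G = 95040) {t : G} (ht : orderOf t = 2) :
    ∃ a : IrrCharacter G → ℤ, (∀ χ : IrrCharacter G, (χ : G → ℂ) t = a χ) ∧ a (trivialIrr G) = 1 ∧
      ∀ χ : IrrCharacter G, χ ≠ trivialIrr G →
        (4 : ℤ) ∣ (dg χ : ℤ) - a χ ∧ -(dg χ : ℤ) < a χ ∧ a χ < (dg χ : ℤ) := by
  have hna := not_comm hG
  have ht2 : t ^ 2 = 1 := by rw [← ht]; exact pow_orderOf_eq_one t
  choose a ha h4 using fun χ : IrrCharacter G => OrdP.involution_value hna χ ht2
  refine ⟨a, ha, ?_, fun χ hχ => ⟨h4 χ, ?_⟩⟩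
  · apply Int.cast_injective (α := ℂ)
    rw [← ha, Int.cast_one]
    rfl
  · have hb := OrdP.norm_value_le χ t
    have hne := norm_value_ne hG hχ (ne_one_of_orderOf ht (by norm_num))
    rw [ha χ, Complex.norm_intCast] at hb hne
    have hlt : |a χ| < (dg χ : ℤ) := by
      have := lt_of_le_of_ne hb hne
      exact_mod_cast this
    exact abs_lt.1 hlt

end Cfsg.Agent.Invol.M12Ord
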