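import Mathlib
import Cfsg.Agent.Lib.Invol.Order95040.Basic
import Cfsg.Agent.Lib.Block.SchurIndicator
import Cfsg.Agent.Lib.Block.OrderPrimeSelf

/-!
Class multiplication, square roots of the identity and congruences of character values.
-/

set_option autoImplicit false
set_option linter.style.haveILetI false
set_option linter.unusedSectionVars false

namespace Cfsg.Agent.Invol.M12Ord

open scoped ComplexConjugate
open Cfsg Cfsg.Agent.Block Cfsg.Agent.Char

universe u

variable {G : Type u} [Group G] [Finite G]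

theorem ncard_class (g : G) : {x : G | IsConj x g}.ncard * cn g = Nat.card G := by
  have h1 := MulAction.index_stabilizer (ConjAct G) g
  rw [ConjAct.stabilizer_eq_centralizer] at h1
  have h2 : MulAction.orbit (ConjAct G) g = {x : G | IsConj x g} := by
    ext x; exact ConjAct.mem_orbit_conjAct
  rw [h2] at h1
  rw [← h1]
  exact Subgroup.index_mul_card _

/-- The class multiplication coefficient. -/
theorem triple (x y z : G) :
    (Nat.card G : ℂ) * ∑ χ : IrrCharacter G,
        (χ : G → ℂ) x * (χ : G → ℂ) y * conj ((χ : G → ℂ) z) / (χ : G → ℂ) 1 =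
      ({y' : G | IsConj y y' ∧ IsConj (x * y') z}.ncard : ℂ) * (cn y : ℂ) * (cn z : ℂ) := by
  classical
  haveI := Fintype.ofFinite G
  have h : ∑ k : G, ∑ χ : IrrCharacter G, (χ : G → ℂ) (x * (k * y * k⁻¹)) * conj ((χ : G → ℂ) z) =
      ∑ k : G, if IsConj (x * (k * y * k⁻¹)) z then (cn z : ℂ) else 0 :=
    Finset.sum_congr rfl fun k _ => by rw [sum_irr_mul_conj]; split_ifs <;> rfl
  rw [Finset.sum_comm, ← Finset.sum_filter, Finset.sum_const, nsmul_eq_mul] at h
  rw [Finset.mul_sum]
  refine Eq.trans ?_ (h.trans ?_)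
  · refine Finset.sum_congr rfl fun χ _ => ?_
    rw [← Finset.sum_mul, sum_mul_conj]
    ring
  · congr 1
    set S := Finset.univ.filter fun y' : G => IsConj y y' ∧ IsConj (x * y') z with hS
    have hset : {y' : G | IsConj y y' ∧ IsConj (x * y') z}.ncard = S.card := by
      rw [← Set.ncard_coe_finset, hS, Finset.coe_filter]
      simp
    rw [hset, Finset.card_eq_sum_card_fiberwise (f := fun k => k * y * k⁻¹) (t := S) fun k hk => by
      simp only [Finset.coe_filter, Finset.mem_univ, true_and] at hk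
      exact Finset.mem_coe.2 (Finset.mem_filter.2 ⟨Finset.mem_univ _, isConj_iff.2 ⟨k, rfl⟩, hk⟩)]
    rw [Finset.sum_congr rfl (g := fun _ => cn y) fun y' hy' => ?_, Finset.sum_const, smul_eq_mul, Nat.cast_mul]
    simp only [hS, Finset.mem_filter, Finset.mem_univ, true_and] at hy'
    have hf := OrdP.card_fiber y y'
    rw [if_pos hy'.1] at hf
    show _ = Nat.card (Subgroup.centralizer ({y} : Set G))
    rw [← hf, Nat.card_eq_fintype_card, Fintype.card_subtype, Finset.filter_filter]
    refine congrArg Finset.card (Finset.filter_congr fun k _ => ⟨fun h => h.2, fun h => ⟨?_, h⟩⟩)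
    rw [h]
    exact hy'.2

/-- The class multiplication coefficient for real integral columns. -/
theorem triple_int {x y z : G} (a b c : IrrCharacter G → ℤ)
    (ha : ∀ χ : IrrCharacter G, (χ : G → ℂ) x = a χ) (hb : ∀ χ : IrrCharacter G, (χ : G → ℂ) y = b χ)
    (hc : ∀ χ : IrrCharacter G, (χ : G → ℂ) z = c χ) :
    (Nat.card G : ℂ) * ∑ χ : IrrCharacter G, ((a χ * b χ * c χ : ℤ) : ℂ) / (dg χ : ℂ) =
      ({y' : G | IsConj y y' ∧ IsConj (x * y') z}.ncard : ℂ) * (cn y : ℂ) * (cn z : ℂ) := by
  rw [← triple x y z]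
  congr 1
  refine Finset.sum_congr rfl fun χ _ => ?_
  rw [ha, hb, hc, map_intCast, value_one]
  push_cast
  ring

/-- The number of square roots of the identity. -/
theorem sum_ind [Fintype G] :
    ∑ χ : IrrCharacter G, (dg χ : ℂ) * FS.ind (χ : G → ℂ) = ({g : G | g * g = 1}.ncard : ℂ) := by
  classical
  simp only [FS.ind, ← value_one, Finset.mul_sum]
  rw [Finset.sum_comm]
  have hN : (Nat.card G : ℂ) ≠ 0 := Nat.cast_ne_zero.mpr Nat.card_pos.ne'
  rw [Finset.sum_congr rfl (g := fun g : G => if g * g = 1 then (1 : ℂ) else 0) fun g _ => ?_,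
    Finset.sum_boole]
  · rw [← Set.ncard_coe_finset, Finset.coe_filter]
    simp
  · have h := regular_expansion (g * g)
    rw [show ∑ χ : IrrCharacter G, (χ : G → ℂ) 1 * ((Nat.card G : ℂ)⁻¹ * (χ : G → ℂ) (g * g)) =
      (Nat.card G : ℂ)⁻¹ * ∑ χ : IrrCharacter G, (χ : G → ℂ) 1 * (χ : G → ℂ) (g * g) by
        rw [Finset.mul_sum]; exact Finset.sum_congr rfl fun χ _ => by ring, h, mul_ite, inv_mul_cancel₀ hN,
      mul_zero]

/-- Integral values at commuting elements `u` of order `p` and `v` of order prime to `p`. -/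
theorem congr_int {p : ℕ} [Fact p.Prime] (χ : IrrCharacter G) {u v : G} (hu : u ^ p = 1) (huv : Commute u v)
    (hv : ¬ p ∣ orderOf v) {a b : ℤ} (ha : (χ : G → ℂ) (u * v) = a) (hb : (χ : G → ℂ) v = b) :
    (p : ℤ) ∣ b - a := by
  obtain ⟨M, hM⟩ := exists_isPModular p Fact.out
  have h := OrdP.congr_of_value hM χ hu huv hv ha
  rw [hb, ← Int.cast_sub] at h
  exact (ideal_intCast_iff hM _).1 h

/-- An integral value at an element of prime power order is congruent to the degree. -/
theorem congr_deg {p : ℕ} [Fact p.Prime] (χ : IrrCharacter G) {g : G} {j : ℕ} (hg : orderOf g = p ^ j)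
    {a : ℤ} (ha : (χ : G → ℂ) g = a) : (p : ℤ) ∣ a - (dg χ : ℤ) := by
  obtain ⟨M, hM⟩ := exists_isPModular p Fact.out
  refine (intCast_mem_iff (p := p) hM _).1 ?_
  have h := IsChar.sub_degree_mem (IsIrr.isCharacter χ.2) hM (g := g) ⟨j, hg⟩
  convert h using 1
  apply Subtype.val_injective
  simp [ha, value_one]

/-- A column fixed by the Galois group is integral. -/
theorem int_column {g : G} (h : ∀ k : ℕ, k.Coprime (orderOf g) → IsConj (g ^ k) g) :
    ∃ a : IrrCharacter G → ℤ, (∀ χ : IrrCharacter G, (χ : G → ℂ) g = a χ) ∧ a (trivialIrr G) = 1 := by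
  choose a ha using fun χ : IrrCharacter G =>
    IsChar.exists_int_of_fixed (IsIrr.isCharacter χ.2) g fun k hk =>
      IsClass.eq_of_isConj (IsIrr.classFun χ.2) (h k hk)
  refine ⟨a, ha, Int.cast_injective (α := ℂ) ?_⟩
  rw [← ha, Int.cast_one]
  rfl

end Cfsg.Agent.Invol.M12Ord
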