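import Mathlib
import Cfsg.Prelude
import Cfsg.Agent.Lib.Grp.Cores

/-!
Groups of order 192 in which the centralizer of every element of order three has order six.
-/

set_option autoImplicit false
set_option linter.style.haveILetI false
set_option linter.unusedSectionVars false

namespace Cfsg.Agent.Invol.M12Ord

open Cfsg

universe u

variable {H : Type u} [Group H] [Finite H]

/-- The action on the three Sylow 2-subgroups. -/
theorem exists_map192 (hH : Nat.card H = 192)
    (hcent : ∀ v : H, orderOf v = 3 → Nat.card (Subgroup.centralizer ({v} : Set H)) = 6) :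
    ∃ f : H →* Equiv.Perm (Fin 3), Function.Surjective f ∧ f.ker = Cfsg.pCore 2 H ∧
      Nat.card (Cfsg.pCore 2 H) = 32 := by
  classical
  haveI : Fact (Nat.Prime 2) := ⟨Nat.prime_two⟩
  haveI : Fact (Nat.Prime 3) := ⟨Nat.prime_three⟩
  have f2 : (192 : ℕ).factorization 2 = 6 := by
    rw [show (192 : ℕ) = 2 ^ 6 * 3 by norm_num, Nat.factorization_mul (by norm_num) (by norm_num),
      Finsupp.add_apply, Nat.Prime.factorization_pow Nat.prime_two, Finsupp.single_eq_same,
      Nat.factorization_eq_zero_of_not_dvd (by norm_num : ¬ 2 ∣ 3)]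
  have f3 : (192 : ℕ).factorization 3 = 1 := by
    rw [show (192 : ℕ) = 3 ^ 1 * 64 by norm_num, Nat.factorization_mul (by norm_num) (by norm_num),
      Finsupp.add_apply, Nat.Prime.factorization_pow Nat.prime_three, Finsupp.single_eq_same,
      Nat.factorization_eq_zero_of_not_dvd (by norm_num : ¬ 3 ∣ 64)]
  obtain ⟨X⟩ : Nonempty (Sylow 3 H) := inferInstance
  have hX : Nat.card (X : Subgroup H) = 3 := by rw [X.card_eq_multiplicity, hH, f3, pow_one]
  haveI hcyc : IsCyclic (X : Subgroup H) := isCyclic_of_prime_card hX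
  obtain ⟨⟨v, hvX⟩, hv1⟩ := (Finite.one_lt_card_iff_nontrivial.1 (by rw [hX]; norm_num) :
    Nontrivial (X : Subgroup H)) |> fun h => @exists_ne _ h (1 : (X : Subgroup H))
  have hv : orderOf v = 3 := by
    have h := orderOf_eq_card_of_forall_mem_zpowers (g := (⟨v, hvX⟩ : (X : Subgroup H))) fun y => by
      rw [zpowers_eq_top_of_prime_card hX hv1]; exact Subgroup.mem_top y
    rw [hX, ← Subgroup.orderOf_coe] at h
    exact h
  have hXv : (X : Subgroup H) = Subgroup.zpowers v := (Subgroup.eq_of_le_of_card_ge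
    (Subgroup.zpowers_le.2 hvX) (by rw [hX, Nat.card_zpowers, hv])).symm
  have hCX : Subgroup.centralizer ((X : Subgroup H) : Set H) = Subgroup.centralizer ({v} : Set H) := by
    rw [hXv, Subgroup.zpowers_eq_closure, Subgroup.centralizer_closure]
  -- the normalizer of the Sylow 3-subgroup has order twelve
  set N := Subgroup.normalizer ((X : Subgroup H) : Set H) with hN
  have hK : Nat.card (X : Subgroup H).normalizerMonoidHom.ker = 6 := by
    rw [Subgroup.normalizerMonoidHom_ker,
      Nat.card_congr (Subgroup.subgroupOfEquivOfLe (Subgroup.centralizer_le_normalizer _)).toEquiv, hCX,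
      hcent v hv]
  have hR : Nat.card (X : Subgroup H).normalizerMonoidHom.range ∣ 2 := by
    refine (Subgroup.card_subgroup_dvd_card _).trans ?_
    rw [hcyc.card_mulAut, hX, Nat.totient_prime Nat.prime_three]
  have hN12 : Nat.card N = 12 := by
    have h := (X : Subgroup H).normalizerMonoidHom.ker.card_mul_index
    rw [Subgroup.index_ker, hK] at h
    rcases (Nat.dvd_prime Nat.prime_two).1 hR with h2 | h2
    · exfalso
      rw [h2, mul_one] at h
      have h3 := N.card_mul_index
      rw [← h, hH, ← show Nat.card (Sylow 3 H) = N.index from X.card_eq_index_normalizer] at h3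
      have h4 := card_sylow_modEq_one 3 H
      rw [show Nat.card (Sylow 3 H) = 32 by omega] at h4
      exact absurd h4 (by decide)
    · rw [h2] at h
      exact h.symm
  -- three Sylow 2-subgroups
  obtain ⟨P⟩ : Nonempty (Sylow 2 H) := inferInstance
  have hP : Nat.card (P : Subgroup H) = 64 := by rw [P.card_eq_multiplicity, hH, f2]; norm_num
  have hPidx : (P : Subgroup H).index = 3 := by
    have h := (P : Subgroup H).card_mul_index
    rw [hP, hH] at h
    omega
  have hn2 : Nat.card (Sylow 2 H) = 3 := by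
    refine ((Nat.dvd_prime Nat.prime_three).1 (hPidx ▸ P.card_dvd_index)).resolve_left fun h1 => ?_
    haveI : Subsingleton (Sylow 2 H) := (Nat.card_eq_one_iff_unique.1 h1).1
    haveI hPn : (P : Subgroup H).Normal := Sylow.normal_of_subsingleton P
    obtain ⟨S, hS⟩ := Sylow.exists_subgroup_card_pow_prime (G := N) 2 (n := 2) (by rw [hN12]; norm_num)
    have hS' : IsPGroup 2 (S.map N.subtype) := (IsPGroup.of_card hS).map _
    obtain ⟨P', hP'⟩ := hS'.exists_le_sylow
    rw [Subsingleton.elim P' P] at hP'
    have hle : S.map N.subtype ≤ Subgroup.centralizer ({v} : Set H) := by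
      intro n hn
      rw [Subgroup.mem_centralizer_singleton_iff]
      have hnN : n ∈ N := Subgroup.map_subtype_le S hn
      have h1 : n * v * n⁻¹ * v⁻¹ ∈ (X : Subgroup H) :=
        (X : Subgroup H).mul_mem ((Subgroup.mem_normalizer_iff.1 hnN v).1 hvX) ((X : Subgroup H).inv_mem hvX)
      have h2 : n * v * n⁻¹ * v⁻¹ ∈ (P : Subgroup H) := by
        rw [show n * v * n⁻¹ * v⁻¹ = n * (v * n⁻¹ * v⁻¹) by group]
        exact (P : Subgroup H).mul_mem (hP' hn) (hPn.conj_mem _ ((P : Subgroup H).inv_mem (hP' hn)) v)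
      have hinf : (X : Subgroup H) ⊓ (P : Subgroup H) = ⊥ :=
        Subgroup.inf_eq_bot_of_coprime (by rw [hX, hP]; norm_num)
      have h3 : n * v * n⁻¹ * v⁻¹ ∈ (X : Subgroup H) ⊓ (P : Subgroup H) := ⟨h1, h2⟩
      rw [hinf, Subgroup.mem_bot, mul_inv_eq_one, mul_inv_eq_iff_eq_mul] at h3
      exact h3
    have h := Subgroup.card_dvd_of_le hle
    rw [Subgroup.card_map_of_injective (Subgroup.subtype_injective _), hS, hcent v hv] at h
    norm_num at h
  have hPnn : ¬ (P : Subgroup H).Normal := fun h => by
    have h1 : Nat.card (Sylow 2 H) = (Subgroup.normalizer ((P : Subgroup H) : Set H)).index :=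
      P.card_eq_index_normalizer
    rw [hn2, Subgroup.normalizer_eq_top, Subgroup.index_top] at h1
    norm_num at h1
  let e : Sylow 2 H ≃ Fin 3 := Finite.equivFinOfCardEq hn2
  let f : H →* Equiv.Perm (Fin 3) := e.permCongrHom.toMonoidHom.comp (MulAction.toPermHom H (Sylow 2 H))
  have hker : f.ker ≤ Subgroup.normalizer ((P : Subgroup H) : Set H) := by
    intro g hg
    rw [show Subgroup.normalizer ((P : Subgroup H) : Set H) = MulAction.stabilizer H P from
      P.stabilizer_eq_normalizer.symm, MulAction.mem_stabilizer_iff]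
    have h : MulAction.toPermHom H (Sylow 2 H) g = 1 := by
      apply e.permCongrHom.injective
      rw [map_one]
      exact hg
    exact Equiv.ext_iff.1 h P
  have hnn : ∀ K : Subgroup H, K.Normal → IsPGroup 2 K → Nat.card K ≠ 64 := fun K hK hKp h64 => hPnn (by
    obtain ⟨P', hP'⟩ := hKp.exists_le_sylow
    have hP'64 : Nat.card (P' : Subgroup H) = 64 := by rw [P'.card_eq_multiplicity, hH, f2]; norm_num
    have e' : K = (P' : Subgroup H) := Subgroup.eq_of_le_of_card_ge hP' (by rw [h64, hP'64])
    obtain ⟨g, hg⟩ := MulAction.exists_smul_eq H P' P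
    haveI : (P' : Subgroup H).Normal := e' ▸ hK
    rw [← hg, Sylow.smul_eq_of_normal]
    exact this)
  have hrange : Nat.card f.range = 6 := by
    have h3 : 3 ∣ Nat.card f.range := by
      rw [← Subgroup.index_ker]
      have h := Subgroup.index_dvd_of_le hker
      rwa [← show Nat.card (Sylow 2 H) = (Subgroup.normalizer ((P : Subgroup H) : Set H)).index from
        P.card_eq_index_normalizer, hn2] at h
    have h6 : Nat.card f.range ∣ 6 := by
      have h := Subgroup.card_subgroup_dvd_card f.range
      rwa [Nat.card_perm, Nat.card_fin] at h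
    obtain ⟨k, hk⟩ := h3
    rw [hk] at h6
    have hk2 : k ∣ 2 := Nat.dvd_of_mul_dvd_mul_left (by norm_num) (h6.trans (by norm_num : 6 ∣ 3 * 2))
    rcases (Nat.dvd_prime Nat.prime_two).1 hk2 with rfl | rfl
    · exfalso
      have h := f.ker.card_mul_index
      rw [Subgroup.index_ker, hk, hH] at h
      exact hnn f.ker inferInstance (IsPGroup.of_card (n := 6) (by omega)) (by omega)
    · exact hk
  have hsurj : Function.Surjective f := MonoidHom.range_eq_top.1 (Subgroup.eq_top_of_card_eq _ (by
    rw [hrange, Nat.card_perm, Nat.card_fin]; rfl))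
  have hker32 : Nat.card f.ker = 32 := by
    have h := f.ker.card_mul_index
    rw [Subgroup.index_ker, hrange, hH] at h
    omega
  have hle : f.ker ≤ Cfsg.pCore 2 H :=
    Cfsg.Agent.Grp.le_pCore inferInstance (IsPGroup.of_card (n := 5) hker32)
  have hcore : Nat.card (Cfsg.pCore 2 H) ≤ 32 := by
    obtain ⟨j, hj⟩ := IsPGroup.iff_card.1 (Cfsg.Agent.Grp.pCore_isPGroup (p := 2) (G := H))
    have hd := (Cfsg.pCore 2 H).card_subgroup_dvd_card
    rw [hj, hH] at hd
    have hj6 : j ≤ 6 := by
      by_contra hlt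
      have := (pow_dvd_pow 2 (show 7 ≤ j by omega)).trans hd
      norm_num at this
    have h64 := hnn _ (Cfsg.Agent.Grp.pCore_isNormal (p := 2) (G := H)) (Cfsg.Agent.Grp.pCore_isPGroup)
    rw [hj] at h64 ⊢
    interval_cases j <;> simp_all
  have heq := Subgroup.eq_of_le_of_card_ge hle (hker32 ▸ hcore)
  exact ⟨f, hsurj, heq, heq ▸ hker32⟩

end Cfsg.Agent.Invol.M12Ord
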