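import Mathlib
import Cfsg.Prelude
import Cfsg.Agent.Lib.Invol.Order95040.Basic
import Cfsg.Agent.Lib.Grp.Frattini

/-!
A group of order 32 with an automorphism of order three fixing only a central involution `τ`, and with a
character of degree eleven taking the values `3` at `τ` and `3` or `-1` at the involutions, is extraspecial.
-/

set_option autoImplicit false
set_option linter.style.haveILetI false
set_option linter.unusedSectionVars false

namespace Cfsg.Agent.Invol.M12Ord

open scoped ComplexConjugate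
open Cfsg Cfsg.Agent.Block Cfsg.Agent.Char

universe u

variable {P : Type u} [Group P] [Finite P]

/-- Integrality of the multiplicity of a linear character on a product with a cyclic group. -/
theorem twist_sum {χ : P → ℂ} (hχ : IsCharacter P χ) (W : Subgroup P) [Fintype W] (m : ℕ) [NeZero m]
    (q : P) (hq : q ^ m = 1) (hc : ∀ w ∈ W, Commute q w) (ζ : ℂˣ) (hζ : ζ ^ m = 1) :
    ∃ n : ℕ, ∑ k ∈ Finset.range m, (∑ w : W, χ (q ^ k * w)) * conj ((ζ : ℂ) ^ k) =
      (n : ℂ) * ((m : ℂ) * (Nat.card W : ℂ)) := by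
  classical
  let f : Multiplicative (ZMod m) × W →* P :=
    { toFun := fun p => q ^ (Multiplicative.toAdd p.1).val * p.2
      map_one' := by simp
      map_mul' := fun a b => by
        simp only [Prod.fst_mul, Prod.snd_mul, toAdd_mul, ZMod.val_add, Subgroup.coe_mul]
        rw [← pow_eq_pow_mod _ hq, pow_add]
        exact ((hc _ a.2.2).symm.pow_right _).symm.mul_mul_mul_comm _ _ |>.symm |>.symm }
  let l : Multiplicative (ZMod m) × W →* ℂˣ :=
    { toFun := fun p => ζ ^ (Multiplicative.toAdd p.1).val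
      map_one' := by simp
      map_mul' := fun a b => by
        simp only [Prod.fst_mul, toAdd_mul, ZMod.val_add]
        rw [← pow_eq_pow_mod _ hζ, pow_add] }
  obtain ⟨n, hn⟩ := IsChar.classInner_nat (IsChar.comp f hχ) (IsIrr.isCharacter (isIrr_linear l))
  refine ⟨n, ?_⟩
  have hcard : (Nat.card (Multiplicative (ZMod m) × W) : ℂ) = (m : ℂ) * (Nat.card W : ℂ) := by
    rw [Nat.card_prod, Nat.card_congr (Multiplicative.toAdd (α := ZMod m)), Nat.card_zmod]
    push_cast
    rfl
  have h0 : (Nat.card (Multiplicative (ZMod m) × W) : ℂ) ≠ 0 := Nat.cast_ne_zero.mpr Nat.card_pos.ne'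
  rw [← hn, ← hcard, classInner]
  rw [mul_comm (_⁻¹ * _), ← mul_assoc, mul_inv_cancel₀ h0, one_mul, Fintype.sum_prod_type]
  refine (Finset.sum_nbij (fun k => Multiplicative.toAdd k |>.val)
    (fun k _ => Finset.mem_range.2 (ZMod.val_lt _)) (fun a _ b _ h => ?_) (fun k hk => ?_) fun k _ => ?_).symm
  · exact Multiplicative.toAdd.injective (ZMod.val_injective m h)
  · exact ⟨Multiplicative.ofAdd (k : ZMod m), Finset.mem_coe.2 (Finset.mem_univ _),
      ZMod.val_cast_of_lt (Finset.mem_range.1 (Finset.mem_coe.1 hk))⟩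
  · simp [f, l, Finset.sum_mul]

/-- A group with a central subgroup of index four and an automorphism of order three fixing no other coset. -/
theorem comm_of_four {n : ℕ} (hn : Nat.card P = 2 ^ n) (A : Subgroup P) (hA : A ≤ Subgroup.center P)
    (σ : P ≃* P) (hσA : ∀ a ∈ A, σ a ∈ A) (h3 : ∀ x, σ (σ (σ x)) = x) (hfix : ∀ x, σ x = x → x ∈ A)
    (hidx : A.index = 4) :
    (∀ x, x * x ∈ A) ∧ ∃ r s : P, σ (r * s * r⁻¹ * s⁻¹) = r * s * r⁻¹ * s⁻¹ ∧
      (r * s * r⁻¹ * s⁻¹ = 1 → ∀ x y : P, Commute x y) := by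
  classical
  haveI : Fact (Nat.Prime 2) := ⟨Nat.prime_two⟩
  haveI : A.Normal := ⟨fun a ha g => by
    rwa [Subgroup.mem_center_iff.1 (hA ha) g, mul_inv_cancel_right]⟩
  set π := QuotientGroup.mk' A with hπ
  have hπA : ∀ x, π x = 1 ↔ x ∈ A := fun x => QuotientGroup.eq_one_iff x
  have cA : ∀ a ∈ A, ∀ x, x * a = a * x := fun a ha x => Subgroup.mem_center_iff.1 (hA ha) x
  have hσπ : ∀ {x y : P}, π x = π y → π (σ x) = π (σ y) := by
    intro x y h
    have h1 : π (x⁻¹ * y) = 1 := by rw [map_mul, map_inv, h, inv_mul_cancel]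
    have h2 := (hπA _).2 (hσA _ ((hπA _).1 h1))
    rw [map_mul σ, map_inv σ, map_mul π, map_inv π, inv_mul_eq_one] at h2
    exact h2
  -- no other coset is fixed
  have coset : ∀ x, π (σ x) = π x → x ∈ A := by
    intro x hx
    obtain ⟨e, he, hσx⟩ : ∃ e ∈ A, σ x = x * e :=
      ⟨x⁻¹ * σ x, (hπA _).1 (by rw [map_mul, map_inv, hx, inv_mul_cancel]), by group⟩
    have hσσ : σ (σ x) = x * (e * σ e) := by rw [hσx, map_mul, hσx, mul_assoc]
    set u := x * σ x * σ (σ x) with hu
    have hcx : ∀ a ∈ A, Commute x (x * a) := fun a ha =>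
      (Commute.refl x).mul_right (cA a ha x)
    have h1 : Commute x (σ x * σ (σ x)) := by
      rw [hσσ, hσx]
      exact (hcx e he).mul_right (hcx _ (A.mul_mem he (hσA e he)))
    have hu' : σ u = u := by
      rw [hu, map_mul, map_mul, h3, mul_assoc x, h1.eq]
    have huA := (hπA u).2 (hfix u hu')
    rw [hu, map_mul, map_mul, show π (σ (σ x)) = π x from (hσπ hx).trans hx, hx] at huA
    have hx3 : x ^ 3 ∈ A := (hπA _).1 (by rw [map_pow, pow_succ, pow_two]; exact huA)
    have hcop : Nat.Coprime 3 (orderOf x) :=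
      Nat.Coprime.coprime_dvd_right (hn ▸ orderOf_dvd_natCard x) (Nat.Coprime.pow_right n (by norm_num))
    obtain ⟨i, hi⟩ := exists_pow_eq_self_of_coprime hcop
    rw [← hi]
    exact A.pow_mem hx3 i
  have hcq : Nat.card (P ⧸ A) = 4 := hidx
  obtain ⟨y, hy⟩ := exists_prime_orderOf_dvd_card' (G := P ⧸ A) 2 (by rw [hcq]; norm_num)
  obtain ⟨r, rfl⟩ := QuotientGroup.mk'_surjective A y
  have hr1 : π r ≠ 1 := ne_one_of_orderOf hy (by norm_num)
  have hrr : π r * π r = 1 := by rw [← pow_two, ← hy]; exact pow_orderOf_eq_one _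
  have hrA : r * r ∈ A := (hπA _).1 (by rw [map_mul, hrr])
  have n12 : π (σ r) ≠ π r := fun h => hr1 ((hπA r).2 (coset r h))
  have n13 : π (σ (σ r)) ≠ π r := fun h => by
    have := hσπ h
    rw [h3] at this
    exact n12 this.symm
  have n23 : π (σ (σ r)) ≠ π (σ r) := fun h => by
    have := hσπ (hσπ h)
    rw [h3, h3] at this
    exact n12 this
  have hnA : ∀ {x}, π x ≠ 1 → π (σ x) ≠ 1 := fun {x} hx h => hx ((hπA x).2 (by
    have := hσA _ (hσA _ ((hπA _).1 h))
    rwa [h3] at this))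
  have hs1 := hnA hr1
  have hw1 := hnA hs1
  haveI := Fintype.ofFinite (P ⧸ A)
  have hall : ({1, π r, π (σ r), π (σ (σ r))} : Finset (P ⧸ A)) = Finset.univ := by
    refine Finset.eq_univ_of_card _ ?_
    rw [← Nat.card_eq_fintype_card, hcq]
    simp [Finset.card_insert_of_notMem, Ne.symm hr1, Ne.symm hs1, Ne.symm hw1, Ne.symm n12, Ne.symm n13,
      Ne.symm n23]
  have cases4 : ∀ x, ∃ g, (g = 1 ∨ g = r ∨ g = σ r ∨ g = σ (σ r)) ∧ ∃ a ∈ A, x = g * a := by
    intro x
    have hx : π x ∈ ({1, π r, π (σ r), π (σ (σ r))} : Finset (P ⧸ A)) := hall ▸ Finset.mem_univ _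
    have mk : ∀ g, π x = π g → ∃ a ∈ A, x = g * a := fun g h =>
      ⟨g⁻¹ * x, (hπA _).1 (by rw [map_mul, map_inv, h, inv_mul_cancel]), by group⟩
    simp only [Finset.mem_insert, Finset.mem_singleton] at hx
    rcases hx with h | h | h | h
    · exact ⟨1, Or.inl rfl, mk 1 (by rw [h, map_one])⟩
    · exact ⟨r, Or.inr (Or.inl rfl), mk r h⟩
    · exact ⟨σ r, Or.inr (Or.inr (Or.inl rfl)), mk _ h⟩
    · exact ⟨σ (σ r), Or.inr (Or.inr (Or.inr rfl)), mk _ h⟩
  have hsA : σ r * σ r ∈ A := by rw [← map_mul]; exact hσA _ hrA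
  have hsq : ∀ x, x * x ∈ A := by
    intro x
    obtain ⟨g, hg, a, ha, rfl⟩ := cases4 x
    rw [show g * a * (g * a) = g * g * (a * a) by
      rw [mul_assoc g a, ← mul_assoc a g, ← cA a ha g]; group]
    refine A.mul_mem ?_ (A.mul_mem ha ha)
    rcases hg with rfl | rfl | rfl | rfl
    · rw [one_mul]; exact A.one_mem
    · exact hrA
    · exact hsA
    · rw [← map_mul]; exact hσA _ hsA
  refine ⟨hsq, r, σ r, ?_, ?_⟩
  all_goals
    set s := σ r with hs
    obtain ⟨a, ha, hw⟩ : ∃ a ∈ A, σ s = r * s * a := by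
      refine ⟨(r * s)⁻¹ * σ s, (hπA _).1 ?_, by group⟩
      have hrs : π (r * s) ∈ ({1, π r, π s, π (σ s)} : Finset (P ⧸ A)) := hall ▸ Finset.mem_univ _
      simp only [Finset.mem_insert, Finset.mem_singleton] at hrs
      rcases hrs with h | h | h | h
      · exfalso
        rw [map_mul] at h
        exact n12 (mul_left_cancel (h.trans hrr.symm))
      · exfalso
        rw [map_mul] at h
        exact hs1 (mul_left_cancel (h.trans (mul_one _).symm))
      · exfalso
        rw [map_mul] at h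
        exact hr1 (mul_right_cancel (h.trans (one_mul _).symm))
      · rw [map_mul, map_inv, ← h, inv_mul_cancel]
  · -- the commutator is fixed
    set c := r * s * r⁻¹ * s⁻¹ with hc
    have hcA : c ∈ A := by
      have e : c = r * r * ((r⁻¹ * s) * (r⁻¹ * s)) * (s⁻¹ * s⁻¹) := by rw [hc]; group
      rw [e]
      exact A.mul_mem (A.mul_mem (hsq _) (hsq _)) (hsq _)
    have h2 : r * r * s = s * (r * r) := (cA _ hrA s).symm
    have hc2 : c * c = 1 := by
      have e : c * c = r * c * r⁻¹ * c := by rw [cA c hcA r, mul_inv_cancel_right]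
      rw [e, hc, show r * (r * s * r⁻¹ * s⁻¹) * r⁻¹ * (r * s * r⁻¹ * s⁻¹) =
        r * r * s * (r * r)⁻¹ * s⁻¹ by group, h2]
      group
    rw [map_mul, map_mul, map_mul, map_inv, map_inv, hw]
    calc σ r * (r * s * a) * (σ r)⁻¹ * (r * s * a)⁻¹ = s * r * s * (a * s⁻¹) * a⁻¹ * s⁻¹ * r⁻¹ := by
          rw [← hs]; group
      _ = s * r * s⁻¹ * r⁻¹ := by rw [← cA a ha]; group
      _ = c⁻¹ := by rw [hc]; group
      _ = c := inv_eq_of_mul_eq_one_right hc2
  · -- a trivial commutator
    intro hc1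
    have hrs : Commute r s := by
      have h := mul_inv_eq_one.1 hc1
      exact mul_inv_eq_iff_eq_mul.1 h
    have hca : ∀ g, Commute g a := cA a ha
    have cwr : Commute (σ s) r := by
      rw [hw]; exact (((Commute.refl r).mul_left hrs.symm).mul_left (hca r).symm)
    have cws : Commute (σ s) s := by
      rw [hw]; exact ((hrs.mul_left (Commute.refl s)).mul_left (hca s).symm)
    intro x y
    obtain ⟨g, hg, b, hb, rfl⟩ := cases4 x
    obtain ⟨g', hg', b', hb', rfl⟩ := cases4 y
    refine Commute.mul_left (Commute.mul_right ?_ (cA b' hb' g)) (cA b hb _).symm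
    rcases hg with rfl | rfl | rfl | rfl <;> rcases hg' with rfl | rfl | rfl | rfl <;>
      first
      | exact Commute.one_left _ | exact Commute.one_right _ | exact Commute.refl _
      | exact hrs | exact hrs.symm | exact cwr | exact cwr.symm | exact cws | exact cws.symm

/-- The hypotheses on a group of order 32. -/
structure Shape (P : Type u) [Group P] [Finite P] where
  τ : P
  σ : P ≃* P
  χ : P → ℂ
  card : Nat.card P = 32
  τ_ne : τ ≠ 1
  τ_sq : τ * τ = 1
  τ_cen : τ ∈ Subgroup.center P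
  three : ∀ x, σ (σ (σ x)) = x
  fixed : ∀ x, σ x = x ↔ x = 1 ∨ x = τ
  char : IsCharacter P χ
  chi_one : χ 1 = 11
  chi_τ : χ τ = 3
  chi_inv : ∀ z, z * z = 1 → z ≠ 1 → χ z = 3 ∨ χ z = -1
  chi_σ : ∀ x, χ (σ x) = χ x
  chi_real : ∀ x, χ x⁻¹ = χ x

namespace Shape

variable (S : Shape P)

theorem σ_τ : S.σ S.τ = S.τ := (S.fixed _).2 (Or.inr rfl)

theorem τ_mul (x : P) : x * S.τ = S.τ * x := Subgroup.mem_center_iff.1 S.τ_cen x

theorem not_fixed {x : P} (h1 : x ≠ 1) (ht : x ≠ S.τ) : S.σ x ≠ x := fun h =>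
  ((S.fixed x).1 h).elim h1 ht

include S in
theorem pow_32 (x : P) : x ^ 32 = 1 := by rw [← S.card]; exact pow_card_eq_one'

/-- A subgroup of order four generated by the images of an involution. -/
theorem exists_four {x : P} (hx : x * x = 1) (hx1 : x ≠ 1) (hxt : x ≠ S.τ)
    (hc : Commute x (S.σ x)) (hp : S.σ (S.σ x) = x * S.σ x) :
    ∃ V : Subgroup P, Nat.card V = 4 ∧ (∀ v, v ∈ V ↔ v = 1 ∨ v = x ∨ v = S.σ x ∨ v = x * S.σ x) ∧
      S.τ ∉ V := by
  classical
  set y := S.σ x with hy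
  have hy1 : y ≠ 1 := fun h => hx1 (S.σ.injective (h.trans (map_one _).symm))
  have hxy : y ≠ x := S.not_fixed hx1 hxt
  have hyy : y * y = 1 := by rw [hy, ← map_mul, hx, map_one]
  let V : Subgroup P :=
    { carrier := {v | v = 1 ∨ v = x ∨ v = y ∨ v = x * y}
      one_mem' := Or.inl rfl
      mul_mem' := by
        have e1 : x * (x * y) = y := by rw [← mul_assoc, hx, one_mul]
        have e2 : x * y * x = y := by rw [hc.eq, mul_assoc, hx, mul_one]
        have e3 : y * (x * y) = x := by rw [hc.eq, ← mul_assoc, hyy, one_mul]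
        have e4 : x * y * y = x := by rw [mul_assoc, hyy, mul_one]
        have e5 : x * y * (x * y) = 1 := by rw [← mul_assoc, e2, hyy]
        rintro a b (rfl | rfl | rfl | rfl) (rfl | rfl | rfl | rfl) <;>
          simp [hx, hyy, e1, e2, e3, e4, e5, hc.eq.symm]
      inv_mem' := by
        have e : (x * y)⁻¹ = x * y := by
          rw [mul_inv_rev, inv_eq_of_mul_eq_one_right hx, inv_eq_of_mul_eq_one_right hyy, hc.eq]
        rintro a (rfl | rfl | rfl | rfl) <;>
          simp [inv_eq_of_mul_eq_one_right hx, inv_eq_of_mul_eq_one_right hyy, e] }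
  refine ⟨V, ?_, fun v => Iff.rfl, ?_⟩
  · have hs : (V : Set P) = (({1, x, y, x * y} : Finset P) : Set P) := by
      ext v; simp [V]
    rw [← SetLike.coe_sort_coe, hs, Nat.card_coe_set_eq, Set.ncard_coe_finset]
    have n1 : x * y ≠ 1 := fun h => hxy (mul_left_cancel (h.trans hx.symm))
    simp [Finset.card_insert_of_notMem, Ne.symm hx1, Ne.symm hy1, Ne.symm hxy, Ne.symm n1, hx1, hy1]
  · rintro (h | h | h | h)
    · exact S.τ_ne h
    · exact hxt h.symm
    · exact hxt (S.σ.injective (h.symm.trans S.σ_τ.symm))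
    · have h' : S.σ (S.σ x) = S.τ := hp.trans h.symm
      exact hxt (S.σ.injective (S.σ.injective (h'.trans (by rw [S.σ_τ, S.σ_τ]))))

/-- The values at an involution and at its product with `τ` agree. -/
theorem val_mul_τ {x : P} (hcx : x ∈ Subgroup.center P) (hx : x * x = 1) (hx1 : x ≠ 1) (hxt : x ≠ S.τ) :
    S.χ (x * S.τ) = S.χ x := by
  classical
  wlog hp : S.σ (S.σ x) = x * S.σ x generalizing x
  · -- replace `x` by `x τ`
    have hu : x * S.σ x * S.σ (S.σ x) = 1 ∨ x * S.σ x * S.σ (S.σ x) = S.τ := (S.fixed _).1 (by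
      rw [map_mul, map_mul, S.three, mul_assoc x, (Subgroup.mem_center_iff.1 hcx _)])
    rcases hu with hu | hu
    · refine absurd ?_ hp
      have hy : S.σ x * S.σ x = 1 := by rw [← map_mul, hx, map_one]
      calc S.σ (S.σ x) = (x * S.σ x) * (x * S.σ x) * S.σ (S.σ x) := by
            rw [← mul_assoc (x * S.σ x), mul_assoc x, Subgroup.mem_center_iff.1 hcx, ← mul_assoc x x, hx,
              one_mul, hy, one_mul]
        _ = x * S.σ x := by rw [mul_assoc (x * S.σ x), hu, mul_one]
    · have h := this (x := x * S.τ) (Subgroup.mul_mem _ hcx S.τ_cen) (by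
        rw [mul_assoc, ← mul_assoc S.τ, ← S.τ_mul x, mul_assoc x, S.τ_sq, mul_one, hx])
        (fun h => hxt (by rw [eq_inv_of_mul_eq_one_left h, inv_eq_of_mul_eq_one_right S.τ_sq]))
        (fun h => hx1 (mul_right_cancel (h.trans (one_mul _).symm))) (by
          have hy : S.σ x * S.σ x = 1 := by rw [← map_mul, hx, map_one]
          have e : S.σ (S.σ x) = x * S.σ x * S.τ := by
            rw [← hu, ← mul_assoc (x * S.σ x), ← mul_assoc (x * S.σ x), mul_assoc x,
              Subgroup.mem_center_iff.1 hcx, ← mul_assoc x x, hx, one_mul, hy, one_mul]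
          rw [map_mul, map_mul, S.σ_τ, S.σ_τ, e, mul_assoc (x * S.σ x), S.τ_sq, mul_one,
            mul_assoc x S.τ, ← mul_assoc S.τ, ← S.τ_mul (S.σ x), mul_assoc (S.σ x), S.τ_sq, mul_one])
      rw [mul_assoc, S.τ_sq, mul_one] at h
      exact h.symm
  set y := S.σ x with hy
  obtain ⟨V, hV4, hVmem, hτV⟩ := S.exists_four hx hx1 hxt (Subgroup.mem_center_iff.1 hcx _).symm hp
  haveI : Fintype V := Fintype.ofFinite _
  obtain ⟨n, hn⟩ := twist_sum S.char V 2 S.τ (by rw [pow_two, S.τ_sq])
    (fun w _ => (S.τ_mul w).symm) (-1) (by simp)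
  have hy1 : y ≠ 1 := fun h => hx1 (S.σ.injective (h.trans (map_one _).symm))
  have hxy : y ≠ x := S.not_fixed hx1 hxt
  have n1 : x * y ≠ 1 := fun h => hxy (mul_left_cancel (h.trans hx.symm))
  have hsum : ∀ f : P → ℂ, ∑ w : V, f w = f 1 + f x + f y + f (x * y) := by
    intro f
    rw [← Finset.sum_subtype ({1, x, y, x * y} : Finset P) (fun v => by simpa using (hVmem v).symm) f,
      Finset.sum_insert (by simp [Ne.symm hx1, Ne.symm hy1, Ne.symm n1]),
      Finset.sum_insert (by simp [Ne.symm hxy, hy1]),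
      Finset.sum_insert (by simp [hx1]), Finset.sum_singleton]
    simp only [add_assoc]
  simp only [Finset.sum_range_succ, Finset.sum_range_zero, zero_add, pow_zero, one_mul, pow_one] at hn
  rw [hsum fun w => S.χ w, hsum fun w => S.χ (S.τ * w), hV4] at hn
  have e1 : S.χ (S.τ * x) = S.χ (x * S.τ) := by rw [S.τ_mul]
  have e2 : S.χ (S.τ * y) = S.χ (x * S.τ) := by rw [← S.chi_σ (x * S.τ), map_mul, S.σ_τ, ← hy, S.τ_mul]
  have e3 : S.χ (S.τ * (x * y)) = S.χ (x * S.τ) := by
    rw [← hp, ← S.chi_σ (x * S.τ), ← S.chi_σ (S.σ (x * S.τ)), map_mul, map_mul, S.σ_τ, S.σ_τ, S.τ_mul]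
  have e4 : S.χ y = S.χ x := S.chi_σ x
  have e5 : S.χ (x * y) = S.χ x := by rw [← hp, S.chi_σ, S.chi_σ]
  rw [mul_one, S.chi_one, S.chi_τ, e1, e2, e3, e4, e5] at hn
  simp only [Units.val_neg, Units.val_one, map_neg, map_one, mul_one, mul_neg] at hn
  have hxτ1 : x * S.τ ≠ 1 := fun h => hxt (by
    rw [eq_inv_of_mul_eq_one_left h, inv_eq_of_mul_eq_one_right S.τ_sq])
  have hxτ2 : x * S.τ * (x * S.τ) = 1 := by
    rw [mul_assoc, ← mul_assoc S.τ, ← S.τ_mul x, mul_assoc x, S.τ_sq, mul_one, hx]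
  rcases S.chi_inv x hx hx1 with ha | ha <;> rcases S.chi_inv _ hxτ2 hxτ1 with hb | hb <;>
    rw [ha, hb] at hn ⊢
  all_goals
    exfalso
    push_cast at hn
  · have h : (20 : ℤ) = (n : ℤ) * 8 := by apply Int.cast_injective (α := ℂ); push_cast; linear_combination hn
    omega
  · have h : (-4 : ℤ) = (n : ℤ) * 8 := by apply Int.cast_injective (α := ℂ); push_cast; linear_combination hn
    omega

/-- No element squares outside a complement of `τ` in an elementary abelian group of order eight. -/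
theorem no_root {q c : P} (W : Subgroup P) [Fintype W] (hW : Nat.card W = 4) (hcq : q * q = c)
    (hc2 : c * c = 1) (hWc : ∀ w ∈ W, Commute q w) (hinv : ∀ w ∈ W, w * w = 1)
    (h1 : ∑ w : W, S.χ w - ∑ w : W, S.χ (c * w) = 8) : False := by
  obtain ⟨n, hn⟩ := twist_sum S.char W 4 q
    (by rw [show 4 = 2 * 2 from rfl, pow_mul, pow_two q, hcq, pow_two, hc2]) hWc
    (Units.mk0 Complex.I Complex.I_ne_zero) (by ext; simp)
  have e3 : ∀ w : W, S.χ (q ^ 3 * w) = S.χ (q * w) := by
    intro w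
    rw [← S.chi_real (q * w)]
    congr 1
    refine eq_inv_of_mul_eq_one_left ?_
    rw [(hWc w w.2).eq, ← mul_assoc, mul_assoc _ (w : P) (w : P), hinv w w.2, mul_one, ← pow_succ,
      show 3 + 1 = 2 * 2 from rfl, pow_mul, pow_two q, hcq, pow_two, hc2]
  simp only [Finset.sum_range_succ, Finset.sum_range_zero, zero_add, pow_zero, one_mul, pow_one, map_one,
    mul_one, Units.val_mk0, e3, hW] at hn
  rw [pow_two q, hcq] at hn
  simp only [map_pow, Complex.conj_I, neg_sq, Complex.I_sq,
    show (-Complex.I) ^ 3 = Complex.I by rw [pow_succ, neg_sq, Complex.I_sq]; ring] at hn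
  have h : (8 : ℤ) = (n : ℤ) * 16 := by
    apply Int.cast_injective (α := ℂ)
    simp only [map_neg, map_one] at hn
    push_cast at hn ⊢
    linear_combination hn - h1
  omega

theorem center_eq : ∀ x ∈ Subgroup.center P, x = 1 ∨ x = S.τ := by
  classical
  set Z := Subgroup.center P with hZ
  by_contra hne
  push Not at hne
  have hσZ : ∀ x ∈ Z, S.σ x ∈ Z := fun x hx => Subgroup.mem_center_iff.2 fun g => by
    obtain ⟨g, rfl⟩ := S.σ.surjective g
    rw [← map_mul, ← map_mul, Subgroup.mem_center_iff.1 hx g]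
  -- an involution
  obtain ⟨x0, hx0Z, hx01, hx0t, hx02⟩ : ∃ x ∈ Z, x ≠ 1 ∧ x ≠ S.τ ∧ x * x = 1 := by
    obtain ⟨z, hz, hz1, hzt⟩ := hne
    have hsq : ∀ k : ℕ, ∀ z ∈ Z, z ≠ 1 → z ≠ S.τ → z ^ 2 ^ k = 1 →
        ∃ w ∈ Z, w ≠ 1 ∧ w ≠ S.τ ∧ (w * w = 1 ∨ w * w = S.τ) := by
      intro k
      induction k with
      | zero => intro z _ h1 _ h; rw [pow_zero, pow_one] at h; exact absurd h h1
      | succ k ih =>
        intro z hz h1 ht h
        by_cases hw : z * z = 1 ∨ z * z = S.τ
        · exact ⟨z, hz, h1, ht, hw⟩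
        · push Not at hw
          exact ih _ (Z.mul_mem hz hz) hw.1 hw.2 (by rw [← pow_two, ← pow_mul, ← pow_succ']; exact h)
    obtain ⟨w, hw, hw1, hwt, hww⟩ := hsq 5 z hz hz1 hzt (S.pow_32 z)
    rcases hww with hww | hww
    · exact ⟨w, hw, hw1, hwt, hww⟩
    refine ⟨w⁻¹ * S.σ w, Z.mul_mem (Z.inv_mem hw) (hσZ w hw), fun h => S.not_fixed hw1 hwt
      (inv_mul_eq_one.1 h).symm, fun h => ?_, ?_⟩
    · have e : S.σ w = w * S.τ := inv_mul_eq_iff_eq_mul.1 h
      have h3 := S.three w
      rw [e, map_mul, S.σ_τ, e, mul_assoc w, S.τ_sq, mul_one, e] at h3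
      exact S.τ_ne (mul_left_cancel (h3.trans (mul_one w).symm))
    · have hcomm : ∀ g, g * w⁻¹ = w⁻¹ * g := Subgroup.mem_center_iff.1 (Z.inv_mem hw)
      rw [mul_assoc, ← mul_assoc (S.σ w), hcomm, mul_assoc, ← map_mul, hww, S.σ_τ, ← mul_assoc,
        ← mul_inv_rev, hww, inv_mul_cancel]
  -- arrange the product over the orbit to be one
  obtain ⟨x, hxZ, hx1, hxt, hx2, hp⟩ : ∃ x ∈ Z, x ≠ 1 ∧ x ≠ S.τ ∧ x * x = 1 ∧
      S.σ (S.σ x) = x * S.σ x := by
    set y0 := S.σ x0 with hy0
    have hy : y0 * y0 = 1 := by rw [hy0, ← map_mul, hx02, map_one]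
    have e : S.σ y0 = x0 * y0 * (x0 * y0 * S.σ y0) := by
      rw [← mul_assoc, ← mul_assoc, mul_assoc x0, Subgroup.mem_center_iff.1 hx0Z, ← mul_assoc x0 x0, hx02,
        one_mul, hy, one_mul]
    rcases (S.fixed (x0 * y0 * S.σ y0)).1 (by
      rw [map_mul, map_mul, hy0, S.three, mul_assoc x0, (Subgroup.mem_center_iff.1 hx0Z _)]) with hu | hu
    · exact ⟨x0, hx0Z, hx01, hx0t, hx02, by rw [← hy0]; conv_lhs => rw [e, hu, mul_one]⟩
    · refine ⟨x0 * S.τ, Z.mul_mem hx0Z S.τ_cen, fun h => hx0t (by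
        rw [eq_inv_of_mul_eq_one_left h, inv_eq_of_mul_eq_one_right S.τ_sq]),
        fun h => hx01 (mul_right_cancel (h.trans (one_mul _).symm)), ?_, ?_⟩
      · rw [mul_assoc, ← mul_assoc S.τ, ← S.τ_mul x0, mul_assoc x0, S.τ_sq, mul_one, hx02]
      · rw [map_mul, map_mul, S.σ_τ, S.σ_τ, ← hy0]
        conv_lhs => rw [e, hu]
        rw [mul_assoc (x0 * y0), S.τ_sq, mul_one, mul_assoc x0 S.τ, ← mul_assoc S.τ, ← S.τ_mul y0,
          mul_assoc y0, S.τ_sq, mul_one]
  set y := S.σ x with hy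
  obtain ⟨V, hV4, hVmem, hτV⟩ := S.exists_four hx2 hx1 hxt (Subgroup.mem_center_iff.1 hxZ _).symm hp
  haveI : Fintype V := Fintype.ofFinite _
  have hVZ : V ≤ Z := fun v hv => by
    rcases (hVmem v).1 hv with rfl | rfl | rfl | rfl
    exacts [Z.one_mem, hxZ, hσZ x hxZ, Z.mul_mem hxZ (hσZ x hxZ)]
  have hV2 : ∀ v ∈ V, v * v = 1 := fun v hv => by
    have hy2 : y * y = 1 := by rw [hy, ← map_mul, hx2, map_one]
    rcases (hVmem v).1 hv with rfl | rfl | rfl | rfl
    · exact one_mul 1
    · exact hx2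
    · exact hy2
    · rw [mul_assoc, ← mul_assoc y, Subgroup.mem_center_iff.1 hxZ y, mul_assoc, hy2, mul_one, hx2]
  have hVσ : ∀ v ∈ V, S.σ v ∈ V := fun v hv => by
    rw [hVmem]
    rcases (hVmem v).1 hv with rfl | rfl | rfl | rfl
    · exact Or.inl (map_one _)
    · exact Or.inr (Or.inr (Or.inl rfl))
    · exact Or.inr (Or.inr (Or.inr hp))
    · refine Or.inr (Or.inl ?_)
      rw [← hp, S.three]
  -- the elementary group of order eight
  have hτc : ∀ v : P, S.τ * v = v * S.τ := fun v => (S.τ_mul v).symm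
  let E : Subgroup P :=
    { carrier := {e | e ∈ V ∨ S.τ * e ∈ V}
      one_mem' := Or.inl V.one_mem
      mul_mem' := by
        rintro a b (ha | ha) (hb | hb)
        · exact Or.inl (V.mul_mem ha hb)
        · right
          rw [← mul_assoc, hτc a, mul_assoc]
          exact V.mul_mem ha hb
        · right
          rw [← mul_assoc]
          exact V.mul_mem ha hb
        · left
          have := V.mul_mem ha hb
          rwa [mul_assoc, ← mul_assoc a, ← hτc a, ← mul_assoc, ← mul_assoc, S.τ_sq, one_mul] at this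
      inv_mem' := by
        rintro a (ha | ha)
        · exact Or.inl (V.inv_mem ha)
        · right
          have := V.inv_mem ha
          rwa [mul_inv_rev, inv_eq_of_mul_eq_one_right S.τ_sq, ← hτc] at this }
  have hEZ : E ≤ Z := by
    rintro e (he | he)
    · exact hVZ he
    · have := Z.mul_mem S.τ_cen (hVZ he)
      rwa [← mul_assoc, S.τ_sq, one_mul] at this
  have hE8 : Nat.card E = 8 := by
    have hs : (E : Set P) = (V : Set P) ∪ (fun v => S.τ * v) '' (V : Set P) := by
      ext e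
      simp only [Set.mem_union, Set.mem_image, SetLike.mem_coe]
      constructor
      · rintro (he | he)
        · exact Or.inl he
        · exact Or.inr ⟨_, he, by rw [← mul_assoc, S.τ_sq, one_mul]⟩
      · rintro (he | ⟨v, hv, rfl⟩)
        · exact Or.inl he
        · right; rw [← mul_assoc, S.τ_sq, one_mul]; exact hv
    rw [← SetLike.coe_sort_coe, hs, Nat.card_coe_set_eq, Set.ncard_union_eq,
      Set.ncard_image_of_injective _ (mul_right_injective S.τ), ← Nat.card_coe_set_eq, SetLike.coe_sort_coe,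
      hV4]
    rw [Set.disjoint_right]
    rintro _ ⟨v, hv, rfl⟩ hmem
    have := V.mul_mem hmem (V.inv_mem hv)
    rw [mul_inv_cancel_right] at this
    exact hτV this
  have hidx : E.index = 4 := by
    have h := E.card_mul_index
    rw [hE8, S.card] at h
    omega
  have hEσ : ∀ e ∈ E, S.σ e ∈ E := by
    rintro e (he | he)
    · exact Or.inl (hVσ e he)
    · refine Or.inr ?_
      have := hVσ _ he
      rwa [map_mul, S.σ_τ] at this
  obtain ⟨hsq, r, s, hfix, hcomm⟩ := comm_of_four (n := 5) S.card E hEZ S.σ hEσ S.three (fun g hg => by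
    rcases (S.fixed g).1 hg with rfl | rfl
    · exact E.one_mem
    · exact Or.inr (by rw [S.τ_sq]; exact V.one_mem)) hidx
  -- values on the elements
  have hval : ∀ v ∈ V, v ≠ 1 → S.χ v = S.χ x ∧ S.χ (S.τ * v) = S.χ x := by
    intro v hv hv1
    have hχ : S.χ v = S.χ x := by
      rcases (hVmem v).1 hv with rfl | rfl | rfl | rfl
      · exact absurd rfl hv1
      · rfl
      · exact S.chi_σ x
      · rw [← hp, S.chi_σ, S.chi_σ]
    refine ⟨hχ, ?_⟩
    rw [hτc, S.val_mul_τ (hVZ hv) (hV2 v hv) hv1 fun e => hτV (e ▸ hv), hχ]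
  -- every square lies in `V`
  have hsqV : ∀ q, q * q ∈ V := by
    intro q
    refine (hsq q).resolve_right fun hq => ?_
    refine S.no_root V hV4 (c := q * q) rfl ?_ (fun w hw => Subgroup.mem_center_iff.1 (hVZ hw) q) hV2 ?_
    · have h := hV2 _ hq
      have e : S.τ * (q * q) * (S.τ * (q * q)) = S.τ * S.τ * (q * q * (q * q)) :=
        (show Commute (q * q) S.τ from (hτc _).symm).mul_mul_mul_comm S.τ (q * q)
      rwa [e, S.τ_sq, one_mul] at h
    · have hv : ∀ w : V, S.χ (q * q * w) = S.χ (S.τ * ((S.τ * (q * q)) * w)) := fun w => by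
        rw [← mul_assoc S.τ, ← mul_assoc S.τ, S.τ_sq, one_mul]
      rw [Finset.sum_congr rfl fun w _ => hv w,
        Fintype.sum_equiv (Equiv.mulLeft (⟨_, hq⟩ : V)) (fun w => S.χ (S.τ * (S.τ * (q * q) * w)))
          (fun w => S.χ (S.τ * w)) fun w => rfl, ← Finset.sum_sub_distrib,
        Finset.sum_eq_single (1 : V)]
      · rw [Subgroup.coe_one, mul_one, S.chi_one, S.chi_τ]; norm_num
      · intro w _ hw
        obtain ⟨h1, h2⟩ := hval w w.2 fun e => hw (Subtype.ext e)
        rw [h1, h2, sub_self]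
      · simp
  -- hence the group is abelian
  have hab : ∀ a b : P, Commute a b := by
    refine hcomm ?_
    rcases (S.fixed _).1 hfix with h | h
    · exact h
    · exfalso
      apply hτV
      rw [← h, show r * s * r⁻¹ * s⁻¹ = r * r * ((r⁻¹ * s) * (r⁻¹ * s)) * (s⁻¹ * s⁻¹) by group]
      exact V.mul_mem (V.mul_mem (hsqV _) (hsqV _)) (hsqV _)
  -- and elementary
  have hel : ∀ q : P, q * q = 1 := by
    intro q
    by_contra hq
    set c := q * q with hcdef
    have hcV : c ∈ V := hsqV q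
    have hct : c ≠ S.τ := fun e => hτV (e ▸ hcV)
    have hyV : ∃ c' ∈ V, c' ≠ 1 ∧ c' ≠ c := by
      by_cases hcx : c = x
      · refine ⟨y, (hVmem y).2 (Or.inr (Or.inr (Or.inl rfl))), fun h => hx1 ?_, ?_⟩
        · exact S.σ.injective (h.trans (map_one _).symm)
        · rw [hcx]; exact S.not_fixed hx1 hxt
      · exact ⟨x, (hVmem x).2 (Or.inr (Or.inl rfl)), hx1, Ne.symm hcx⟩
    obtain ⟨c', hc'V, hc'1, hc'c⟩ := hyV
    set d := S.τ * c with hd
    have hd2 : d * d = 1 := by
      rw [hd, mul_assoc, ← mul_assoc c, ← hτc c, mul_assoc S.τ c, hV2 c hcV, mul_one, S.τ_sq]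
    have hc'2 := hV2 _ hc'V
    have hdV : d ∉ V := fun h => by
      have := V.mul_mem h hcV
      rw [hd, mul_assoc, hV2 c hcV, mul_one] at this
      exact hτV this
    have e1 : c' * (c' * d) = d := by rw [← mul_assoc, hc'2, one_mul]
    have e2 : c' * d * d = c' := by rw [mul_assoc, hd2, mul_one]
    have e3 : d * c' = c' * d := hab _ _
    have e4 : c' * d * c' = d := by rw [mul_assoc, e3, e1]
    have e5 : d * (c' * d) = c' := by rw [← mul_assoc, e3, e2]
    have e6 : c' * d * (c' * d) = 1 := by rw [← mul_assoc, e4, hd2]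
    let W : Subgroup P :=
      { carrier := {v | v = 1 ∨ v = c' ∨ v = d ∨ v = c' * d}
        one_mem' := Or.inl rfl
        mul_mem' := by
          rintro a b (rfl | rfl | rfl | rfl) (rfl | rfl | rfl | rfl) <;>
            simp [hc'2, hd2, e1, e2, e3, e4, e5, e6]
        inv_mem' := by
          rintro a (rfl | rfl | rfl | rfl) <;>
            simp [inv_eq_of_mul_eq_one_right hc'2, inv_eq_of_mul_eq_one_right hd2, ← mul_inv_rev, e3,
              inv_eq_of_mul_eq_one_right e6] }
    haveI : Fintype W := Fintype.ofFinite _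
    have n1 : d ≠ 1 := fun h => hdV (h ▸ V.one_mem)
    have n2 : d ≠ c' := fun h => hdV (h ▸ hc'V)
    have n3 : c' * d ≠ 1 := fun h => n2 (mul_left_cancel (h.trans hc'2.symm))
    have n4 : c' * d ≠ c' := fun h => n1 (mul_left_cancel (h.trans (mul_one _).symm))
    have n5 : c' * d ≠ d := fun h => hc'1 (mul_right_cancel (h.trans (one_mul _).symm))
    have hW4 : Nat.card W = 4 := by
      have hs : (W : Set P) = (({1, c', d, c' * d} : Finset P) : Set P) := by
        ext v; simp [W]
      rw [← SetLike.coe_sort_coe, hs, Nat.card_coe_set_eq, Set.ncard_coe_finset]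
      simp [Finset.card_insert_of_notMem, Ne.symm hc'1, Ne.symm n1, Ne.symm n2, Ne.symm n3, Ne.symm n4,
        Ne.symm n5, hc'1, n1]
    have hsum : ∀ f : P → ℂ, ∑ w : W, f w = f 1 + f c' + f d + f (c' * d) := by
      intro f
      rw [← Finset.sum_subtype ({1, c', d, c' * d} : Finset P) (fun v => by simp [W]) f,
        Finset.sum_insert (by simp [Ne.symm hc'1, Ne.symm n1, Ne.symm n3]),
        Finset.sum_insert (by simp [Ne.symm n2, Ne.symm n4, hc'1]),
        Finset.sum_insert (by simp [n1, hc'1]), Finset.sum_singleton]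
      simp only [add_assoc]
    refine S.no_root W hW4 (c := c) rfl (hV2 c hcV) (fun w _ => hab _ _) (fun w hw => ?_) ?_
    · rcases hw with rfl | rfl | rfl | rfl
      exacts [one_mul 1, hc'2, hd2, e6]
    · rw [hsum fun w => S.χ w, hsum fun w => S.χ (c * w)]
      have hcc' : c * c' ≠ 1 := fun h => hc'c (mul_left_cancel (h.trans (hV2 c hcV).symm))
      have k1 : c * d = S.τ := by rw [hd, hτc, ← mul_assoc, hV2 c hcV, one_mul]
      have k2 : c * (c' * d) = S.τ * c' := by
        rw [← e3, ← mul_assoc, k1]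
      have k3 : c' * d = S.τ * (c * c') := by rw [← e3, hd, mul_assoc]
      rw [mul_one, S.chi_one, k2, k1, S.chi_τ, (hval c hcV hq).1, (hval c' hc'V hc'1).1,
        (hval c' hc'V hc'1).2, hd, (hval c hcV hq).2, (hval _ (V.mul_mem hcV hc'V) hcc').1, ← hd, k3,
        (hval _ (V.mul_mem hcV hc'V) hcc').2]
      ring
  -- a complement of `τ` of order sixteen
  let D : P →* P :=
    { toFun := fun g => g * S.σ g
      map_one' := by simp
      map_mul' := fun a b => by
        rw [map_mul]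
        exact (hab b (S.σ a)).mul_mul_mul_comm a (S.σ b) }
  have hker : ∀ g, D g = 1 ↔ g = 1 ∨ g = S.τ := fun g => by
    rw [← S.fixed, show D g = g * S.σ g from rfl, mul_eq_one_iff_inv_eq, inv_eq_of_mul_eq_one_right (hel g)]
    exact eq_comm
  have hτD : S.τ ∉ D.range := by
    rintro ⟨g, hg⟩
    have hg' : g * S.σ g = S.τ := hg
    have e : S.σ g = g * S.τ := by rw [← hg', ← mul_assoc, hel, one_mul]
    have h3 := S.three g
    rw [e, map_mul, S.σ_τ, e, mul_assoc g, S.τ_sq, mul_one, e] at h3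
    exact S.τ_ne (mul_left_cancel (h3.trans (mul_one g).symm))
  have hk : D.ker = Subgroup.zpowers S.τ := by
    ext g
    rw [MonoidHom.mem_ker, hker]
    constructor
    · rintro (rfl | rfl)
      · exact Subgroup.one_mem _
      · exact Subgroup.mem_zpowers _
    · intro hg
      rw [← IsOfFinOrder.mem_powers_iff_mem_zpowers (isOfFinOrder_of_finite _)] at hg
      obtain ⟨i, rfl⟩ := hg
      rcases Nat.even_or_odd' i with ⟨j, rfl | rfl⟩
      · left; show S.τ ^ (2 * j) = 1; rw [pow_mul, pow_two, S.τ_sq, one_pow]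
      · right; show S.τ ^ (2 * j + 1) = S.τ; rw [pow_succ, pow_mul, pow_two, S.τ_sq, one_pow, one_mul]
  haveI : Fact (Nat.Prime 2) := ⟨Nat.prime_two⟩
  have hD16 : Nat.card D.range = 16 := by
    have h1 := D.ker.card_mul_index
    rw [Subgroup.index_ker, hk, Nat.card_zpowers,
      orderOf_eq_prime (by rw [pow_two, S.τ_sq]) S.τ_ne, S.card] at h1
    omega
  haveI : Fintype D.range := Fintype.ofFinite _
  obtain ⟨n, hn⟩ := twist_sum S.char D.range 2 S.τ (by rw [pow_two, S.τ_sq])
    (fun w _ => hτc w) (-1) (by simp)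
  simp only [Finset.sum_range_succ, Finset.sum_range_zero, zero_add, pow_zero, one_mul, pow_one, map_one,
    mul_one, Units.val_neg, Units.val_one, map_neg, mul_neg, ← sub_eq_add_neg, ← Finset.sum_sub_distrib,
    hD16] at hn
  rw [Finset.sum_eq_single (1 : D.range)] at hn
  · rw [Subgroup.coe_one, mul_one, S.chi_one, S.chi_τ] at hn
    have h : (8 : ℤ) = (n : ℤ) * 32 := by
      apply Int.cast_injective (α := ℂ); push_cast at hn ⊢; linear_combination hn
    omega
  · intro w _ hw
    rw [hτc, S.val_mul_τ (Subgroup.mem_center_iff.2 fun g => hab g w) (hel w)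
      (fun e => hw (Subtype.ext e)) (fun e => hτD (e ▸ w.2)), sub_self]
  · simp

include S in
theorem center_card : Nat.card (Subgroup.center P) = 2 := by
  haveI : Fact (Nat.Prime 2) := ⟨Nat.prime_two⟩
  have hle : Subgroup.center P = Subgroup.zpowers S.τ := by
    refine le_antisymm (fun g hg => ?_) (Subgroup.zpowers_le.2 S.τ_cen)
    rcases S.center_eq g hg with rfl | rfl
    · exact Subgroup.one_mem _
    · exact Subgroup.mem_zpowers _
  rw [hle, Nat.card_zpowers, orderOf_eq_prime (by rw [pow_two, S.τ_sq]) S.τ_ne]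

include S in
/-- The group is extraspecial. -/
theorem extraspecial : IsExtraspecial 2 P := by
  classical
  haveI : Fact (Nat.Prime 2) := ⟨Nat.prime_two⟩
  set Z := Subgroup.center P with hZ
  have hZ2 : Nat.card Z = 2 := S.center_card
  have hmemZ : ∀ g, g ∈ Z ↔ g = 1 ∨ g = S.τ := fun g =>
    ⟨S.center_eq g, by rintro (rfl | rfl); exacts [Z.one_mem, S.τ_cen]⟩
  have hσZ : ∀ g ∈ Z, S.σ g ∈ Z := fun g hg => by
    rcases (hmemZ g).1 hg with rfl | rfl
    · rw [map_one]; exact Z.one_mem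
    · rw [S.σ_τ]; exact S.τ_cen
  have hmap : Z.map S.σ.toMonoidHom = Z := by
    refine Subgroup.eq_of_le_of_card_ge (by rintro _ ⟨g, hg, rfl⟩; exact hσZ g hg) ?_
    rw [Subgroup.card_map_of_injective S.σ.injective]
  let σ' : P ⧸ Z ≃* P ⧸ Z := QuotientGroup.congr Z Z S.σ hmap
  have hσ' : ∀ g, σ' (QuotientGroup.mk g) = QuotientGroup.mk (S.σ g) := fun g => rfl
  have h3' : ∀ y, σ' (σ' (σ' y)) = y := fun y => by
    obtain ⟨g, rfl⟩ := QuotientGroup.mk_surjective y
    rw [hσ', hσ', hσ', S.three]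
  have hfix' : ∀ y, σ' y = y → y = 1 := fun y hy => by
    obtain ⟨g, rfl⟩ := QuotientGroup.mk_surjective y
    rw [hσ', QuotientGroup.eq] at hy
    rcases (hmemZ _).1 hy with h | h
    · rw [QuotientGroup.eq_one_iff]
      exact (hmemZ g).2 ((S.fixed g).1 (inv_mul_eq_one.1 h))
    · exfalso
      have e : g = S.σ g * S.τ := inv_mul_eq_iff_eq_mul.1 h
      have e' : S.σ g = g * S.τ := by
        conv_rhs => rw [e]
        rw [mul_assoc, S.τ_sq, mul_one]
      have h3 := S.three g
      rw [e', map_mul, S.σ_τ, e', mul_assoc g, S.τ_sq, mul_one, e'] at h3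
      exact S.τ_ne (mul_left_cancel (h3.trans (mul_one g).symm))
  have hR16 : Nat.card (P ⧸ Z) = 16 := by
    have h := Z.card_eq_card_quotient_mul_card_subgroup
    rw [S.card, hZ2] at h
    omega
  -- the quotient is abelian
  have hRab : ∀ a b : P ⧸ Z, Commute a b := by
    set A := Subgroup.center (P ⧸ Z) with hA
    have hAσ : ∀ a ∈ A, σ' a ∈ A := fun a ha => Subgroup.mem_center_iff.2 fun g => by
      obtain ⟨g, rfl⟩ := σ'.surjective g
      rw [← map_mul, ← map_mul, Subgroup.mem_center_iff.1 ha g]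
    obtain ⟨j, hj, hAj⟩ := (Nat.dvd_prime_pow (m := 4) Nat.prime_two).1
      (show Nat.card A ∣ 2 ^ 4 from by have h := A.card_subgroup_dvd_card; rw [hR16] at h; exact h)
    haveI : Nontrivial (P ⧸ Z) := Finite.one_lt_card_iff_nontrivial.1 (by rw [hR16]; norm_num)
    have hnt : 1 < Nat.card A := Finite.one_lt_card_iff_nontrivial.2
      (IsPGroup.of_card (p := 2) (n := 4) (by rw [hR16]; norm_num)).center_nontrivial
    interval_cases j
    · rw [hAj] at hnt; norm_num at hnt
    · -- a unique involution in the centre would be fixed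
      exfalso
      obtain ⟨y, hy, hy1⟩ := A.nontrivial_iff_exists_ne_one.1 (Finite.one_lt_card_iff_nontrivial.1 hnt)
      obtain ⟨b, hb, huniq⟩ := (Nat.card_eq_two_iff' (1 : A)).1 hAj
      have h1 := huniq ⟨y, hy⟩ fun e => hy1 (congrArg Subtype.val e)
      have h2 := huniq ⟨σ' y, hAσ y hy⟩ fun e => hy1
        (σ'.injective ((congrArg Subtype.val e).trans (map_one σ').symm))
      exact hy1 (hfix' y (congrArg Subtype.val (h2.trans h1.symm)))
    · have hidx : A.index = 4 := by
        have h := A.card_mul_index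
        rw [hAj, hR16] at h
        omega
      obtain ⟨-, r, s, hf, hcomm⟩ := comm_of_four (n := 4) (by rw [hR16]; norm_num) A le_rfl σ' hAσ h3'
        (fun g hg => (hfix' g hg).symm ▸ A.one_mem) hidx
      exact hcomm (hfix' _ hf)
    · exfalso
      have hidx : A.index = 2 := by
        have h := A.card_mul_index
        rw [hAj, hR16] at h
        omega
      haveI : IsCyclic ((P ⧸ Z) ⧸ A) := isCyclic_of_prime_card (p := 2) hidx
      have hab : ∀ a b : P ⧸ Z, a * b = b * a :=
        commutative_of_cyclic_center_quotient (QuotientGroup.mk' A)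
          (by rw [QuotientGroup.ker_mk'])
      have htop : A = ⊤ := Subgroup.eq_top_iff' A |>.2 fun g => Subgroup.mem_center_iff.2 fun k => hab k g
      rw [htop, Subgroup.index_top] at hidx
      norm_num at hidx
    · intro a b
      have htop : A = ⊤ := Subgroup.eq_top_of_card_eq _ (by rw [hAj, hR16]; norm_num)
      exact Subgroup.mem_center_iff.1 (show b ∈ A by rw [htop]; exact Subgroup.mem_top b) a
  have hcZ : ∀ a b : P, a * b * a⁻¹ * b⁻¹ ∈ Z := fun a b => by
    rw [← QuotientGroup.eq_one_iff]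
    show ((a : P ⧸ Z) * b) * (a : P ⧸ Z)⁻¹ * (b : P ⧸ Z)⁻¹ = 1
    rw [(hRab a b).eq, mul_inv_cancel_right, mul_inv_cancel]
  have hc2 : ∀ c ∈ Z, c * c = 1 := fun c hc => by
    rcases (hmemZ c).1 hc with rfl | rfl
    · exact one_mul 1
    · exact S.τ_sq
  have hsqZ : ∀ a : P, a * a ∈ Z := fun a => Subgroup.mem_center_iff.2 fun b => by
    set c := a * b * a⁻¹ * b⁻¹ with hc
    have hcc := hc2 c (hcZ a b)
    have hcen := Subgroup.mem_center_iff.1 (hcZ a b)
    have e1 : a * b = c * (b * a) := by rw [hc]; group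
    symm
    calc a * a * b = a * (c * (b * a)) := by rw [mul_assoc, e1]
      _ = c * (a * b) * a := by rw [← mul_assoc a, hcen a, mul_assoc c, ← mul_assoc a b a, ← mul_assoc c]
      _ = c * c * (b * (a * a)) := by rw [e1]; group
      _ = b * (a * a) := by rw [hcc, one_mul]
  have hp : IsPGroup 2 P := IsPGroup.of_card (n := 5) S.card
  have hab' : ∃ a b : P, a * b * a⁻¹ * b⁻¹ ≠ 1 := by
    by_contra h
    push Not at h
    have htop : Z = ⊤ := Subgroup.eq_top_iff' Z |>.2 fun g => Subgroup.mem_center_iff.2 fun k =>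
      mul_inv_eq_iff_eq_mul.1 (mul_inv_eq_one.1 (h k g))
    rw [htop, Subgroup.card_top, S.card] at hZ2
    norm_num at hZ2
  have hcomm : commutator P = Z := by
    have hle : commutator P ≤ Z := by
      rw [commutator_def, Subgroup.commutator_le]
      intro a _ b _
      exact hcZ a b
    refine Subgroup.eq_of_le_of_card_ge hle ?_
    obtain ⟨a, b, hne⟩ := hab'
    rw [hZ2]
    refine Finite.one_lt_card_iff_nontrivial.2 ((commutator P).nontrivial_iff_exists_ne_one.2 ⟨_, ?_, hne⟩)
    exact Subgroup.commutator_mem_commutator (Subgroup.mem_top a) (Subgroup.mem_top b)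
  refine ⟨⟨hp, le_antisymm ?_ ?_, hcomm⟩, hZ2⟩
  · haveI : Z.Normal := inferInstanceAs (Subgroup.center P).Normal
    exact Cfsg.Agent.Grp.frattini_le_of_elementary Nat.prime_two hcomm.le fun a => by
      rw [pow_two]; exact hsqZ a
  · exact hcomm.ge.trans (Cfsg.Agent.Grp.pGroup_commutator_le_frattini hp)

end Shape

end Cfsg.Agent.Invol.M12Ord
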