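import Cfsg.Agent.Lib.Invol.Order95040.Search

/-!
Order 95040: the exhaustive check of the characters of degree divisible by eleven, by their values at
an element `u` of order five, at the involution `w` centralising it and at `u * w`.
-/

set_option autoImplicit false

namespace Cfsg.Agent.Invol.M12Ord

/-- Weights: squared degree, squared values at `u`, `w`, `u w`, degree, degree times the values at
`u` and `w`, the product of the values at `u` and `w`, code. -/
abbrev WT : Type := ℤ × ℤ × ℤ × ℤ × ℤ × ℤ × ℤ × ℤ × ℕ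

/-- The possible degrees. -/
def degsT : List ℤ := [176, 220, 198, 165, 132, 110, 99, 88, 66, 55, 44, 33, 22, 11]

/-- The expected characters: degree and the values at `u`, `w`, `u w`. -/
def expected (s : ℤ) : List (ℤ × ℤ × ℤ × ℤ) :=
  [(11, 1, -1, -1), (55, 0, -5, 0), (66, 1, 6, 1), (99, -1, -1, -1), (176, 1, -4 * s, s)]

/-- The place of a character in the code: five for the unexpected ones. -/
def place (s : ℤ) (k : ℤ × ℤ × ℤ × ℤ) : ℕ := 64 ^ (expected s).idxOf k

/-- The expected code. -/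
def codeT : ℕ := 2 + 3 * 64 + 64 ^ 2 + 64 ^ 3 + 64 ^ 4

/-- Whether the values are possible for a character of degree `d`. -/
def okT (h : ℕ) (budget : ℤ) (k : ℤ × ℤ × ℤ × ℤ) : Bool :=
  let d := k.1
  let au := k.2.1
  let aw := k.2.2.1
  let az := k.2.2.2
  decide (au * au ≤ 5) && (au - d) % 5 == 0 && (aw - d) % 4 == 0 && decide (aw * aw ≤ budget) &&
    (((95040 / h : ℕ) : ℤ) * aw) % d == 0 && decide (az * az ≤ 5) && (az - au) % 2 == 0 &&
    (az - aw) % 5 == 0 && (d % 5 != 0 || az == 0)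

def rawT : List (ℤ × ℤ × ℤ × ℤ) :=
  ([1, -1, 2, -2, 0] : List ℤ).flatMap fun au => ([1, -1, 2, -2, 0] : List ℤ).flatMap fun az =>
    degsT.flatMap fun d => ((List.range 31).map fun i => (i : ℤ) - 15).map fun aw => (d, au, aw, az)

def vecT (s : ℤ) (k : ℤ × ℤ × ℤ × ℤ) : WT :=
  (k.1 * k.1, k.2.1 * k.2.1, k.2.2.1 * k.2.2.1, k.2.2.2 * k.2.2.2, k.1, k.1 * k.2.1, k.1 * k.2.2.1,
    k.2.1 * k.2.2.1, place s k)

def kindsT (h : ℕ) (budget s : ℤ) : List WT := (rawT.filter (okT h budget)).map (vecT s)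

/-- The part of the squared values at `w` left to these characters. -/
def budgetT (h : ℕ) : ℤ := (h : ℤ) - 110

def boundT (h : ℕ) (v : WT) : Bool :=
  decide (v.1 ≤ 54450) && decide (v.2.1 ≤ 5) && decide (v.2.2.1 ≤ budgetT h) && decide (v.2.2.2.1 ≤ 5)

/-- Every solution is the expected one; `s` is the sign at `w` of the character of degree 144. -/
def finalT (h : ℕ) (s : ℤ) (v : WT) : Bool :=
  !(v.1 == 54450 && v.2.1 == 5 && v.2.2.1 == budgetT h && v.2.2.2.1 == 5 &&
      decide (528 ≤ v.2.2.2.2.1) && v.2.2.2.2.2.1 == -(1 - 144 - 54 + 32) &&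
      v.2.2.2.2.2.2.1 == -(1 + 45 * 5 + 144 * (4 * s) + 54 * 6 + 32 * (4 * s)) &&
      v.2.2.2.2.2.2.2.1 == -(1 - 4 * s - 6 + 2 * (4 * s))) ||
    (h == 240 && v.2.2.2.2.2.2.2.2 == codeT)

def checkTable : Bool :=
  [((120 : ℕ), (-1 : ℤ)), (240, 1), (240, -1)].all fun p =>
    search (boundT p.1) (finalT p.1 p.2) 30 (kindsT p.1 (budgetT p.1) p.2) (0, 0, 0, 0, 0, 0, 0, 0, 0)

theorem checkTable_true : checkTable = true := by decide +kernel

end Cfsg.Agent.Invol.M12Ord
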