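import Mathlib
import Cfsg.Agent.Lib.Invol.Order95040.Basic

/-!
Restrictions of characters to small subgroups: integrality of the sums.
-/

set_option autoImplicit false
set_option linter.style.haveILetI false
set_option linter.unusedSectionVars false

namespace Cfsg.Agent.Invol.M12Ord

open scoped ComplexConjugate
open Cfsg Cfsg.Agent.Block Cfsg.Agent.Char

universe u

variable {G : Type u} [Group G] [Finite G]

/-- The sum of a character over a subgroup is a natural multiple of its order. -/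
theorem sum_nat {χ : G → ℂ} (hχ : IsCharacter G χ) (H : Subgroup G) [Fintype H] :
    ∃ n : ℕ, ∑ h : H, χ h = (n : ℂ) * (Nat.card H : ℂ) := by
  obtain ⟨n, hn⟩ := IsChar.classInner_nat (IsChar.res hχ H) (IsChar.one (G := H))
  refine ⟨n, ?_⟩
  rw [← hn, classInner]
  have h0 : (Nat.card H : ℂ) ≠ 0 := Nat.cast_ne_zero.mpr Nat.card_pos.ne'
  simp only [map_one, mul_one]
  field_simp

/-- The sum over the powers of an element. -/
theorem sum_powers {χ : G → ℂ} (hχ : IsCharacter G χ) (z : G) :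
    ∃ n : ℕ, ∑ i ∈ Finset.range (orderOf z), χ (z ^ i) = (n : ℂ) * (orderOf z : ℂ) := by
  classical
  haveI : Fintype (Subgroup.zpowers z) := Fintype.ofFinite _
  obtain ⟨n, hn⟩ := sum_nat hχ (Subgroup.zpowers z)
  refine ⟨n, ?_⟩
  rw [Nat.card_zpowers] at hn
  rw [← hn, Finset.sum_range fun i => χ (z ^ i)]
  exact Fintype.sum_equiv (finEquivZPowers (isOfFinOrder_of_finite z)) _ _ fun i => rfl

/-- No character of degree ten is fixed by `g ↦ g ^ 4` on an element of order nine and takes the value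
`-5` at its cube. -/
theorem nine_false {χ : G → ℂ} (hχ : IsCharacter G χ) {z : G} (hz : orderOf z = 9)
    (h1 : χ 1 = 10) (h3 : ∀ y : G, orderOf y = 3 → y ∈ Subgroup.zpowers z → χ y = -5)
    (hfix : ∀ i : ℕ, χ (z ^ (4 * i)) = χ (z ^ i)) : False := by
  have hp : ∀ k, z ^ k = z ^ (k % 9) := fun k => by rw [← hz, pow_mod_orderOf]
  have o3 : orderOf (z ^ 3) = 3 := by rw [orderOf_pow' _ (by norm_num), hz]; rfl
  have o6 : orderOf (z ^ 6) = 3 := by rw [orderOf_pow' _ (by norm_num), hz]; rfl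
  have v3 := h3 _ o3 (Subgroup.npow_mem_zpowers z 3)
  have v6 := h3 _ o6 (Subgroup.npow_mem_zpowers z 6)
  have v4 : χ (z ^ 4) = χ (z ^ 1) := hfix 1
  have v7 : χ (z ^ 7) = χ (z ^ 1) := by
    have := hfix 4
    rw [show 4 * 4 = 16 by norm_num, hp 16] at this
    exact this.trans v4
  have v5 : χ (z ^ 5) = χ (z ^ 8) := by
    have := hfix 8
    rwa [show 4 * 8 = 32 by norm_num, hp 32] at this
  have v2 : χ (z ^ 2) = χ (z ^ 8) := by
    have := hfix 5
    rw [show 4 * 5 = 20 by norm_num, hp 20] at this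
    exact this.trans v5
  have v8 : χ (z ^ 8) = conj (χ (z ^ 1)) := by
    rw [← IsChar.apply_inv hχ, pow_one]
    congr 1
    refine eq_inv_of_mul_eq_one_left ?_
    rw [← pow_succ, show 8 + 1 = orderOf z by omega, pow_orderOf_eq_one]
  set α := χ (z ^ 1) with hα
  have hsum : ∀ (φ : G → ℂ), IsCharacter G φ → ∀ a b e : ℂ, φ 1 = a → φ (z ^ 1) = b → φ (z ^ 2) = e →
      φ (z ^ 4) = b → φ (z ^ 7) = b → φ (z ^ 5) = e → φ (z ^ 8) = e →
      ∃ n : ℕ, a + φ (z ^ 3) + φ (z ^ 6) + 3 * b + 3 * e = (n : ℂ) * 9 := by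
    intro φ hφ a b e ha hb he h4 h7 h5 h8
    obtain ⟨n, hn⟩ := sum_powers hφ z
    refine ⟨n, ?_⟩
    rw [hz] at hn
    simp only [Finset.sum_range_succ, Finset.sum_range_zero, pow_zero, ha, hb, he, h4, h7, h5, h8] at hn
    push_cast at hn
    linear_combination hn
  obtain ⟨n, hn⟩ := hsum χ hχ 10 α (conj α) h1 rfl (v2.trans v8) v4 v7 (v5.trans v8) v8
  obtain ⟨k, hk⟩ := hsum _ (IsChar.mul hχ hχ) 100 (α * α) (conj α * conj α)
    (by simp [h1]; norm_num) (by simp [hα]) (by simp [v2, v8]) (by simp [v4]) (by simp [v7])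
    (by simp [v5, v8]) (by simp [v8])
  obtain ⟨m, hm⟩ := hsum _ (IsChar.mul hχ (IsChar.conj hχ)) 100 (α * conj α) (conj α * α)
    (by simp [h1, map_ofNat]; norm_num) (by simp [hα]) (by simp [v2, v8]) (by simp [v4]) (by simp [v7])
    (by simp [v5, v8]) (by simp [v8])
  simp only [Pi.mul_apply, v3, v6, map_neg, Complex.conj_ofNat] at hn hk hm
  have he : ((300 : ℤ) : ℂ) + 27 * ((n : ℤ) : ℂ) * ((n : ℤ) : ℂ) = 9 * ((k : ℤ) : ℂ) + 9 * ((m : ℤ) : ℂ) := by
    push_cast
    linear_combination hk + hm - ((α + conj α) + 3 * (n : ℂ)) * hn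
  have he' : (300 : ℤ) + 27 * (n : ℤ) * (n : ℤ) = 9 * (k : ℤ) + 9 * (m : ℤ) := by exact_mod_cast he
  rw [mul_assoc] at he'
  omega

end Cfsg.Agent.Invol.M12Ord
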