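import Cfsg.Agent.Lib.Invol.Order95040.Search

/-!
Order 95040: the exhaustive check of the values at an involution of the characters which do not
vanish at elements of order eleven.
-/

set_option autoImplicit false

namespace Cfsg.Agent.Invol.M12Ord

/-- Weights: number, signed degree, signed value, squared value, the scaled product sum, squared
degree, degree times value, the code of the degrees and the code of the values. -/
abbrev WI : Type := ℤ × ℤ × ℤ × ℤ × ℤ × ℤ × ℤ × ℕ × ℤ

/-- The possible degrees, their signs and their places in the codes. -/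
def degsI : List (ℤ × ℤ × ℕ) :=
  [(12, 1, 0), (45, 1, 1), (144, 1, 2), (10, -1, 3), (32, -1, 4), (54, -1, 5), (120, -1, 6)]

/-- Whether `a` may be the value of a character of degree `d` at the involution. -/
def okI (h : ℕ) (p : ℤ × ℤ × ℕ) (a : ℤ) : Bool :=
  decide (-p.1 < a) && decide (a < p.1) && (a - p.1) % 4 == 0 && decide (a * a < (h : ℤ)) &&
    (((95040 / h : ℕ) : ℤ) * a) % p.1 == 0

/-- The weight of a degree, sign and value. -/
def vecI (p : ℤ × ℤ × ℕ) (a : ℤ) : WI :=
  (1, p.2.1 * p.1, p.2.1 * a, a * a, p.2.1 * (a * a) * (95040 / p.1), p.1 * p.1, p.1 * a,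
    5 ^ p.2.2, a * 1000 ^ p.2.2)

def kindsI (degs : List (ℤ × ℤ × ℕ)) (h : ℕ) : List WI :=
  degs.flatMap fun p =>
    (((List.range (2 * p.1.toNat)).map fun i => (i : ℤ) - p.1).filter (okI h p)).map (vecI p)

def boundI (h : ℕ) (v : WI) : Bool :=
  decide (v.1 ≤ 4) && decide (1 + v.2.2.2.1 ≤ (h : ℤ)) && decide (1 + v.2.2.2.2.2.1 ≤ 95040)

/-- The code of the degrees 45, 144, 54, 120. -/
def codeB : ℕ := 18780

/-- The code of the degrees 12, 45, 32, 32. -/
def codeC : ℕ := 1256

/-- The codes of the other degree sets possible for a central involution. -/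
def codesO : List ℕ := [15900, 380, 252, 19380, 15780, 3260, 16276, 132, 15756]

/-- The possible centralizer orders and values for the degrees 45, 144, 54, 120. -/
def rowsB : List (ℕ × ℤ × ℤ) :=
  [(120, 5999999996005000, -4), (192, -7994000000000003000, 0), (240, 5999999996005000, -4),
    (240, 6000000004005000, 4)]

/-- The balanced digit at the place of degree ten. -/
def tens (val : ℤ) : ℤ := ((val + 500500500500500500500) / 1000000000) % 1000 - 500

/-- What a solution must satisfy. -/
def acceptI (h code : ℕ) (val ay : ℤ) : Bool :=
  if code = codeB then rowsB.contains (h, val, ay)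
  else if h % 10 = 0 then code == codeC && h % 64 != 0
  else h % 64 != 0 || (codesO.contains code && (code / 125 % 5 != 3 || tens val % 3 != 0))

/-- The test of a multiset of four. -/
def finalI (h : ℕ) (v : WI) : Bool :=
  !(v.1 == 4) ||
    (let S := 1 + v.2.1
     let e : ℤ := if 0 < S then 1 else -1
     let y := e * S
     let ay := e * (1 + v.2.2.1)
     let N := 1 + v.2.2.2.1 + 2 * (ay * ay)
     let D := 1 + v.2.2.2.2.2.1 + 2 * (y * y)
     let T := 1 + v.2.2.2.2.2.2.1 + 2 * (y * ay)
     !(decide (0 < y) && 95040 % y == 0 && (y - 5 * e) % 11 == 0 && (ay - y) % 4 == 0 &&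
       decide (-y < ay) && decide (ay < y) && (((95040 / h : ℕ) : ℤ) * ay) % y == 0 &&
       decide (N ≤ (h : ℤ)) && decide (D ≤ 95040) &&
       95040 + v.2.2.2.2.1 == e * (ay * ay) * (95040 / y) &&
       decide (T * T ≤ (95040 - D) * ((h : ℤ) - N))) ||
     acceptI h v.2.2.2.2.2.2.2.1 v.2.2.2.2.2.2.2.2 ay)

/-- The possible even orders of centralizers. -/
def ordsI : List ℕ :=
  ((List.range 8641).filter fun h => 2 ≤ h && 8640 % h == 0 && h % 2 == 0)

def degsB : List (ℤ × ℤ × ℕ) := [(45, 1, 1), (144, 1, 2), (54, -1, 5), (120, -1, 6)]

/-- The orders needed for the general check. -/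
def ordsJ : List ℕ := ordsI.filter fun h => h % 10 == 0 || h % 64 == 0

def checkInvolution : Bool :=
  ordsJ.all fun h => search (boundI h) (finalI h) 6 (kindsI degsI h) (0, 0, 0, 0, 0, 0, 0, 0, 0)

def checkRows : Bool :=
  ordsI.all fun h => search (boundI h) (finalI h) 6 (kindsI degsB h) (0, 0, 0, 0, 0, 0, 0, 0, 0)

theorem ordsI_eq : ordsI = [2, 4, 6, 8, 10, 12, 16, 18, 20, 24, 30, 32, 36, 40, 48, 54, 60, 64, 72, 80, 90, 96, 108, 120, 144, 160, 180, 192, 216, 240, 270, 288, 320, 360, 432, 480, 540, 576, 720, 864, 960, 1080, 1440, 1728, 2160, 2880, 4320, 8640] := by decide +kernel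

theorem ordsJ_eq : ordsJ = [10, 20, 30, 40, 60, 64, 80, 90, 120, 160, 180, 192, 240, 270, 320, 360, 480, 540, 576, 720, 960, 1080, 1440, 1728, 2160, 2880, 4320, 8640] := by
  rw [ordsJ, ordsI_eq]; decide +kernel

/-- The check for the degrees 45, 144, 54, 120 at one order. -/
def rowsAt (h : ℕ) : Bool :=
  search (boundI h) (finalI h) 6 (kindsI degsB h) (0, 0, 0, 0, 0, 0, 0, 0, 0)

/-- The general check at one order. -/
def involutionAt (h : ℕ) : Bool :=
  search (boundI h) (finalI h) 6 (kindsI degsI h) (0, 0, 0, 0, 0, 0, 0, 0, 0)

theorem rows_part0 : [2, 4, 6, 8, 10, 12].all rowsAt = true := by decide +kernel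

theorem rows_part1 : [16, 18, 20, 24, 30, 32].all rowsAt = true := by decide +kernel

theorem rows_part2 : [36, 40, 48, 54, 60, 64].all rowsAt = true := by decide +kernel

theorem rows_part3 : [72, 80, 90, 96, 108, 120].all rowsAt = true := by decide +kernel

theorem rows_part4 : [144, 160, 180, 192, 216, 240].all rowsAt = true := by decide +kernel

theorem rows_part5 : [270, 288, 320, 360, 432, 480].all rowsAt = true := by decide +kernel

theorem rows_part6 : [540, 576, 720, 864, 960, 1080].all rowsAt = true := by decide +kernel

theorem rows_part7 : [1440, 1728, 2160, 2880, 4320, 8640].all rowsAt = true := by decide +kernel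

theorem involutionAt_10 : involutionAt 10 = true := by decide +kernel

theorem involutionAt_20 : involutionAt 20 = true := by decide +kernel

theorem involutionAt_30 : involutionAt 30 = true := by decide +kernel

theorem involutionAt_40 : involutionAt 40 = true := by decide +kernel

theorem involutionAt_60 : involutionAt 60 = true := by decide +kernel

theorem involutionAt_64 : involutionAt 64 = true := by decide +kernel

theorem involutionAt_80 : involutionAt 80 = true := by decide +kernel

theorem involutionAt_90 : involutionAt 90 = true := by decide +kernel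

theorem involutionAt_120 : involutionAt 120 = true := by decide +kernel

theorem involutionAt_160 : involutionAt 160 = true := by decide +kernel

theorem involutionAt_180 : involutionAt 180 = true := by decide +kernel

theorem involutionAt_192 : involutionAt 192 = true := by decide +kernel

theorem involutionAt_240 : involutionAt 240 = true := by decide +kernel

theorem involutionAt_270 : involutionAt 270 = true := by decide +kernel

theorem involutionAt_320 : involutionAt 320 = true := by decide +kernel

theorem involutionAt_360 : involutionAt 360 = true := by decide +kernel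

theorem involutionAt_480 : involutionAt 480 = true := by decide +kernel

theorem involutionAt_540 : involutionAt 540 = true := by decide +kernel

theorem involutionAt_576 : involutionAt 576 = true := by decide +kernel

theorem involutionAt_720 : involutionAt 720 = true := by decide +kernel

theorem involutionAt_960 : involutionAt 960 = true := by decide +kernel

theorem involutionAt_1080 : involutionAt 1080 = true := by decide +kernel

theorem involutionAt_1440 : involutionAt 1440 = true := by decide +kernel

theorem involutionAt_1728 : involutionAt 1728 = true := by decide +kernel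

theorem involutionAt_2160 : involutionAt 2160 = true := by decide +kernel

theorem involutionAt_2880 : involutionAt 2880 = true := by decide +kernel

theorem involutionAt_4320 : involutionAt 4320 = true := by decide +kernel

theorem involutionAt_8640 : involutionAt 8640 = true := by decide +kernel

theorem checkRows_true : checkRows = true := by
  show ordsI.all rowsAt = true
  rw [ordsI_eq]
  have e : [2, 4, 6, 8, 10, 12, 16, 18, 20, 24, 30, 32, 36, 40, 48, 54, 60, 64, 72, 80, 90, 96, 108, 120, 144, 160, 180, 192, 216, 240, 270, 288, 320, 360, 432, 480, 540, 576, 720, 864, 960, 1080, 1440, 1728, 2160, 2880, 4320, 8640] = [2, 4, 6, 8, 10, 12] ++ [16, 18, 20, 24, 30, 32] ++ [36, 40, 48, 54, 60, 64] ++ [72, 80, 90, 96, 108, 120] ++ [144, 160, 180, 192, 216, 240] ++ [270, 288, 320, 360, 432, 480] ++ [540, 576, 720, 864, 960, 1080] ++ [1440, 1728, 2160, 2880, 4320, 8640] := rfl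
  rw [e]
  simp only [List.all_append, Bool.and_eq_true]
  exact ⟨⟨⟨⟨⟨⟨⟨rows_part0, rows_part1⟩, rows_part2⟩, rows_part3⟩, rows_part4⟩, rows_part5⟩, rows_part6⟩, rows_part7⟩

theorem checkInvolution_true : checkInvolution = true := by
  show ordsJ.all involutionAt = true
  rw [ordsJ_eq]
  simp only [List.all_cons, List.all_nil, involutionAt_10, involutionAt_20, involutionAt_30, involutionAt_40, involutionAt_60, involutionAt_64, involutionAt_80, involutionAt_90, involutionAt_120, involutionAt_160, involutionAt_180, involutionAt_192, involutionAt_240, involutionAt_270, involutionAt_320, involutionAt_360, involutionAt_480, involutionAt_540, involutionAt_576, involutionAt_720, involutionAt_960, involutionAt_1080, involutionAt_1440, involutionAt_1728, involutionAt_2160, involutionAt_2880, involutionAt_4320, involutionAt_8640, Bool.and_self]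

end Cfsg.Agent.Invol.M12Ord
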