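import Cfsg.Agent.Lib.Invol.Order95040.Search

/-!
Order 95040: the two exhaustive checks excluding an involution which centralises an element of order eleven.
-/

set_option autoImplicit false

namespace Cfsg.Agent.Invol.M12Ord

/-- Weights: number, signed degree, signed value, squared value, squared degree. -/
abbrev WE : Type := ℤ × ℤ × ℤ × ℤ × ℤ

/-- The degrees possible in the principal 11-block when the centralizer is larger, with their signs. -/
def degsE : List (ℤ × ℤ) := [(45, 1), (144, 1), (32, -1), (54, -1), (120, -1)]

/-- The possible orders of the centralizer of an involution centralising an element of order eleven, divided by 22. -/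
def ordsE : List ℕ :=
  (List.range 4320).filter fun j => 4320 % j == 0

/-- Whether `a` may be the value of a character of degree `d` and sign `s` at the involution. -/
def okE (h : ℕ) (p : ℤ × ℤ) (a : ℤ) : Bool :=
  decide (-p.1 < a) && decide (a < p.1) && (a - p.1) % 4 == 0 && (a - p.2) % 11 == 0 &&
    decide (a * a < (h : ℤ)) && (((95040 / h : ℕ) : ℤ) * a) % p.1 == 0

/-- The weight of a degree, sign and value. -/
def vecE (p : ℤ × ℤ) (a : ℤ) : WE := (1, p.2 * p.1, p.2 * a, a * a, p.1 * p.1)

def kindsE (h : ℕ) : List WE :=
  degsE.flatMap fun p =>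
    (((List.range (2 * p.1.toNat)).map fun i => (i : ℤ) - p.1).filter (okE h p)).map (vecE p)

def boundE (n : ℤ) (h : ℕ) (v : WE) : Bool :=
  decide (v.1 ≤ n) && decide (1 + v.2.2.2.1 ≤ (h : ℤ)) && decide (1 + v.2.2.2.2 ≤ 95040)

/-- No admissible data with automizer of order five. -/
def finalFive (h : ℕ) (v : WE) : Bool :=
  !(v.1 == 4) ||
    (let S := 1 + v.2.1
     let e : ℤ := if 0 < S then 1 else -1
     let y := e * S
     let ay := e * (1 + v.2.2.1)
     !(decide (0 < y) && 95040 % y == 0 && (y - 5 * e) % 11 == 0 && (ay - y) % 4 == 0 &&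
       decide (-y < ay) && decide (ay < y) && (((95040 / h : ℕ) : ℤ) * ay) % y == 0 &&
       decide (1 + v.2.2.2.1 + 2 * (ay * ay) ≤ (h : ℤ)) && decide (1 + v.2.2.2.2 + 2 * (y * y) ≤ 95040)))

/-- No admissible data with automizer of order ten. -/
def finalTen (v : WE) : Bool :=
  !(v.1 == 10 && v.2.1 == -1 && v.2.2.1 == -1)

def checkFive : Bool :=
  ordsE.all fun j => search (boundE 4 (22 * j)) (finalFive (22 * j)) 12 (kindsE (22 * j)) (0, 0, 0, 0, 0)

def checkTen : Bool :=
  ordsE.all fun j => search (boundE 10 (22 * j)) finalTen 12 (kindsE (22 * j)) (0, 0, 0, 0, 0)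

theorem checkFive_true : checkFive = true := by decide +kernel

theorem checkTen_true : checkTen = true := by decide +kernel

end Cfsg.Agent.Invol.M12Ord
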