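import Mathlib
import Cfsg.Agent.Lib.Invol.Order95040.Basic
import Cfsg.Agent.Lib.Invol.Order95040.CheckEleven

/-!
Simple groups of order 95040: the elements of order eleven and the characters not vanishing there.
-/

set_option autoImplicit false
set_option linter.style.haveILetI false
set_option linter.unusedSectionVars false

namespace Cfsg.Agent.Invol.M12Ord

open scoped ComplexConjugate
open Cfsg Cfsg.Agent.Block Cfsg.Agent.Char

universe u

variable {G : Type u} [Group G] [Finite G] [IsSimpleGroup G]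

/-- A signed degree congruent to its sign modulo eleven that is possible. -/
theorem deg_eleven {d : ℕ} {s : ℤ} (hd : d ∣ 95040) (h2 : 2 ≤ d) (h308 : d ≤ 308) (hs : s = 1 ∨ s = -1)
    (hm : (d : ℤ) % 11 = s % 11) :
    (s = 1 ∧ (d = 12 ∨ d = 45 ∨ d = 144)) ∨ (s = -1 ∧ (d = 10 ∨ d = 32 ∨ d = 54 ∨ d = 120)) := by
  have key : ((List.range 309).all fun n => 95040 % n != 0 ||
      ((n % 11 != 1 || [1, 12, 45, 144].contains n) && (n % 11 != 10 || [10, 32, 54, 120].contains n))) = true := by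
    decide +kernel
  have h := List.all_eq_true.1 key d (List.mem_range.2 (by omega))
  simp [Nat.mod_eq_zero_of_dvd hd] at h
  rcases hs with rfl | rfl <;> omega

/-- A sign and a degree with admissible value at an involution centralising an element of order eleven. -/
theorem kind_eleven (hG : Nat.card G = 95040) {χ : IrrCharacter G} (hne : χ ≠ trivialIrr G) {v : G}
    {s a : ℤ} {h : ℕ} (hh : cn v = h) (hs : s = 1 ∨ s = -1) (hd : (dg χ : ℤ) ≡ s [ZMOD 11])
    (ha : (χ : G → ℂ) v = a) (h4 : (4 : ℤ) ∣ (dg χ : ℤ) - a) (hlo : -(dg χ : ℤ) < a)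
    (hhi : a < (dg χ : ℤ)) (h11 : (11 : ℤ) ∣ a - s) (hsq : a * a < (h : ℤ)) :
    vecE ((dg χ : ℤ), s) a ∈ kindsE h := by
  have hp := deg_eleven (dg_dvd hG χ) (two_le hG hne) (dg_le hG χ) hs (by rw [Int.ModEq] at hd; exact hd)
  have hi := idx_mod hG χ ha
  rw [hh] at hi
  have hok : okE h ((dg χ : ℤ), s) a = true := by
    simp only [okE, Bool.and_eq_true, beq_iff_eq, decide_eq_true_eq]
    exact ⟨⟨⟨⟨⟨hlo, hhi⟩, by omega⟩, by omega⟩, hsq⟩, hi⟩
  refine List.mem_flatMap.2 ⟨((dg χ : ℤ), s), ?_, List.mem_map.2 ⟨a, List.mem_filter.2 ⟨?_, hok⟩, rfl⟩⟩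
  · rcases hp with ⟨rfl, e | e | e⟩ | ⟨rfl, e | e | e | e⟩ <;> rw [e] <;>
      first
        | (simp [degsE]; done)
        | (exfalso; rw [e] at hlo hhi h4; push_cast at hlo hhi h4; omega)
  · refine List.mem_map.2 ⟨_, List.mem_flatMap.2 ⟨(a + (dg χ : ℤ)).toNat, List.mem_range.2 ?_,
      List.mem_singleton.2 rfl⟩, ?_⟩ <;> simp <;> omega

theorem sum_vecE {ι : Type*} (S : Finset ι) (d s a : ι → ℤ) :
    ∑ i ∈ S, vecE (d i, s i) (a i) =
      ((S.card : ℤ), ∑ i ∈ S, s i * d i, ∑ i ∈ S, s i * a i, ∑ i ∈ S, a i * a i, ∑ i ∈ S, d i * d i) := by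
  simp [vecE, Prod.ext_iff, Prod.fst_sum, Prod.snd_sum]

/-- The general estimate for a check at an involution centralising an element of order eleven. -/
theorem bound_eleven (hG : Nat.card G = 95040) {v : G} {h : ℕ} (hh : cn v = h) {n : ℤ}
    (X : Finset (IrrCharacter G)) (hX : (X.card : ℤ) ≤ n) (htX : trivialIrr G ∉ X) (s a : IrrCharacter G → ℤ)
    (ha : ∀ χ : IrrCharacter G, (χ : G → ℂ) v = a χ) (ha1 : a (trivialIrr G) = 1) :
    ∀ S ⊆ X, boundE n h ((0, 0, 0, 0, 0) + ∑ χ ∈ S, vecE ((dg χ : ℤ), s χ) (a χ)) = true := by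
  classical
  intro S hS
  rw [sum_vecE]
  have hc : (S.card : ℤ) ≤ n := le_trans (by exact_mod_cast Finset.card_le_card hS) hX
  have hn := norm_le (insert (trivialIrr G) S) a fun χ _ => ha χ
  rw [Finset.sum_insert (fun e => htX (hS e)), ha1, hh] at hn
  have hd := sum_sq_le hG (insert (trivialIrr G) S)
  rw [Finset.sum_insert (fun e => htX (hS e)), dg_trivial] at hd
  have hd' : (1 : ℤ) + ∑ χ ∈ S, (dg χ : ℤ) * (dg χ : ℤ) ≤ 95040 := by
    simp only [sq] at hd
    exact_mod_cast hd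
  simp only [boundE, Prod.mk_add_mk, zero_add, Bool.and_eq_true, decide_eq_true_eq]
  exact ⟨⟨hc, by linarith⟩, hd'⟩

theorem ords_eleven (hG : Nat.card G = 95040) {v z : G} (hv : orderOf v = 2) (hz : orderOf z = 11)
    (hc : v * z = z * v) : ∃ j ∈ ordsE, cn v = 22 * j := by
  have h2 : 2 ∣ cn v := hv ▸ orderOf_dvd_cn (rfl : v * v = v * v)
  have h11 : 11 ∣ cn v := hz ▸ orderOf_dvd_cn hc.symm
  obtain ⟨j, hj⟩ : 22 ∣ cn v := Nat.Coprime.mul_dvd_of_dvd_of_dvd (by norm_num : Nat.Coprime 2 11) h2 h11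
  have hlt := cn_lt hG (ne_one_of_orderOf hv (by norm_num))
  have hd : j ∣ 4320 := by
    have h := hG ▸ cn_dvd_card v
    rw [hj] at h
    exact Nat.dvd_of_mul_dvd_mul_left (by norm_num : 0 < 22) h
  exact ⟨j, List.mem_filter.2 ⟨List.mem_range.2 (by omega), by simpa using Nat.mod_eq_zero_of_dvd hd⟩, hj⟩

theorem mem_eleven {M : Ideal AlgInt} (hM : IsPModular 11 M) {z : ℂ} {a s : ℤ} (hz : z = a)
    (h : MemLocalIdeal M (z - (s : ℂ))) : (11 : ℤ) ∣ a - s := by
  haveI : Fact (Nat.Prime 11) := ⟨by norm_num⟩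
  rw [hz, ← Int.cast_sub] at h
  exact (ideal_intCast_iff hM _).1 h

/-- An automizer of order five leaves no involution centralising the Sylow subgroup. -/
theorem no_five (hG : Nat.card G = 95040) (P : Sylow 11 G) (hP : Nat.card P = 11)
    (he : (Subgroup.centralizer ((P : Subgroup G) : Set G)).relIndex
      (Subgroup.normalizer ((P : Subgroup G) : Set G)) = 5)
    {v : G} (hv : orderOf v = 2) (hvC : v ∈ Subgroup.centralizer ((P : Subgroup G) : Set G)) : False := by
  classical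
  haveI : Fact (Nat.Prime 11) := ⟨by norm_num⟩
  obtain ⟨M, hM⟩ := exists_isPModular 11 Fact.out
  have hna := not_comm hG
  obtain ⟨X, y, s, ε, hXc, hX, hy, hε, hdy, hrel, hnorm⟩ :=
    OrdP.data hna hM (by norm_num) P hP he (by norm_num) (by norm_num) (by norm_num)
  obtain ⟨z, hz⟩ := exists_prime_orderOf_dvd_card' (G := (P : Subgroup G)) 11 (dvd_of_eq hP.symm)
  rw [← Subgroup.orderOf_coe] at hz
  obtain ⟨j, hj, hh⟩ := ords_eleven hG hv hz (Subgroup.mem_centralizer_iff.1 hvC z z.2).symm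
  set h := 22 * j with hhd
  obtain ⟨a, ha, ha1, hbd⟩ := inv_value hG hv
  have hv11 : ¬ 11 ∣ orderOf v := by rw [hv]; norm_num
  have hnv := hnorm v hv11
  simp only [ha, Complex.normSq_intCast] at hnv
  rw [show Nat.card (Subgroup.centralizer ({v} : Set G)) = h from hh] at hnv
  have hnv' : 1 + ∑ χ ∈ X, a χ * a χ + 2 * (a y * a y) ≤ (h : ℤ) := by
    rify
    push_cast at hnv
    exact hnv
  obtain ⟨hd1₀, hd2⟩ := OrdP.degree_data hrel hnorm
  have hd1 : ε * (dg y : ℤ) = 1 + ∑ χ ∈ X, s χ * (dg χ : ℤ) := hd1₀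
  rw [hG] at hd2
  have hd2' : 1 + ∑ χ ∈ X, (dg χ : ℤ) * (dg χ : ℤ) + 2 * ((dg y : ℤ) * (dg y : ℤ)) ≤ 95040 := by
    simp only [sq] at hd2
    norm_num at hd2
    exact_mod_cast hd2
  have hr := hrel v hv11
  simp only [ha] at hr
  have hr' : ε * a y = 1 + ∑ χ ∈ X, s χ * a χ := by
    apply Int.cast_injective (α := ℂ); push_cast; exact hr
  have htX : trivialIrr G ∉ X := fun e => (hX _ e).1 rfl
  have hk : ∀ χ ∈ X, vecE ((dg χ : ℤ), s χ) (a χ) ∈ kindsE h := by
    intro χ hχ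
    obtain ⟨hne, hs, hd, hcg⟩ := hX χ hχ
    obtain ⟨h4, hlo, hhi⟩ := hbd χ hne
    refine kind_eleven hG hne hh hs hd (ha χ) h4 hlo hhi (mem_eleven hM (ha χ) (hcg v hvC hv11)) ?_
    have := Finset.single_le_sum (f := fun χ => a χ * a χ) (fun i _ => mul_self_nonneg _) hχ
    linarith [mul_self_nonneg (a y)]
  have hchk := List.all_eq_true.1 checkFive_true j hj
  rw [← hhd] at hchk
  have hf := search_sound (boundE 4 h) (finalFive h) 12 _ _ hchk X _ hk
    (bound_eleven hG hh X (by omega) htX s a ha ha1)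
  rw [sum_vecE] at hf
  simp only [Prod.mk_add_mk, zero_add] at hf
  obtain ⟨h4, hlo, hhi⟩ := hbd y hy
  have hiy := idx_mod hG y (ha y)
  rw [hh] at hiy
  have hdvd : (95040 : ℤ) % (dg y : ℤ) = 0 := by
    exact_mod_cast Nat.mod_eq_zero_of_dvd (dg_dvd hG y)
  have hy0 : 0 < (dg y : ℤ) := by have := two_le hG hy; omega
  rw [Int.ModEq] at hdy
  have hdy' : (dg y : ℤ) % 11 = (ε * 5) % 11 := hdy
  have hsgn : (if 0 < 1 + ∑ χ ∈ X, s χ * (dg χ : ℤ) then (1 : ℤ) else -1) = ε := by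
    rw [← hd1]
    rcases hε with rfl | rfl
    · rw [if_pos (by simpa using hy0)]
    · rw [if_neg (by simpa using hy0.le)]
  have hεε : ε * ε = 1 := by rcases hε with rfl | rfl <;> norm_num
  simp only [finalFive, hsgn] at hf
  rw [← hr', ← hd1, ← mul_assoc, ← mul_assoc, hεε, one_mul, one_mul] at hf
  simp only [show ((X.card : ℤ) == 4) = true by simp; omega, Bool.not_true, Bool.false_or,
    Bool.not_eq_true', Bool.and_eq_false_iff, beq_eq_false_iff_ne, decide_eq_false_iff_not] at hf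
  omega

/-- A full automizer leaves no involution centralising the Sylow subgroup. -/
theorem no_ten (hG : Nat.card G = 95040) (P : Sylow 11 G) (hP : Nat.card P = 11)
    (he : (Subgroup.centralizer ((P : Subgroup G) : Set G)).relIndex
      (Subgroup.normalizer ((P : Subgroup G) : Set G)) = 10)
    {v : G} (hv : orderOf v = 2) (hvC : v ∈ Subgroup.centralizer ((P : Subgroup G) : Set G)) : False := by
  classical
  haveI : Fact (Nat.Prime 11) := ⟨by norm_num⟩
  obtain ⟨M, hM⟩ := exists_isPModular 11 Fact.out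
  obtain ⟨X, s, hXc, htX, -, hX, hrel, hnorm⟩ := OrdP.full (not_comm hG) hM (by norm_num) P hP he
  obtain ⟨z, hz⟩ := exists_prime_orderOf_dvd_card' (G := (P : Subgroup G)) 11 (dvd_of_eq hP.symm)
  rw [← Subgroup.orderOf_coe] at hz
  obtain ⟨j, hj, hh⟩ := ords_eleven hG hv hz (Subgroup.mem_centralizer_iff.1 hvC z z.2).symm
  set h := 22 * j with hhd
  obtain ⟨a, ha, ha1, hbd⟩ := inv_value hG hv
  have hv11 : ¬ 11 ∣ orderOf v := by rw [hv]; norm_num
  have hz1 : (z : G) ≠ 1 := ne_one_of_orderOf hz (by norm_num)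
  have h1 := hrel 1 (by rw [orderOf_one]; norm_num)
  simp only [charDeg_spec'] at h1
  have h1' : 1 + ∑ χ ∈ X, s χ * (dg χ : ℤ) = 0 := by
    apply Int.cast_injective (α := ℂ); push_cast; exact h1
  have h2 := hrel v hv11
  simp only [ha] at h2
  have h2' : 1 + ∑ χ ∈ X, s χ * a χ = 0 := by
    apply Int.cast_injective (α := ℂ); push_cast; exact h2
  have hk : ∀ χ ∈ X, vecE ((dg χ : ℤ), s χ) (a χ) ∈ kindsE h := by
    intro χ hχ
    obtain ⟨hs, hd, hcg⟩ := hX χ hχ
    have hne : χ ≠ trivialIrr G := fun e => htX (e ▸ hχ)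
    obtain ⟨h4, hlo, hhi⟩ := hbd χ hne
    refine kind_eleven hG hne hh hs hd (ha χ) h4 hlo hhi
      (mem_eleven hM (ha χ) (hcg z z.2 hz1 v hvC hv11).2) ?_
    have hn := norm_le {trivialIrr G, χ} a fun χ _ => ha χ
    rw [Finset.sum_pair hne.symm, ha1, hh] at hn
    linarith
  have hchk := List.all_eq_true.1 checkTen_true j hj
  rw [← hhd] at hchk
  have hf := search_sound (boundE 10 h) finalTen 12 _ _ hchk X _ hk
    (bound_eleven hG hh X (by omega) htX s a ha ha1)
  rw [sum_vecE] at hf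
  simp [finalTen] at hf
  omega

/-- Elements of order eleven generate their centralizers, and the automizer has order five. -/
theorem exists_eleven (hG : Nat.card G = 95040) : ∃ x : G, SCP.Hyp 11 x ∧ SCP.e x = 5 := by
  haveI : Fact (Nat.Prime 11) := ⟨by norm_num⟩
  haveI : Fact (Nat.Prime 2) := ⟨Nat.prime_two⟩
  have hna := not_comm hG
  obtain ⟨P⟩ : Nonempty (Sylow 11 G) := inferInstance
  obtain ⟨e, c, hL, hP, hcm, he, hC⟩ := Fus.SmallOrd.options hna (p := 11) (m := 8640)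
    (by rw [hG]) (by norm_num) (by norm_num) (by norm_num)
    [(2, 96), (2, 30), (5, 12), (10, 6), (2, 8), (5, 1)] (by decide +kernel) P
  have hev : 2 ∣ c → ∃ v : G, orderOf v = 2 ∧ v ∈ Subgroup.centralizer ((P : Subgroup G) : Set G) := by
    intro h
    obtain ⟨v, hv⟩ := exists_prime_orderOf_dvd_card'
      (G := Subgroup.centralizer ((P : Subgroup G) : Set G)) 2 (hC ▸ dvd_mul_of_dvd_right h 11)
    exact ⟨v, by rw [Subgroup.orderOf_coe, hv], v.2⟩
  have htwo : e = 2 → c ≠ 1 → False := fun h1 h2 =>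
    Fus.SmallOrd.two_elim hna hG (m := 8640) (by norm_num) (by norm_num) (by norm_num) P hP hcm
      (he.trans h1) hC h2 (by decide +kernel)
  simp only [List.mem_cons, List.not_mem_nil, or_false, Prod.mk.injEq] at hL
  rcases hL with ⟨rfl, rfl⟩ | ⟨rfl, rfl⟩ | ⟨rfl, rfl⟩ | ⟨rfl, rfl⟩ | ⟨rfl, rfl⟩ | ⟨rfl, rfl⟩
  · exact (htwo rfl (by norm_num)).elim
  · exact (htwo rfl (by norm_num)).elim
  · obtain ⟨v, hv, hvC⟩ := hev (by norm_num)
    exact (no_five hG P hP he hv hvC).elim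
  · obtain ⟨v, hv, hvC⟩ := hev (by norm_num)
    exact (no_ten hG P hP he hv hvC).elim
  · exact (htwo rfl (by norm_num)).elim
  · obtain ⟨x, hx⟩ := exists_prime_orderOf_dvd_card' (G := (P : Subgroup G)) 11 (dvd_of_eq hP.symm)
    rw [← Subgroup.orderOf_coe] at hx
    have hz : Subgroup.zpowers (x : G) = (P : Subgroup G) :=
      Subgroup.eq_of_le_of_card_ge (Subgroup.zpowers_le.2 x.2) (by rw [Nat.card_zpowers, hx]; exact hP.le)
    have hCP : Subgroup.centralizer ((P : Subgroup G) : Set G) = (P : Subgroup G) := by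
      haveI : IsCyclic (P : Subgroup G) := isCyclic_of_prime_card (p := 11) hP
      refine (Subgroup.eq_of_le_of_card_ge (fun a ha => Subgroup.mem_centralizer_iff.2 fun b hb =>
        congrArg Subtype.val (mul_comm' (⟨b, hb⟩ : (P : Subgroup G)) ⟨a, ha⟩)) ?_).symm
      rw [hC]; exact hP.ge
    refine ⟨x, ⟨hx, ?_⟩, ?_⟩
    · refine Eq.trans ?_ (((congrArg (fun H : Subgroup G => Subgroup.centralizer (H : Set G)) hz).trans
        hCP).trans hz.symm)
      ext g
      rw [Subgroup.mem_centralizer_singleton_iff, Subgroup.mem_centralizer_iff]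
      refine ⟨fun h y hy => ?_, fun h => (h _ (Subgroup.mem_zpowers _)).symm⟩
      obtain ⟨i, rfl⟩ := hy
      exact ((show Commute g (x : G) from h).zpow_right i).eq.symm
    · refine Eq.trans ?_ he
      unfold SCP.e SCP.P SCP.N
      rw [hz]
      exact congrArg (fun H : Subgroup G => H.relIndex _) hCP.symm

/-- The principal block at eleven. -/
structure Blk (G : Type u) [Group G] [Finite G] where
  x : G
  hyp : SCP.Hyp 11 x
  he : SCP.e x = 5
  T : Finset (IrrCharacter G)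
  y : IrrCharacter G
  y' : IrrCharacter G
  σ : IrrCharacter G → ℤ
  ε : ℤ
  card_T : T.card = 4
  trivial_not : trivialIrr G ∉ T
  y_not : y ∉ T
  y'_not : y' ∉ T
  hyy : y ≠ y'
  y_ne : y ≠ trivialIrr G
  y'_ne : y' ≠ trivialIrr G
  sign : ∀ χ ∈ T, (σ χ = 1 ∧ (dg χ = 12 ∨ dg χ = 45 ∨ dg χ = 144)) ∨
    (σ χ = -1 ∧ (dg χ = 10 ∨ dg χ = 32 ∨ dg χ = 54 ∨ dg χ = 120))
  ε_sign : ε = 1 ∨ ε = -1
  deg_y' : dg y' = dg y
  deg_y : (dg y : ℤ) % 11 = (5 * ε) % 11
  valT : ∀ χ ∈ T, ∀ g : G, orderOf g = 11 → (χ : G → ℂ) g = σ χ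
  valY : ∀ g : G, orderOf g = 11 → (y : G → ℂ) g + (y' : G → ℂ) g = -(ε : ℂ)
  out : ∀ χ : IrrCharacter G, χ ≠ trivialIrr G → χ ≠ y → χ ≠ y' → χ ∉ T →
    11 ∣ dg χ ∧ ∀ g : G, orderOf g = 11 → (χ : G → ℂ) g = 0
  rel : ∀ g : G, ¬ 11 ∣ orderOf g → (y' : G → ℂ) g = (y : G → ℂ) g ∧
    (ε : ℂ) * (y : G → ℂ) g = 1 + ∑ χ ∈ T, (σ χ : ℂ) * (χ : G → ℂ) g

namespace Blk

open Classical in
/-- The characters of degree divisible by eleven. -/
noncomputable def R (B : Blk G) : Finset (IrrCharacter G) :=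
  Finset.univ \ insert (trivialIrr G) (insert B.y (insert B.y' B.T))

variable (B : Blk G)

theorem mem_R {χ : IrrCharacter G} :
    χ ∈ B.R ↔ χ ≠ trivialIrr G ∧ χ ≠ B.y ∧ χ ≠ B.y' ∧ χ ∉ B.T := by
  classical
  simp [R]

theorem R_dvd {χ : IrrCharacter G} (h : χ ∈ B.R) : 11 ∣ dg χ := by
  obtain ⟨h1, h2, h3, h4⟩ := B.mem_R.1 h
  exact (B.out χ h1 h2 h3 h4).1

theorem hsum {W : Type*} [AddCommMonoid W] (F : IrrCharacter G → W) :
    ∑ χ : IrrCharacter G, F χ = F (trivialIrr G) + F B.y + F B.y' + ∑ χ ∈ B.T, F χ + ∑ χ ∈ B.R, F χ := by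
  classical
  rw [← Finset.sum_sdiff (Finset.subset_univ (insert (trivialIrr G) (insert B.y (insert B.y' B.T)))),
    Finset.sum_insert (by simp [B.y_ne.symm, B.y'_ne.symm, B.trivial_not]),
    Finset.sum_insert (by simp [B.hyy, B.y_not]), Finset.sum_insert B.y'_not]
  simp only [R]
  abel

theorem εε : B.ε * B.ε = 1 := by rcases B.ε_sign with e | e <;> rw [e] <;> norm_num

theorem deg_rel : B.ε * (dg B.y : ℤ) = 1 + ∑ χ ∈ B.T, B.σ χ * (dg χ : ℤ) := by
  apply Int.cast_injective (α := ℂ)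
  have h := (B.rel 1 (by rw [orderOf_one]; norm_num)).2
  simp only [value_one] at h
  push_cast
  exact h

include B in
theorem no_comm {t g : G} (ht : orderOf t = 2) (hg : orderOf g = 11) : t * g ≠ g * t := by
  haveI : Fact (Nat.Prime 11) := ⟨by norm_num⟩
  intro hc
  have h := SCP.hyp_of_ord B.hyp hg
  have h1 := Subgroup.orderOf_dvd_natCard _ (SCP.mem_P_of_comm h hc)
  rw [ht, SCP.card_P h] at h1
  norm_num at h1

include B in
/-- No product of two involutions has order eleven. -/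
theorem no_pair {t k g : G} (ht : orderOf t = 2) (hk : orderOf k = 2) (hg : orderOf g = 11) :
    t * k ≠ g := by
  haveI : Fact (Nat.Prime 11) := ⟨by norm_num⟩
  intro he
  have h := SCP.hyp_of_ord B.hyp hg
  have htt : t * t = 1 := by rw [← sq, ← ht]; exact pow_orderOf_eq_one t
  have hkk : k * k = 1 := by rw [← sq, ← hk]; exact pow_orderOf_eq_one k
  have hti : t⁻¹ = t := inv_eq_of_mul_eq_one_right htt
  have hinv : t * g * t⁻¹ = g⁻¹ := by
    rw [← he, mul_inv_rev, inv_eq_of_mul_eq_one_right hkk, hti, ← mul_assoc t t k, htt, one_mul]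
  have hN : t ∈ SCP.N g := SCP.mem_N_of_conj h (Subgroup.mem_zpowers g) (SCP.ne_one h)
    (by rw [hinv]; exact inv_mem (Subgroup.mem_zpowers g))
  have h1 := Subgroup.orderOf_dvd_natCard _ hN
  have e1 := SCP.classes_mul_e h
  have e2 := SCP.classes_mul_e B.hyp
  rw [B.he] at e2
  rw [show Nat.card {C : ConjClasses G // ∃ g ∈ C.carrier, orderOf g = 11} = 2 by omega] at e1
  rw [SCP.card_N h, show SCP.e g = 5 by omega, ht] at h1
  norm_num at h1

end Blk

theorem exists_blk (hG : Nat.card G = 95040) : Nonempty (Blk G) := by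
  classical
  haveI := Fintype.ofFinite G
  haveI : Fact (Nat.Prime 11) := ⟨by norm_num⟩
  obtain ⟨x, hx, hxe⟩ := exists_eleven hG
  obtain ⟨X, Y, c, ε, hc⟩ := SCP.exists_chars hx
  rw [hxe] at hc
  have hY2 : Y.card = 2 := by have := hc.card_Y; omega
  have htX : trivialIrr G ∈ X := by
    rcases Finset.mem_union.1 hc.trivial_mem with h | h
    · exact h
    · exfalso
      have h1 := hc.deg_Y _ h
      rw [show charDegree ((trivialIrr G : IrrCharacter G) : G → ℂ) = 1 from dg_trivial,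
        Int.ModEq] at h1
      rcases hc.ε_sign with e | e <;> rw [e] at h1 <;> norm_num at h1
  have hct : c (trivialIrr G) = -1 := by
    have h1 := hc.deg_X _ htX
    rw [show charDegree ((trivialIrr G : IrrCharacter G) : G → ℂ) = 1 from dg_trivial,
      Int.ModEq] at h1
    rcases hc.c_sign _ htX with e | e <;> rw [e] at h1 ⊢
    norm_num at h1
  set T := X.erase (trivialIrr G) with hT
  have hTc : T.card = 4 := by rw [hT, Finset.card_erase_of_mem htX, hc.card_X]
  have hnot : trivialIrr G ∉ T := Finset.notMem_erase _ _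
  have htY : trivialIrr G ∉ Y := Finset.disjoint_left.1 hc.disj htX
  obtain ⟨y, y', hyy, hYe⟩ := Finset.card_eq_two.1 hY2
  have hy : y ∈ Y := by rw [hYe]; simp
  have hy' : y' ∈ Y := by rw [hYe]; simp
  have hrel : ∀ ψ ∈ Y, ∀ g : G, ¬ 11 ∣ orderOf g →
      (ε : ℂ) * (ψ : G → ℂ) g = 1 + ∑ χ ∈ T, ((-c χ : ℤ) : ℂ) * (χ : G → ℂ) g := by
    intro ψ hψ g hg
    have h1 := hc.regular ψ hψ g hg
    rw [← Finset.add_sum_erase X _ htX, hct, trivial_value, ← hT] at h1
    simp only [Int.cast_neg, neg_mul, Finset.sum_neg_distrib]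
    push_cast at h1
    linear_combination h1
  have hε : (ε : ℂ) ≠ 0 := by rcases hc.ε_sign with e | e <;> rw [e] <;> norm_num
  have heq : ∀ g : G, ¬ 11 ∣ orderOf g → (y' : G → ℂ) g = (y : G → ℂ) g := fun g hg =>
    mul_left_cancel₀ hε ((hrel y' hy' g hg).trans (hrel y hy g hg).symm)
  have hdyy : dg y' = dg y := by
    apply Nat.cast_injective (R := ℂ)
    rw [← value_one, ← value_one]
    exact heq 1 (by rw [orderOf_one]; norm_num)
  have hsgn : ∀ χ ∈ T, ((-c χ) = 1 ∧ (dg χ = 12 ∨ dg χ = 45 ∨ dg χ = 144)) ∨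
      ((-c χ) = -1 ∧ (dg χ = 10 ∨ dg χ = 32 ∨ dg χ = 54 ∨ dg χ = 120)) := by
    intro χ hχ
    obtain ⟨hne, hχX⟩ := Finset.mem_erase.1 hχ
    have h1 := hc.deg_X χ hχX
    rw [Int.ModEq] at h1
    exact deg_eleven (dg_dvd hG χ) (two_le hG hne) (dg_le hG χ)
      (by rcases hc.c_sign χ hχX with e | e <;> rw [e] <;> simp) h1
  have hval : ∀ χ ∈ T, ∀ g : G, orderOf g = 11 → (χ : G → ℂ) g = ((-c χ : ℤ) : ℂ) := by
    intro χ hχ g hg
    rw [hc.value χ (Finset.mem_of_mem_erase hχ) g hg]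
    push_cast
    rfl
  have hout : ∀ χ : IrrCharacter G, χ ≠ trivialIrr G → χ ≠ y → χ ≠ y' → χ ∉ T →
      11 ∣ dg χ ∧ ∀ g : G, orderOf g = 11 → (χ : G → ℂ) g = 0 := by
    intro χ h1 h2 h3 h4
    have hn : χ ∉ X ∪ Y := by
      rw [Finset.mem_union, hYe]
      rintro (h | h)
      · exact h4 (Finset.mem_erase.2 ⟨h1, h⟩)
      · simp at h; tauto
    exact ⟨hc.dvd_deg χ hn, hc.vanish χ hn⟩
  refine ⟨⟨x, hx, hxe, T, y, y', fun χ => -c χ, ε, hTc, hnot, ?_, ?_, hyy, fun e => htY (e ▸ hy),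
    fun e => htY (e ▸ hy'), hsgn, hc.ε_sign, hdyy, ?_, hval, ?_, hout,
    fun g hg => ⟨heq g hg, hrel y hy g hg⟩⟩⟩
  · exact fun h => Finset.disjoint_left.1 hc.disj (Finset.mem_of_mem_erase h) hy
  · exact fun h => Finset.disjoint_left.1 hc.disj (Finset.mem_of_mem_erase h) hy'
  · have h1 := hc.deg_Y y hy
    rw [Int.ModEq] at h1
    rw [mul_comm]
    exact h1
  · intro g hg
    have ho := orth_one (ne_one_of_orderOf hg (by norm_num))
    have hd := hrel y hy 1 (by rw [orderOf_one]; norm_num)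
    simp only [value_one] at hd
    rw [← Finset.sum_sdiff (Finset.subset_univ (insert (trivialIrr G) (insert y (insert y' T)))),
      Finset.sum_eq_zero (fun χ hχ => by
        simp only [Finset.mem_sdiff, Finset.mem_univ, true_and, Finset.mem_insert, not_or] at hχ
        rw [(hout χ hχ.1 hχ.2.1 hχ.2.2.1 hχ.2.2.2).2 g hg, zero_mul]),
      Finset.sum_insert (by
        simp [show trivialIrr G ≠ y from fun e => htY (e ▸ hy),
          show trivialIrr G ≠ y' from fun e => htY (e ▸ hy'), hnot]),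
      Finset.sum_insert (by
        simp [hyy, show y ∉ T from fun h => Finset.disjoint_left.1 hc.disj (Finset.mem_of_mem_erase h) hy]),
      Finset.sum_insert (fun h => Finset.disjoint_left.1 hc.disj (Finset.mem_of_mem_erase h) hy'),
      trivial_value, dg_trivial, hdyy,
      Finset.sum_congr rfl (g := fun χ => ((-c χ : ℤ) : ℂ) * (dg χ : ℂ)) fun χ hχ => by
        rw [hval χ hχ g hg]] at ho
    have hεε : (ε : ℂ) * (ε : ℂ) = 1 := by rcases hc.ε_sign with e | e <;> rw [e] <;> norm_num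
    have hy0 : (dg y : ℂ) ≠ 0 := by
      have := charDeg_pos y
      exact Nat.cast_ne_zero.2 (by unfold dg; omega)
    apply mul_left_cancel₀ hy0
    rw [← hT] at ho
    linear_combination ho + hd

end Cfsg.Agent.Invol.M12Ord
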