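import Mathlib
import Cfsg.Agent.Lib.Invol.Order95040.Eleven
import Cfsg.Agent.Lib.Invol.Order95040.CheckInvolution

/-!
Simple groups of order 95040: the values at an involution of the characters of the principal 11-block.
-/

set_option autoImplicit false
set_option linter.style.haveILetI false
set_option linter.unusedSectionVars false

namespace Cfsg.Agent.Invol.M12Ord

open scoped ComplexConjugate
open Cfsg Cfsg.Agent.Block Cfsg.Agent.Char

universe u

variable {G : Type u} [Group G] [Finite G]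

/-- The place of a degree in the codes. -/
def pl (d : ℕ) : ℕ :=
  if d = 12 then 0 else if d = 45 then 1 else if d = 144 then 2 else if d = 10 then 3
  else if d = 32 then 4 else if d = 54 then 5 else 6

/-- No product of two conjugate elements is conjugate to a given one: the character sum vanishes. -/
theorem pair_sum {x t : G} (hz : ∀ k : G, ¬ IsConj (t * (k * t * k⁻¹)) x) :
    ∑ χ : IrrCharacter G, conj ((χ : G → ℂ) x) *
      ((χ : G → ℂ) t * (χ : G → ℂ) t / (χ : G → ℂ) 1) = 0 := by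
  classical
  haveI := Fintype.ofFinite G
  have h : ∑ k : G, ∑ χ : IrrCharacter G,
      (χ : G → ℂ) (t * (k * t * k⁻¹)) * conj ((χ : G → ℂ) x) = 0 :=
    Finset.sum_eq_zero fun k _ => by rw [sum_irr_mul_conj, if_neg (hz k)]
  rw [Finset.sum_comm] at h
  have hN : (Nat.card G : ℂ) ≠ 0 := Nat.cast_ne_zero.mpr Nat.card_pos.ne'
  refine (mul_eq_zero.1 (Eq.trans ?_ h)).resolve_left hN
  rw [Finset.mul_sum]
  refine Finset.sum_congr rfl fun χ _ => ?_
  rw [← Finset.sum_mul, sum_mul_conj]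
  ring

variable [IsSimpleGroup G]

namespace Blk

variable (B : Blk G)

/-- The code of the degrees. -/
noncomputable def code : ℕ := ∑ χ ∈ B.T, 5 ^ pl (dg χ)

/-- The number of block characters of a given degree. -/
noncomputable def cnt (d : ℕ) : ℕ := (B.T.filter fun χ => dg χ = d).card

theorem deg_mem {χ : IrrCharacter G} (h : χ ∈ B.T) :
    dg χ = 12 ∨ dg χ = 45 ∨ dg χ = 144 ∨ dg χ = 10 ∨ dg χ = 32 ∨ dg χ = 54 ∨ dg χ = 120 := by
  rcases B.sign χ h with ⟨-, e | e | e⟩ | ⟨-, e | e | e | e⟩ <;> simp [e]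

theorem sum_T {W : Type*} [AddCommMonoid W] (f : ℕ → W) :
    ∑ χ ∈ B.T, f (dg χ) = B.cnt 12 • f 12 + B.cnt 45 • f 45 + B.cnt 144 • f 144 + B.cnt 10 • f 10 +
      B.cnt 32 • f 32 + B.cnt 54 • f 54 + B.cnt 120 • f 120 := by
  classical
  have hk : ∀ d : ℕ, B.cnt d • f d = ∑ χ ∈ B.T, if dg χ = d then f d else 0 := fun d => by
    rw [← Finset.sum_filter, Finset.sum_const]
    rfl
  simp only [hk, ← Finset.sum_add_distrib]
  refine Finset.sum_congr rfl fun χ hχ => ?_
  rcases B.deg_mem hχ with e | e | e | e | e | e | e <;> simp [e]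

theorem cnt_sum : B.cnt 12 + B.cnt 45 + B.cnt 144 + B.cnt 10 + B.cnt 32 + B.cnt 54 + B.cnt 120 = 4 := by
  have h := B.sum_T fun _ => 1
  simp only [smul_eq_mul, mul_one, Finset.sum_const, B.card_T] at h
  omega

theorem code_eq : B.code =
    B.cnt 12 + B.cnt 45 * 5 + B.cnt 144 * 25 + B.cnt 10 * 125 + B.cnt 32 * 625 + B.cnt 54 * 3125 +
      B.cnt 120 * 15625 := by
  rw [code, B.sum_T fun d => 5 ^ pl d]
  norm_num [pl, smul_eq_mul]

theorem cnt_pos {χ : IrrCharacter G} (h : χ ∈ B.T) : 0 < B.cnt (dg χ) := by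
  classical
  exact Finset.card_pos.2 ⟨χ, Finset.mem_filter.2 ⟨h, rfl⟩⟩

/-- The degrees are 45, 144, 54, 120. -/
def IsB : Prop := B.code = codeB

theorem isB_iff : B.IsB ↔ B.cnt 12 = 0 ∧ B.cnt 45 = 1 ∧ B.cnt 144 = 1 ∧ B.cnt 10 = 0 ∧ B.cnt 32 = 0 ∧
    B.cnt 54 = 1 ∧ B.cnt 120 = 1 := by
  have h1 := B.cnt_sum
  rw [IsB, B.code_eq]
  unfold codeB
  refine ⟨fun h => ?_, fun h => by omega⟩
  have e12 : B.cnt 12 = 0 := by omega
  have e45 : B.cnt 45 = 1 := by omega
  have e144 : B.cnt 144 = 1 := by omega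
  have e10 : B.cnt 10 = 0 := by omega
  have e32 : B.cnt 32 = 0 := by omega
  exact ⟨e12, e45, e144, e10, e32, by omega, by omega⟩

theorem isB_deg (hB : B.IsB) {χ : IrrCharacter G} (h : χ ∈ B.T) :
    dg χ = 45 ∨ dg χ = 144 ∨ dg χ = 54 ∨ dg χ = 120 := by
  obtain ⟨h12, -, -, h10, h32, -, -⟩ := B.isB_iff.1 hB
  have h' := B.cnt_pos h
  rcases B.deg_mem h with e | e | e | e | e | e | e <;> rw [e] at h' <;>
    first | (simp [e]; done) | omega

theorem no_isConj_eleven {t : G} (ht : orderOf t = 2) (k : G) :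
    ¬ IsConj (t * (k * t * k⁻¹)) B.x := by
  intro hc
  obtain ⟨d, hd⟩ := isConj_iff.1 hc
  have hk : orderOf (k * t * k⁻¹) = 2 := by rw [← ht]; exact (MulAut.conj k).orderOf_eq t
  have hz : orderOf (t * (k * t * k⁻¹)) = 11 := by
    rw [← B.hyp.ord, ← hd]
    exact ((MulAut.conj d).orderOf_eq _).symm
  exact B.no_pair ht hk hz rfl

include B in
theorem cn_inv (hG : Nat.card G = 95040) {t : G} (ht : orderOf t = 2) :
    2 ∣ cn t ∧ cn t ∣ 8640 ∧ cn t ∈ ordsI := by
  haveI : Fact (Nat.Prime 11) := ⟨by norm_num⟩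
  have h2 : 2 ∣ cn t := ht ▸ orderOf_dvd_cn (rfl : t * t = t * t)
  have hc : Nat.Coprime 11 (cn t) := by
    refine (Nat.Prime.coprime_iff_not_dvd (by norm_num)).2 fun hd => ?_
    obtain ⟨z, hz⟩ := exists_prime_orderOf_dvd_card' 11 hd
    rw [← Subgroup.orderOf_coe] at hz
    exact B.no_comm ht hz (Subgroup.mem_centralizer_singleton_iff.1 z.2).symm
  have hd : cn t ∣ 11 * 8640 := by simpa [hG] using cn_dvd_card t
  have h8 := hc.symm.dvd_of_dvd_mul_left hd
  have hle := Nat.le_of_dvd (by norm_num) h8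
  refine ⟨h2, h8, ?_⟩
  simp only [ordsI, List.mem_filter, List.mem_range, Bool.and_eq_true, beq_iff_eq, decide_eq_true_eq]
  have := cn_pos t
  exact ⟨by omega, ⟨by omega, Nat.mod_eq_zero_of_dvd h8⟩, by omega⟩

theorem sum_vecI {ι : Type*} (S : Finset ι) (d s : ι → ℤ) (p : ι → ℕ) (a : ι → ℤ) :
    ∑ i ∈ S, vecI (d i, s i, p i) (a i) =
      ((S.card : ℤ), ∑ i ∈ S, s i * d i, ∑ i ∈ S, s i * a i, ∑ i ∈ S, a i * a i,
        ∑ i ∈ S, s i * (a i * a i) * (95040 / d i), ∑ i ∈ S, d i * d i, ∑ i ∈ S, d i * a i,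
        ∑ i ∈ S, 5 ^ p i, ∑ i ∈ S, a i * 1000 ^ p i) := by
  simp [vecI, Prod.ext_iff, Prod.fst_sum, Prod.snd_sum]

/-- The code of the values. -/
noncomputable def val (a : IrrCharacter G → ℤ) : ℤ := ∑ χ ∈ B.T, a χ * 1000 ^ pl (dg χ)

/-- The values at an involution pass the test. -/
theorem accept (hG : Nat.card G = 95040) {t : G} (ht : orderOf t = 2) (a : IrrCharacter G → ℤ)
    (ha : ∀ χ : IrrCharacter G, (χ : G → ℂ) t = a χ)
    (hor : cn t % 10 = 0 ∨ cn t % 64 = 0 ∨ B.IsB) :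
    acceptI (cn t) B.code (B.val a) (a B.y) = true := by
  classical
  set h := cn t with hh
  have ht11 : ¬ 11 ∣ orderOf t := by rw [ht]; norm_num
  obtain ⟨a', ha', ha1, hbd⟩ := inv_value hG ht
  obtain rfl : a = a' := funext fun χ => Int.cast_injective (α := ℂ) ((ha χ).symm.trans (ha' χ))
  obtain ⟨-, -, hord⟩ := B.cn_inv hG ht
  rw [← hh] at hord
  obtain ⟨hyy, hr⟩ := B.rel t ht11
  rw [ha, ha] at hyy
  have hyy' : a B.y' = a B.y := Int.cast_injective (α := ℂ) hyy
  simp only [ha] at hr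
  have hr' : B.ε * a B.y = 1 + ∑ χ ∈ B.T, B.σ χ * a χ := by
    apply Int.cast_injective (α := ℂ); push_cast; exact hr
  have hd' := B.deg_rel
  have hN : (h : ℤ) = 1 + ∑ χ ∈ B.T, a χ * a χ + 2 * (a B.y * a B.y) + ∑ χ ∈ B.R, a χ * a χ := by
    rw [← norm_eq a ha, B.hsum, ha1, hyy']
    ring
  have hD : (95040 : ℤ) = 1 + ∑ χ ∈ B.T, (dg χ : ℤ) * (dg χ : ℤ) +
      2 * ((dg B.y : ℤ) * (dg B.y : ℤ)) + ∑ χ ∈ B.R, (dg χ : ℤ) * (dg χ : ℤ) := by
    have h := congrArg (Nat.cast : ℕ → ℤ) (sum_sq hG)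
    push_cast at h
    simp only [sq] at h
    rw [B.hsum, dg_trivial, B.deg_y'] at h
    rw [← h]
    push_cast
    ring
  have hT : 1 + ∑ χ ∈ B.T, (dg χ : ℤ) * a χ + 2 * ((dg B.y : ℤ) * a B.y) +
      ∑ χ ∈ B.R, (dg χ : ℤ) * a χ = 0 := by
    have h := orth_one_int (ne_one_of_orderOf ht (by norm_num)) a ha
    simp only [mul_comm (a _)] at h
    rw [B.hsum, ha1, dg_trivial, hyy', B.deg_y'] at h
    rw [← h]
    push_cast
    ring
  have hcs := Finset.sum_mul_sq_le_sq_mul_sq B.R (fun χ => (dg χ : ℤ)) a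
  simp only [sq] at hcs
  have hp := pair_sum (B.no_isConj_eleven ht)
  rw [B.hsum, Finset.sum_eq_zero (s := B.R) fun χ hχ => by
    obtain ⟨h1, h2, h3, h4⟩ := B.mem_R.1 hχ
    rw [(B.out χ h1 h2 h3 h4).2 B.x B.hyp.ord, map_zero, zero_mul]] at hp
  rw [Finset.sum_congr rfl (g := fun χ => ((B.σ χ * (a χ * a χ) * (95040 / (dg χ : ℤ)) : ℤ) : ℂ) / 95040)
    fun χ hχ => by
      have hd0 : (dg χ : ℂ) ≠ 0 := Nat.cast_ne_zero.2 (Nat.pos_iff_ne_zero.1 (charDeg_pos χ))
      have hm : (((95040 / (dg χ : ℤ) : ℤ)) : ℂ) * (dg χ : ℂ) = 95040 := by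
        have h := Int.ediv_mul_cancel (show (dg χ : ℤ) ∣ 95040 by exact_mod_cast dg_dvd hG χ)
        exact_mod_cast congrArg (Int.cast : ℤ → ℂ) h
      rw [B.valT χ hχ B.x B.hyp.ord, map_intCast, value_one, ha]
      push_cast
      rw [eq_div_iff (by norm_num : (95040 : ℂ) ≠ 0), ← hm]
      field_simp] at hp
  simp only [ha, trivial_value, value_one, ha1, B.deg_y', hyy', map_one] at hp
  have hY : conj ((B.y : G → ℂ) B.x) + conj ((B.y' : G → ℂ) B.x) = -(B.ε : ℂ) := by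
    rw [← map_add, B.valY B.x B.hyp.ord, map_neg, map_intCast]
  have hdy0 : (dg B.y : ℂ) ≠ 0 := Nat.cast_ne_zero.2 (Nat.pos_iff_ne_zero.1 (charDeg_pos B.y))
  have hdy : (((95040 / (dg B.y : ℤ) : ℤ)) : ℂ) * (dg B.y : ℂ) = 95040 := by
    have h := Int.ediv_mul_cancel (show (dg B.y : ℤ) ∣ 95040 by exact_mod_cast dg_dvd hG B.y)
    exact_mod_cast congrArg (Int.cast : ℤ → ℂ) h
  have hP : 95040 + ∑ χ ∈ B.T, B.σ χ * (a χ * a χ) * (95040 / (dg χ : ℤ)) =
      B.ε * (a B.y * a B.y) * (95040 / (dg B.y : ℤ)) := by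
    apply Int.cast_injective (α := ℂ)
    rw [← Finset.sum_div, ← Int.cast_sum] at hp
    have hq : ((95040 / (dg B.y : ℤ) : ℤ) : ℂ) = 95040 / (dg B.y : ℂ) := eq_div_of_mul_eq hdy0 hdy
    rw [Int.cast_add, Int.cast_mul, hq]
    push_cast at hp ⊢
    linear_combination (95040 : ℂ) * hp - (95040 / (dg B.y : ℂ) * ((a B.y : ℂ) * (a B.y : ℂ))) * hY
  -- the search
  have hk : ∀ L : List (ℤ × ℤ × ℕ), (∀ χ ∈ B.T, ((dg χ : ℤ), B.σ χ, pl (dg χ)) ∈ L) →
      ∀ χ ∈ B.T, vecI ((dg χ : ℤ), B.σ χ, pl (dg χ)) (a χ) ∈ kindsI L h := by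
    intro L hL χ hχ
    obtain ⟨h4, hlo, hhi⟩ := hbd χ fun e => B.trivial_not (e ▸ hχ)
    have hi := idx_mod hG χ (ha χ)
    rw [← hh] at hi
    have hn : a χ * a χ < (h : ℤ) := by
      have := Finset.single_le_sum (f := fun χ => a χ * a χ) (fun i _ => mul_self_nonneg _) hχ
      have := Finset.sum_nonneg (s := B.R) fun i _ => mul_self_nonneg (a i)
      linarith [mul_self_nonneg (a B.y)]
    refine List.mem_flatMap.2 ⟨_, hL χ hχ, List.mem_map.2 ⟨a χ, List.mem_filter.2 ⟨?_, ?_⟩, rfl⟩⟩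
    · refine List.mem_map.2 ⟨_, List.mem_flatMap.2 ⟨(a χ + (dg χ : ℤ)).toNat, List.mem_range.2 ?_,
        List.mem_singleton.2 rfl⟩, ?_⟩ <;> simp <;> omega
    · simp only [okI, Bool.and_eq_true, beq_iff_eq, decide_eq_true_eq]
      exact ⟨⟨⟨⟨hlo, hhi⟩, by omega⟩, hn⟩, hi⟩
  have hb : ∀ S ⊆ B.T, boundI h ((0, 0, 0, 0, 0, 0, 0, 0, 0) +
      ∑ χ ∈ S, vecI ((dg χ : ℤ), B.σ χ, pl (dg χ)) (a χ)) = true := by
    intro S hS
    rw [sum_vecI]
    simp only [boundI, Prod.mk_add_mk, zero_add, Bool.and_eq_true, decide_eq_true_eq]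
    have h1 := Finset.sum_le_sum_of_subset_of_nonneg hS fun i _ _ => mul_self_nonneg (a i)
    have h2 := Finset.sum_le_sum_of_subset_of_nonneg hS fun i _ _ => mul_self_nonneg (dg i : ℤ)
    have h3 := Finset.sum_nonneg (s := B.R) fun i _ => mul_self_nonneg (a i)
    have h4 := Finset.sum_nonneg (s := B.R) fun i _ => mul_self_nonneg (dg i : ℤ)
    refine ⟨⟨?_, by linarith [mul_self_nonneg (a B.y)]⟩, by linarith [mul_self_nonneg (dg B.y : ℤ)]⟩
    have := Finset.card_le_card hS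
    rw [B.card_T] at this
    omega
  have hf : finalI h ((0, 0, 0, 0, 0, 0, 0, 0, 0) +
      ∑ χ ∈ B.T, vecI ((dg χ : ℤ), B.σ χ, pl (dg χ)) (a χ)) = true := by
    by_cases hB : B.IsB
    · refine search_sound (boundI h) (finalI h) 6 _ _ (List.all_eq_true.1 checkRows_true h hord) B.T _
        (hk degsB fun χ hχ => ?_) hb
      rcases B.sign χ hχ with ⟨e, hd | hd | hd⟩ | ⟨e, hd | hd | hd | hd⟩ <;>
        rcases B.isB_deg hB hχ with hd' | hd' | hd' | hd' <;> rw [hd] at hd' <;>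
          first | omega | (rw [e, hd]; simp [degsB, pl])
    · refine search_sound (boundI h) (finalI h) 6 _ _
        (List.all_eq_true.1 checkInvolution_true h (List.mem_filter.2 ⟨hord, ?_⟩)) B.T _
        (hk degsI fun χ hχ => ?_) hb
      · rcases hor with e | e | e
        · simp [e]
        · simp [e]
        · exact absurd e hB
      · rcases B.sign χ hχ with ⟨e, hd | hd | hd⟩ | ⟨e, hd | hd | hd | hd⟩ <;>
          rw [e, hd] <;> simp [degsI, pl]
  rw [sum_vecI] at hf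
  simp only [Prod.mk_add_mk, zero_add] at hf
  have hy0 : 0 < (dg B.y : ℤ) := by exact_mod_cast charDeg_pos B.y
  have hsgn : (if 0 < 1 + ∑ χ ∈ B.T, B.σ χ * (dg χ : ℤ) then (1 : ℤ) else -1) = B.ε := by
    rw [← hd']
    rcases B.ε_sign with e | e <;> rw [e]
    · rw [if_pos (by omega)]
    · rw [if_neg (by omega)]
  obtain ⟨h4, hlo, hhi⟩ := hbd B.y B.y_ne
  have hi := idx_mod hG B.y (ha B.y)
  rw [← hh] at hi
  have hdvd : (95040 : ℤ) % (dg B.y : ℤ) = 0 := by
    exact_mod_cast Nat.mod_eq_zero_of_dvd (dg_dvd hG B.y)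
  have hm := B.deg_y
  simp only [finalI, hsgn] at hf
  rw [← hr', ← hd', ← mul_assoc, ← mul_assoc, B.εε, one_mul, one_mul] at hf
  simp only [show ((B.T.card : ℤ) == 4) = true by simp [B.card_T], Bool.not_true, Bool.false_or] at hf
  rcases Bool.or_eq_true_iff.1 hf with hbad | hgood
  · exfalso
    simp only [Bool.not_eq_true', Bool.and_eq_false_iff, beq_eq_false_iff_ne, decide_eq_false_iff_not]
      at hbad
    have hsT : 0 ≤ ∑ χ ∈ B.R, a χ * a χ := Finset.sum_nonneg fun i _ => mul_self_nonneg (a i)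
    have hsD : 0 ≤ ∑ χ ∈ B.R, (dg χ : ℤ) * (dg χ : ℤ) := Finset.sum_nonneg fun i _ => mul_self_nonneg _
    rcases hbad with ((((((((((hb | hb) | hb) | hb) | hb) | hb) | hb) | hb) | hb) | hb) | hb)
    all_goals first | exact hb (by omega) | exact hb hP | skip
    all_goals apply hb
    all_goals
      rw [show 95040 - (1 + ∑ χ ∈ B.T, (dg χ : ℤ) * (dg χ : ℤ) + 2 * ((dg B.y : ℤ) * (dg B.y : ℤ))) =
          ∑ χ ∈ B.R, (dg χ : ℤ) * (dg χ : ℤ) by linarith,
        show (h : ℤ) - (1 + ∑ χ ∈ B.T, a χ * a χ + 2 * (a B.y * a B.y)) = ∑ χ ∈ B.R, a χ * a χ by linarith,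
        show 1 + ∑ χ ∈ B.T, (dg χ : ℤ) * a χ + 2 * ((dg B.y : ℤ) * a B.y) =
          -∑ χ ∈ B.R, (dg χ : ℤ) * a χ by linarith, neg_mul_neg]
      exact hcs
  · exact hgood

/-- An involution with a large 2-part of centralizer. -/
theorem exists_central (hG : Nat.card G = 95040) : ∃ t : G, orderOf t = 2 ∧ cn t % 64 = 0 := by
  haveI : Fact (Nat.Prime 2) := ⟨Nat.prime_two⟩
  obtain ⟨P⟩ : Nonempty (Sylow 2 G) := inferInstance
  have hP : Nat.card (P : Subgroup G) = 2 ^ 6 := by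
    rw [P.card_eq_multiplicity, hG, show (95040 : ℕ) = 2 ^ 6 * 1485 by norm_num,
      Nat.factorization_mul (by norm_num) (by norm_num), Finsupp.add_apply,
      Nat.Prime.factorization_pow Nat.prime_two, Finsupp.single_eq_same,
      Nat.factorization_eq_zero_of_not_dvd (by norm_num : ¬ 2 ∣ 1485)]
  haveI : Nontrivial (P : Subgroup G) := Finite.one_lt_card_iff_nontrivial.1 (by rw [hP]; norm_num)
  have hc := P.isPGroup'.center_nontrivial
  obtain ⟨k, hk⟩ := IsPGroup.iff_card.1 (P.isPGroup'.to_subgroup (Subgroup.center (P : Subgroup G)))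
  have hk0 : k ≠ 0 := fun e => by
    rw [e, pow_zero] at hk
    exact (Finite.one_lt_card_iff_nontrivial.2 hc).ne' hk
  obtain ⟨z, hz⟩ := exists_prime_orderOf_dvd_card' (G := Subgroup.center (P : Subgroup G)) 2
    (hk ▸ dvd_pow_self 2 hk0)
  refine ⟨((z : (P : Subgroup G)) : G), by rw [Subgroup.orderOf_coe, Subgroup.orderOf_coe, hz], ?_⟩
  have hle : (P : Subgroup G) ≤ Subgroup.centralizer {((z : (P : Subgroup G)) : G)} := fun g hg =>
    Subgroup.mem_centralizer_singleton_iff.2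
      (congrArg Subtype.val (Subgroup.mem_center_iff.1 z.2 ⟨g, hg⟩))
  have := Subgroup.card_dvd_of_le hle
  rw [hP] at this
  exact Nat.mod_eq_zero_of_dvd (by simpa using this)

theorem code_ne_C (hG : Nat.card G = 95040) : B.code ≠ codeC := by
  intro hC
  obtain ⟨t, ht, h64⟩ := exists_central hG
  obtain ⟨a, ha, -⟩ := inv_value hG ht
  have h := B.accept hG ht a ha (Or.inr (Or.inl h64))
  simp [acceptI, hC, codeC, codeB, codesO, h64] at h

/-- An involution whose centralizer has order divisible by ten determines the degrees. -/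
theorem isB_of_ten (hG : Nat.card G = 95040) {t : G} (ht : orderOf t = 2) (h : cn t % 10 = 0) : B.IsB := by
  by_contra hB
  obtain ⟨a, ha, -⟩ := inv_value hG ht
  have h' := B.accept hG ht a ha (Or.inl h)
  have hne := B.code_ne_C hG
  rw [acceptI, if_neg (show ¬ B.code = codeB from hB), if_pos h] at h'
  simp [hne] at h'

/-- The degrees when they are not 45, 144, 54, 120. -/
theorem code_mem (hG : Nat.card G = 95040) (hB : ¬ B.IsB) : B.code ∈ codesO := by
  obtain ⟨t, ht, h64⟩ := exists_central hG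
  obtain ⟨a, ha, -⟩ := inv_value hG ht
  have h' := B.accept hG ht a ha (Or.inr (Or.inl h64))
  have h10 : cn t % 10 ≠ 0 := fun e => hB (B.isB_of_ten hG ht e)
  rw [acceptI, if_neg (show ¬ B.code = codeB from hB), if_neg h10] at h'
  simp [h64] at h'
  exact h'.1

/-- Three characters of degree ten do not agree at a central involution. -/
theorem tens_not_equal (hG : Nat.card G = 95040) (h3 : B.cnt 10 = 3) {t : G} (ht : orderOf t = 2)
    (h64 : cn t % 64 = 0) {m : ℤ}
    (hm : ∀ χ ∈ B.T, dg χ = 10 → (χ : G → ℂ) t = m) : False := by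
  classical
  have hB : ¬ B.IsB := fun h => by have := B.isB_iff.1 h; omega
  obtain ⟨a, ha, -, hbd⟩ := inv_value hG ht
  have h' := B.accept hG ht a ha (Or.inr (Or.inl h64))
  have h10 : cn t % 10 ≠ 0 := fun e => hB (B.isB_of_ten hG ht e)
  rw [acceptI, if_neg (show ¬ B.code = codeB from hB), if_neg h10] at h'
  simp [h64] at h'
  obtain ⟨hmem, hten⟩ := h'
  have hs := B.cnt_sum
  have hc := B.code_eq
  have h45 : B.cnt 12 = 0 ∧ B.cnt 45 = 1 ∧ B.cnt 144 = 0 ∧ B.cnt 32 = 0 ∧ B.cnt 54 = 0 ∧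
      B.cnt 120 = 0 := by
    simp only [codesO, List.mem_cons, List.not_mem_nil, or_false] at hmem
    omega
  obtain ⟨f, hf⟩ := Finset.card_eq_one.1 h45.2.1
  obtain ⟨hfT, hfd⟩ := Finset.mem_filter.1
    (show f ∈ B.T.filter fun χ => dg χ = 45 by rw [hf]; exact Finset.mem_singleton_self f)
  have hsum : B.val a = 1000 * a f + 3 * m * 1000000000 := by
    rw [val, ← Finset.sum_filter_add_sum_filter_not B.T fun χ => dg χ = 45, hf, Finset.sum_singleton]
    have hnot : B.T.filter (fun χ => ¬ dg χ = 45) = B.T.filter fun χ => dg χ = 10 := by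
      refine Finset.filter_congr fun χ hχ => ⟨fun h => ?_, fun h => by omega⟩
      have h' := B.cnt_pos hχ
      rcases B.deg_mem hχ with e | e | e | e | e | e | e <;> rw [e] at h' <;> omega
    rw [hnot, Finset.sum_congr rfl (g := fun _ => m * 1000000000) fun χ hχ => by
      obtain ⟨h1, h2⟩ := Finset.mem_filter.1 hχ
      rw [show a χ = m from Int.cast_injective (α := ℂ) ((ha χ).symm.trans (hm χ h1 h2)), h2]
      norm_num [pl], Finset.sum_const, show (B.T.filter fun χ => dg χ = 10).card = 3 from h3,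
      hfd]
    norm_num [pl]
    ring
  obtain ⟨-, hlo, hhi⟩ := hbd f fun e => B.trivial_not (e ▸ hfT)
  obtain ⟨g, hg⟩ := Finset.card_pos.1 (by rw [show (B.T.filter fun χ => dg χ = 10).card = 3 from h3]; omega :
    0 < (B.T.filter fun χ => dg χ = 10).card)
  obtain ⟨hgT, hgd⟩ := Finset.mem_filter.1 hg
  obtain ⟨-, glo, ghi⟩ := hbd g fun e => B.trivial_not (e ▸ hgT)
  have hgm : a g = m := Int.cast_injective (α := ℂ) ((ha g).symm.trans (hm g hgT hgd))
  have he : (1000 * a f + 3 * m * 1000000000 + 500500500500500500500) / 1000000000 = 500500500500 + 3 * m := by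
    rw [show 1000 * a f + 3 * m * 1000000000 + 500500500500500500500 =
      (500500500 + 1000 * a f) + (500500500500 + 3 * m) * 1000000000 by ring,
      Int.add_mul_ediv_right _ _ (by norm_num)]
    have : (500500500 + 1000 * a f) / 1000000000 = 0 := Int.ediv_eq_zero_of_lt (by omega) (by omega)
    omega
  have ht3 : tens (B.val a) = 3 * m := by
    rw [hsum, tens, he]
    omega
  rw [ht3] at hten
  omega

/-- The rows of the degrees 45, 144, 54, 120 at the involutions. -/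
theorem row (hG : Nat.card G = 95040) (hB : B.IsB) {t : G} (ht : orderOf t = 2)
    (a : IrrCharacter G → ℤ) (ha : ∀ χ : IrrCharacter G, (χ : G → ℂ) t = a χ) :
    (cn t, B.val a, a B.y) ∈ rowsB := by
  have h := B.accept hG ht a ha (Or.inr (Or.inr hB))
  rw [acceptI, if_pos (show B.code = codeB from hB)] at h
  exact List.contains_iff_mem.1 h

end Blk

end Cfsg.Agent.Invol.M12Ord
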