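import Mathlib
import Cfsg.Agent.Lib.Invol.Order95040.Involution
import Cfsg.Agent.Lib.Invol.Order95040.CharSums
import Cfsg.Agent.Lib.Grp.Frattini

/-!
Simple groups of order 95040: the elements of order five and the involution centralising one.
-/

set_option autoImplicit false
set_option linter.style.haveILetI false
set_option linter.unusedSectionVars false

namespace Cfsg.Agent.Invol.M12Ord

open scoped ComplexConjugate
open Cfsg Cfsg.Agent.Block Cfsg.Agent.Char

universe u

variable {G : Type u} [Group G] [Finite G] [IsSimpleGroup G]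

theorem card_five : (95040 : ℕ).factorization 5 = 1 := by
  rw [show (95040 : ℕ) = 5 ^ 1 * 19008 by norm_num, Nat.factorization_mul (by norm_num) (by norm_num),
    Finsupp.add_apply, Nat.Prime.factorization_pow (by norm_num : Nat.Prime 5), Finsupp.single_eq_same,
    Nat.factorization_eq_zero_of_not_dvd (by norm_num : ¬ 5 ∣ 19008)]

/-- A character of degree divisible by five vanishes at elements of order divisible by five. -/
theorem vanish_five (hG : Nat.card G = 95040) (χ : IrrCharacter G) (h5 : 5 ∣ dg χ) {g : G}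
    (hg : 5 ∣ orderOf g) : (χ : G → ℂ) g = 0 := by
  haveI : Fact (Nat.Prime 5) := ⟨by norm_num⟩
  obtain ⟨M, hM⟩ := exists_isPModular 5 Fact.out
  refine defectZero_vanish hM χ ?_ hg
  have hpos : dg χ ≠ 0 := Nat.pos_iff_ne_zero.1 (charDeg_pos χ)
  have h1 := (Nat.Prime.dvd_iff_one_le_factorization (Fact.out : Nat.Prime 5) hpos).1 h5
  have h2 := (Nat.factorization_le_iff_dvd hpos (by norm_num)).2 (dg_dvd hG χ) 5
  rw [card_five] at h2
  rw [hG, card_five]
  change (dg χ).factorization 5 = 1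
  omega

theorem sum_zmod_three {W : Type*} [AddCommMonoid W] (F : ZMod 3 → W) : ∑ j, F j = F 0 + F 1 + F 2 := by
  exact Fin.sum_univ_three F

theorem zmod_three_two : (2 : ZMod 3) ≠ 0 := by decide

theorem zmod_three_one : (1 : ZMod 3) ≠ 0 := by decide

theorem digit {n a b : ℕ} (ha : a < 5) (hn : n = a + 5 * b) : a = n % 5 ∧ n / 5 = b := by omega

theorem digits_aux (n a b c d e f g : ℕ) (ha : a < 5) (hb : b < 5) (hc : c < 5) (hd : d < 5) (he : e < 5)
    (hf : f < 5) (hn : n = a + 5 * (b + 5 * (c + 5 * (d + 5 * (e + 5 * (f + 5 * g)))))) :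
    a = n % 5 ∧ b = n / 5 % 5 ∧ c = n / 25 % 5 ∧ d = n / 125 % 5 ∧ e = n / 625 % 5 ∧ f = n / 3125 % 5 ∧
      g = n / 15625 := by
  obtain ⟨h1, e1⟩ := digit ha hn
  obtain ⟨h2, e2⟩ := digit hb e1
  obtain ⟨h3, e3⟩ := digit hc e2
  obtain ⟨h4, e4⟩ := digit hd e3
  obtain ⟨h5, e5⟩ := digit he e4
  obtain ⟨h6, e6⟩ := digit hf e5
  simp only [Nat.div_div_eq_div_mul] at h1 h2 h3 h4 h5 h6 e6
  exact ⟨h1, h2, h3, h4, h5, h6, e6.symm⟩

namespace Blk

variable (B : Blk G)

theorem digits : B.cnt 12 = B.code % 5 ∧ B.cnt 45 = B.code / 5 % 5 ∧ B.cnt 144 = B.code / 25 % 5 ∧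
    B.cnt 10 = B.code / 125 % 5 ∧ B.cnt 32 = B.code / 625 % 5 ∧ B.cnt 54 = B.code / 3125 % 5 ∧
    B.cnt 120 = B.code / 15625 := by
  have hs := B.cnt_sum
  refine digits_aux B.code _ _ _ _ _ _ _ (by omega) (by omega) (by omega) (by omega) (by omega) (by omega) ?_
  rw [B.code_eq]
  ring

include B in
theorem no_eleven_five {u z : G} (hu : orderOf u = 5) (hz : orderOf z = 11) : u * z ≠ z * u := by
  haveI : Fact (Nat.Prime 11) := ⟨by norm_num⟩
  intro hc
  have h := SCP.hyp_of_ord B.hyp hz
  have h1 := Subgroup.orderOf_dvd_natCard _ (SCP.mem_P_of_comm h hc)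
  rw [hu, SCP.card_P h] at h1
  norm_num at h1

theorem deg_cases {χ : IrrCharacter G} (h : χ ≠ trivialIrr G) :
    11 ∣ dg χ ∨ χ ∈ B.T ∨ dg χ = dg B.y := by
  by_cases h1 : χ = B.y
  · exact Or.inr (Or.inr (h1 ▸ rfl))
  by_cases h2 : χ = B.y'
  · exact Or.inr (Or.inr (by rw [h2, B.deg_y']))
  by_cases h3 : χ ∈ B.T
  · exact Or.inr (Or.inl h3)
  · exact Or.inl (B.out χ h h1 h2 h3).1

/-- An automizer of order two forces a degree twelve. -/
theorem twelve_of_two (hG : Nat.card G = 95040) (P : Sylow 5 G) (hP : Nat.card P = 5)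
    (he : (Subgroup.centralizer ((P : Subgroup G) : Set G)).relIndex
      (Subgroup.normalizer ((P : Subgroup G) : Set G)) = 2) : 0 < B.cnt 12 := by
  classical
  haveI : Fact (Nat.Prime 5) := ⟨by norm_num⟩
  obtain ⟨M, hM⟩ := exists_isPModular 5 Fact.out
  obtain ⟨X, y, s, ε, hXc, hX, hy, hε, hdy, hrel, hnorm⟩ :=
    OrdP.data (not_comm hG) hM (by norm_num) P hP he (by norm_num) (by norm_num) (by norm_num)
  obtain ⟨χ, rfl⟩ := Finset.card_eq_one.1 (show X.card = 1 by omega)
  obtain ⟨hne, hs, hd, -⟩ := hX χ (Finset.mem_singleton_self χ)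
  obtain ⟨hd1, -⟩ := OrdP.degree_data hrel hnorm
  rw [Finset.sum_singleton] at hd1
  have hd1' : ε * (dg y : ℤ) = 1 + s χ * (dg χ : ℤ) := hd1
  have hd' : (dg χ : ℤ) % 5 = s χ % 5 := hd
  have key : ((List.range 309).all fun n => 95040 % n != 0 ||
      ((n % 5 != 1 || 95040 % (n + 1) != 0 || [1, 11].contains n) &&
        (n % 5 != 4 || 95040 % (n - 1) != 0 || [4, 9].contains n))) = true := by decide +kernel
  have hk := List.all_eq_true.1 key (dg χ) (List.mem_range.2 (by have := dg_le hG χ; omega))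
  simp [Nat.mod_eq_zero_of_dvd (dg_dvd hG χ)] at hk
  have h2χ := two_le hG hne
  have h2y := two_le hG hy
  have hy' : dg y = dg χ + 1 ∧ (dg χ : ℕ) % 5 = 1 ∨ dg y = dg χ - 1 ∧ dg χ % 5 = 4 := by
    rcases hε with rfl | rfl <;> rcases hs with e | e <;> rw [e] at hd1' hd' <;> omega
  have hyd := Nat.mod_eq_zero_of_dvd (dg_dvd hG y)
  rcases hy' with ⟨e1, e2⟩ | ⟨e1, e2⟩
  · rw [e1] at hyd
    have h11 : dg χ = 11 := by
      rcases hk.1 with (h | h) | h <;> omega
    rcases B.deg_cases hy with h | h | h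
    · omega
    · have := B.cnt_pos h
      rw [e1, h11] at this
      exact this
    · have := B.deg_y
      rcases B.ε_sign with e | e <;> rw [e] at this <;> omega
  · exfalso
    rw [e1] at hyd
    have h49 : dg χ = 4 ∨ dg χ = 9 := by
      rcases hk.2 with (h | h) | h <;> omega
    rcases B.deg_cases hne with h | h | h
    · omega
    · have := B.deg_mem h
      omega
    · have := B.deg_y
      rcases B.ε_sign with e | e <;> rw [e] at this <;> omega

/-- The degree of the exceptional characters in the case of the code 16276. -/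
theorem deg_five_case (h : B.code = 16276) : dg B.y = 5 := by
  have hs := B.cnt_sum
  rw [B.code_eq] at h
  have e12 : B.cnt 12 = 1 := by omega
  have e45 : B.cnt 45 = 0 := by omega
  have e144 : B.cnt 144 = 1 := by omega
  have e10 : B.cnt 10 = 0 := by omega
  have e32 : B.cnt 32 = 1 := by omega
  have e54 : B.cnt 54 = 0 := by omega
  have e120 : B.cnt 120 = 1 := by omega
  have hd := B.deg_rel
  rw [Finset.sum_congr rfl (g := fun χ => (fun d : ℕ => if d = 12 ∨ d = 45 ∨ d = 144 then (d : ℤ) else -(d : ℤ)) (dg χ))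
    fun χ hχ => by
      rcases B.sign χ hχ with ⟨e, he⟩ | ⟨e, he⟩ <;> rw [e]
      · simp [he]
      · rcases he with r | r | r | r <;> simp [r],
    B.sum_T fun d : ℕ => if d = 12 ∨ d = 45 ∨ d = 144 then (d : ℤ) else -(d : ℤ),
    e12, e45, e144, e10, e32, e54, e120] at hd
  norm_num at hd
  rcases B.ε_sign with e | e <;> rw [e] at hd <;> omega

/-- Outside the main case there is a character of degree five or ten, or one of degree 54 and no twelve. -/
theorem small_deg (hG : Nat.card G = 95040) (hB : ¬ B.IsB) :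
    (∃ χ : IrrCharacter G, dg χ = 5 ∨ dg χ = 10) ∨ (B.cnt 12 = 0 ∧ ∃ χ : IrrCharacter G, dg χ = 54) := by
  classical
  have hex : ∀ d, 0 < B.cnt d → ∃ χ : IrrCharacter G, dg χ = d := fun d hd => by
    obtain ⟨χ, hχ⟩ := Finset.card_pos.1 hd
    exact ⟨χ, (Finset.mem_filter.1 hχ).2⟩
  have h := B.code_mem hG hB
  by_cases h5 : B.code = 16276
  · exact Or.inl ⟨B.y, Or.inl (B.deg_five_case h5)⟩
  simp only [codesO, List.mem_cons, List.not_mem_nil, or_false] at h
  obtain ⟨d12, -, -, d10, -, d54, -⟩ := B.digits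
  rcases Nat.eq_zero_or_pos (B.cnt 10) with h10 | h10
  · right
    refine ⟨?_, hex 54 ?_⟩ <;>
      (rcases h with e | e | e | e | e | e | e | e | e <;> omega)
  · obtain ⟨χ, hχ⟩ := hex 10 h10
    exact Or.inl ⟨χ, Or.inr hχ⟩

end Blk

/-- An element of order five with an involution centralising it. -/
structure Pair (G : Type u) [Group G] where
  u : G
  w : G
  ou : orderOf u = 5
  ow : orderOf w = 2
  comm : u * w = w * u
  cn_u : cn u = 10
  pow_conj : ∀ k : ℕ, ¬ 5 ∣ k → ∃ g : G, g * u * g⁻¹ = u ^ k ∧ g * w * g⁻¹ = w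

section Vanish

variable {u : G}

theorem ord_mul_five (hu : orderOf u = 5) {v : G} (hc : u * v = v * u) : 5 ∣ orderOf v ∨ 5 ∣ orderOf (u * v) := by
  by_cases h : 5 ∣ orderOf v
  · exact Or.inl h
  · right
    rw [(show Commute u v from hc).orderOf_mul_eq_mul_orderOf_of_coprime
      (by rw [hu]; exact ((by norm_num : Nat.Prime 5).coprime_iff_not_dvd).2 h), hu]
    exact dvd_mul_right 5 _

/-- The value at an element of order three commuting with an element of order five. -/
theorem value_three (hG : Nat.card G = 95040) (hu : orderOf u = 5) {χ : IrrCharacter G}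
    (hd : dg χ = 5 ∨ dg χ = 10) {v : G} (hv : orderOf v = 3) (hc : u * v = v * u) :
    dg χ = 10 ∧ (χ : G → ℂ) v = -5 := by
  classical
  haveI : Fact (Nat.Prime 5) := ⟨by norm_num⟩
  haveI : Fact (Nat.Prime 3) := ⟨by norm_num⟩
  obtain ⟨M, hM⟩ := exists_isPModular 5 Fact.out
  have hne : χ ≠ trivialIrr G := fun e => by rw [e, dg_trivial] at hd; omega
  have hv3 : v ^ 3 = 1 := by rw [← hv]; exact pow_orderOf_eq_one v
  have hcong : ∀ k : ℕ, MemLocalIdeal M ((χ : G → ℂ) (v ^ k) - ((0 : ℤ) : ℂ)) := by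
    intro k
    have hck : Commute u (v ^ k) := Commute.pow_right hc k
    have hk5 : ¬ 5 ∣ orderOf (v ^ k) := fun h => by
      have := dvd_trans h (orderOf_pow_dvd k)
      rw [hv] at this
      norm_num at this
    refine OrdP.congr_of_value hM χ (by rw [← hu]; exact pow_orderOf_eq_one u) hck hk5 ?_
    rw [vanish_five hG χ (by omega) ((ord_mul_five hu hck.eq).resolve_left hk5), Int.cast_zero]
  obtain ⟨a, ω, hω, hsum, hcg, hdet, hval⟩ :=
    OrdP.spectrum (not_comm hG) hM χ (q := 3) (by norm_num) hv3 hcong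
  rw [sum_zmod_three] at hsum hdet hval
  have h0 := hcg 0
  have h1 := hcg 1
  have h2 := hcg 2
  rw [if_pos rfl, Int.modEq_zero_iff_dvd] at h0
  rw [if_neg zmod_three_one, Int.modEq_zero_iff_dvd] at h1
  rw [if_neg zmod_three_two, Int.modEq_zero_iff_dvd] at h2
  have hd3 : (a 1 + 2 * a 2) % 3 = 0 := by
    have h : ((a 1 + 2 * a 2 : ℕ) : ZMod 3) = 0 := by
      rw [← hdet]; push_cast; ring
    exact Nat.mod_eq_zero_of_dvd ((ZMod.natCast_eq_zero_iff _ _).1 h)
  have hnz : ¬ (a 1 = 0 ∧ a 2 = 0) := fun ⟨e1, e2⟩ => by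
    have := OrdP.eq_one_of_value hne (g := v) (by
      rw [hval, e1, e2, charDeg_spec', ← hsum, e1, e2]; simp)
    rw [this, orderOf_one] at hv
    omega
  change _ = dg χ at hsum
  obtain ⟨hd10, e0, e1, e2⟩ : dg χ = 10 ∧ a 0 = 0 ∧ a 1 = 5 ∧ a 2 = 5 := by omega
  refine ⟨hd10, ?_⟩
  have hω3 : (1 : ℂ) + ω + ω ^ 2 = 0 := by
    have := hω.geom_sum_eq_zero (by norm_num)
    simpa [Finset.sum_range_succ] using this
  rw [hval, e0, e1, e2, show (1 : ZMod 3).val = 1 from rfl, show (2 : ZMod 3).val = 2 from rfl]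
  push_cast
  linear_combination (5 : ℂ) * hω3

end Vanish

variable (B : Blk G)

/-- A group of order nine commuting with an element of order five rules out the small degrees. -/
theorem nine_small (hG : Nat.card G = 95040) {u : G} (hu : orderOf u = 5) (U : Subgroup G)
    (hU : Nat.card U = 9) (hcU : ∀ g ∈ U, u * g = g * u) {χ : IrrCharacter G}
    (hd : dg χ = 5 ∨ dg χ = 10) (hB : ¬ B.IsB) : False := by
  classical
  haveI : Fintype U := Fintype.ofFinite U
  have hord : ∀ g ∈ U, orderOf g = 1 ∨ orderOf g = 3 ∨ orderOf g = 9 := fun g hg => by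
    have h : orderOf g ∣ 3 ^ 2 := by
      have := Subgroup.orderOf_dvd_natCard U hg
      rw [hU] at this
      exact this
    obtain ⟨i, hi, e⟩ := (Nat.dvd_prime_pow Nat.prime_three).1 h
    interval_cases i <;> simp_all
  have h10 : dg χ = 10 := by
    haveI : Fact (Nat.Prime 3) := ⟨Nat.prime_three⟩
    obtain ⟨v, hv⟩ := exists_prime_orderOf_dvd_card' (G := U) 3 (by rw [hU]; norm_num)
    exact (value_three hG hu hd (by rw [Subgroup.orderOf_coe, hv]) (hcU v v.2)).1
  by_cases h9 : ∃ z ∈ U, orderOf z = 9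
  · obtain ⟨z, hzU, hz⟩ := h9
    have hv3 : ∀ ψ : IrrCharacter G, dg ψ = 10 → ∀ y : G, orderOf y = 3 → y ∈ Subgroup.zpowers z →
        (ψ : G → ℂ) y = -5 := fun ψ hψ y hy hyz =>
      (value_three hG hu (Or.inr hψ) hy (hcU y (Subgroup.zpowers_le.2 hzU hyz))).2
    have hcop : (29 : ℕ).Coprime (Nat.card G) := by rw [hG]; norm_num
    let σ : IrrCharacter G → IrrCharacter G := fun ψ => ⟨fun g => (ψ : G → ℂ) (g ^ 29), IsIrr.pow_map ψ.2 hcop⟩
    have hinj : Function.Injective σ := fun ψ φ h => by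
      apply Subtype.ext
      funext g
      obtain ⟨g', rfl⟩ := (powCoprime (G := G) hcop.symm).surjective g
      exact congrFun (congrArg Subtype.val h) g'
    have hσd : ∀ ψ, dg ψ = 10 → dg (σ ψ) = 10 := fun ψ hψ => by
      apply Nat.cast_injective (R := ℂ)
      rw [← hψ, ← value_one, ← value_one]
      show (ψ : G → ℂ) (1 ^ 29) = _
      rw [one_pow]
    have hne2 : ∀ ψ, dg ψ = 10 → σ (σ ψ) ≠ ψ := fun ψ hψ h => by
      refine nine_false (IsIrr.isCharacter ψ.2) hz ((value_one ψ).trans (by rw [hψ]; norm_num)) (hv3 ψ hψ)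
        fun i => ?_
      have h' := congrFun (congrArg Subtype.val h) (z ^ i)
      change (ψ : G → ℂ) (((z ^ i) ^ 29) ^ 29) = _ at h'
      rw [← pow_mul, ← pow_mul] at h'
      have e : z ^ (4 * i) = z ^ (i * (29 * 29)) := by
        rw [← pow_mod_orderOf z (4 * i), ← pow_mod_orderOf z (i * (29 * 29)), hz]
        congr 1
        omega
      rw [e]
      exact h'
    have hne1 : σ χ ≠ χ := fun h => hne2 χ h10 (by rw [h, h])
    have hne3 : σ (σ χ) ≠ σ χ := fun h => hne1 (hinj h)
    have hT : ∀ ψ, dg ψ = 10 → ψ ∈ B.T := fun ψ hψ => by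
      rcases B.deg_cases (χ := ψ) (fun e => by rw [e, dg_trivial] at hψ; omega) with h | h | h
      · omega
      · exact h
      · have := B.deg_y
        rcases B.ε_sign with e | e <;> rw [e] at this <;> omega
    have hsub : ({χ, σ χ, σ (σ χ)} : Finset (IrrCharacter G)) ⊆ B.T.filter fun ψ => dg ψ = 10 := by
      intro ψ hψ
      simp only [Finset.mem_insert, Finset.mem_singleton] at hψ
      have : dg ψ = 10 := by rcases hψ with rfl | rfl | rfl <;> simp [h10, hσd]
      exact Finset.mem_filter.2 ⟨hT ψ this, this⟩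
    have h3 : ({χ, σ χ, σ (σ χ)} : Finset (IrrCharacter G)).card = 3 :=
      Finset.card_eq_three.2 ⟨_, _, _, hne1.symm, (hne2 χ h10).symm, hne3.symm, rfl⟩
    have hle := Finset.card_le_card hsub
    have hc := B.code_mem hG hB
    simp only [codesO, List.mem_cons, List.not_mem_nil, or_false] at hc
    rw [B.code_eq] at hc
    have hs := B.cnt_sum
    have hcnt : B.cnt 10 = 3 := by
      have : 3 ≤ B.cnt 10 := by rw [← h3]; exact hle
      omega
    have heq := Finset.eq_of_subset_of_card_le hsub (by rw [h3]; exact hcnt.le)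
    obtain ⟨t, ht, h64⟩ := Blk.exists_central hG
    obtain ⟨a, ha, -⟩ := inv_value hG ht
    refine B.tens_not_equal hG hcnt ht h64 (m := a χ) fun ψ hψ hψd => ?_
    have : ψ ∈ ({χ, σ χ, σ (σ χ)} : Finset (IrrCharacter G)) := by
      rw [heq]; exact Finset.mem_filter.2 ⟨hψ, hψd⟩
    have h29 : t ^ 29 = t := by
      rw [← pow_mod_orderOf, ht]; exact pow_one t
    simp only [Finset.mem_insert, Finset.mem_singleton] at this
    rcases this with rfl | rfl | rfl
    · exact ha _
    · show (χ : G → ℂ) (t ^ 29) = _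
      rw [h29]; exact ha χ
    · show (χ : G → ℂ) ((t ^ 29) ^ 29) = _
      rw [h29, h29]; exact ha χ
  · obtain ⟨n, hn⟩ := sum_nat (IsIrr.isCharacter χ.2) U
    have hval : ∀ g : U, (χ : G → ℂ) g = if g = 1 then 10 else -5 := by
      intro g
      split_ifs with e
      · rw [e, Subgroup.coe_one, value_one, h10]; norm_num
      · rcases hord g g.2 with h | h | h
        · exact absurd (Subtype.ext (orderOf_eq_one_iff.1 h)) e
        · exact (value_three hG hu hd h (hcU g g.2)).2
        · exact absurd ⟨g, g.2, h⟩ h9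
    rw [Finset.sum_congr rfl fun g _ => hval g, Finset.sum_ite, Finset.sum_const, Finset.sum_const,
      Finset.filter_eq', if_pos (Finset.mem_univ _), Finset.card_singleton, Finset.filter_ne',
      Finset.card_erase_of_mem (Finset.mem_univ _), Finset.card_univ, ← Nat.card_eq_fintype_card, hU] at hn
    norm_num at hn
    have : (-30 : ℤ) = (n : ℤ) * 9 := by
      apply Int.cast_injective (α := ℂ); push_cast; linear_combination hn
    omega

/-- A character of degree 54 is incompatible with a centralizer of order 135. -/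
theorem no_54 (hG : Nat.card G = 95040) {u : G} (hu : orderOf u = 5) (hcn : cn u = 135)
    (hfive : ∀ g ∈ Subgroup.centralizer ({u} : Set G), g ^ 5 = 1 → g ∈ Subgroup.zpowers u)
    {χ : IrrCharacter G} (hd : dg χ = 54) : False := by
  classical
  haveI : Fact (Nat.Prime 3) := ⟨Nat.prime_three⟩
  set C := Subgroup.centralizer ({u} : Set G) with hC
  haveI : Fintype C := Fintype.ofFinite C
  obtain ⟨M, hM⟩ := exists_isPModular 3 Fact.out
  have huC : u ∈ C := Subgroup.mem_centralizer_singleton_iff.2 rfl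
  set u' : C := ⟨u, huC⟩ with hu'
  have hou' : orderOf u' = 5 := by rw [← Subgroup.orderOf_coe]; exact hu
  have hv : ∀ g : C, g ∉ (Finset.range 5).image (u' ^ ·) → (χ : G → ℂ) g = 0 := by
    intro g hg
    refine defectZero_vanish hM χ ?_ ?_
    · rw [show charDegree (χ : G → ℂ) = 54 from hd, hG, show (54 : ℕ) = 3 ^ 3 * 2 by norm_num,
        show (95040 : ℕ) = 3 ^ 3 * 3520 by norm_num, Nat.factorization_mul (by norm_num) (by norm_num),
        Nat.factorization_mul (by norm_num) (by norm_num), Finsupp.add_apply, Finsupp.add_apply,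
        Nat.factorization_eq_zero_of_not_dvd (by norm_num : ¬ 3 ∣ 2),
        Nat.factorization_eq_zero_of_not_dvd (by norm_num : ¬ 3 ∣ 3520)]
    · by_contra h3
      have hd : orderOf (g : G) ∣ 3 ^ 3 * 5 := by
        have h := Subgroup.orderOf_dvd_natCard C g.2
        rw [show Nat.card C = 135 from hcn] at h
        simpa using h
      have h5 : orderOf (g : G) ∣ 5 :=
        (((Nat.prime_three.coprime_iff_not_dvd).2 h3).symm.pow_right 3).dvd_of_dvd_mul_left hd
      have hz := hfive g g.2 (orderOf_dvd_iff_pow_eq_one.1 h5)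
      rw [← IsOfFinOrder.mem_powers_iff_mem_zpowers (isOfFinOrder_of_finite u)] at hz
      obtain ⟨i, hi⟩ := hz
      refine hg (Finset.mem_image.2 ⟨i % 5, Finset.mem_range.2 (Nat.mod_lt _ (by norm_num)), ?_⟩)
      rw [← hou', pow_mod_orderOf]
      exact Subtype.ext hi
  obtain ⟨n, hn⟩ := sum_nat (IsIrr.isCharacter χ.2) C
  rw [show Nat.card C = 135 from hcn, ← Finset.sum_subset (Finset.subset_univ _) (fun g _ hg => hv g hg),
    Finset.sum_image fun i hi j hj h => by
      simp only [Finset.coe_range, Set.mem_Iio] at hi hj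
      exact pow_injOn_Iio_orderOf (by rw [Set.mem_Iio, hou']; omega) (by rw [Set.mem_Iio, hou']; omega) h] at hn
  simp only [Finset.sum_range_succ, Finset.sum_range_zero, zero_add, pow_zero,
    value_one, hd, SubmonoidClass.coe_pow, hu'] at hn
  have hb : ∀ i : ℕ, ¬ 5 ∣ i → |((χ : G → ℂ) (u ^ i)).re| < 12 := by
    intro i hi
    haveI : Fintype G := Fintype.ofFinite G
    have hcg : cn (u ^ i) = 135 := by
      rw [← hcn]
      have hle : Subgroup.centralizer ({u ^ i} : Set G) = C := by
        ext g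
        rw [hC, Subgroup.mem_centralizer_singleton_iff, Subgroup.mem_centralizer_singleton_iff]
        refine ⟨fun h => ?_, fun h => (show Commute g u from h).pow_right i⟩
        obtain ⟨l, hl⟩ := exists_pow_eq_self_of_coprime
          (n := i) (x := u) (by rw [hu]; exact (((by norm_num : Nat.Prime 5).coprime_iff_not_dvd).2 hi).symm)
        have := (show Commute g (u ^ i) from h).pow_right l
        rwa [hl] at this
      show Nat.card _ = Nat.card _
      rw [hle]
    have h := OrdP.normSq_column {χ} (u ^ i)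
    rw [Finset.sum_singleton, show Nat.card (Subgroup.centralizer ({u ^ i} : Set G)) = 135 from hcg,
      Complex.normSq_apply] at h
    push_cast at h
    by_contra hc
    rw [not_lt] at hc
    nlinarith [sq_abs ((χ : G → ℂ) (u ^ i)).re, mul_self_nonneg ((χ : G → ℂ) (u ^ i)).im]
  have hre := congrArg Complex.re hn
  simp only [Complex.add_re, Complex.mul_re, Complex.natCast_re, Complex.natCast_im, mul_zero, sub_zero] at hre
  push_cast at hre
  have b1 := abs_lt.1 (hb 1 (by norm_num))
  have b2 := abs_lt.1 (hb 2 (by norm_num))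
  have b3 := abs_lt.1 (hb 3 (by norm_num))
  have b4 := abs_lt.1 (hb 4 (by norm_num))
  rcases Nat.eq_zero_or_pos n with rfl | hpos
  · push_cast at hre
    linarith
  · have : (1 : ℝ) ≤ n := by exact_mod_cast hpos
    linarith

/-- A normalizer inducing the full automorphism group. -/
theorem exists_moves (P : Sylow 5 G) {u : G} (hu : u ∈ (P : Subgroup G)) (hz : orderOf u = 5)
    (hzP : Subgroup.zpowers u = (P : Subgroup G))
    (hCu : Subgroup.centralizer ({u} : Set G) = Subgroup.centralizer ((P : Subgroup G) : Set G))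
    (he : (Subgroup.centralizer ((P : Subgroup G) : Set G)).relIndex
      (Subgroup.normalizer ((P : Subgroup G) : Set G)) = 4) :
    ∀ k : ℕ, ¬ 5 ∣ k → ∃ g ∈ Subgroup.normalizer ((P : Subgroup G) : Set G), g * u * g⁻¹ = u ^ k := by
  classical
  set C := Subgroup.centralizer ((P : Subgroup G) : Set G) with hCdef
  set N := Subgroup.normalizer ((P : Subgroup G) : Set G) with hNdef
  intro k hk
  set C' := C.subgroupOf N with hC'
  have hcard : Nat.card (N ⧸ C') = 4 := by rw [← Subgroup.index_eq_card]; exact he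
  haveI : Fintype (N ⧸ C') := Fintype.ofFinite _
  let f : N ⧸ C' → G := fun q => (q.out : G) * u * (q.out : G)⁻¹
  have hf : Function.Injective f := by
    intro q r hqr
    rw [← QuotientGroup.out_eq' q, ← QuotientGroup.out_eq' r, QuotientGroup.eq]
    show (((q.out)⁻¹ * r.out : N) : G) ∈ C
    refine hCu.le ?_
    rw [Subgroup.mem_centralizer_singleton_iff]
    simp only [f] at hqr
    push_cast
    calc (q.out : G)⁻¹ * (r.out : G) * u
        = (q.out : G)⁻¹ * ((r.out : G) * u * (r.out : G)⁻¹) * (r.out : G) := by group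
      _ = u * ((q.out : G)⁻¹ * (r.out : G)) := by rw [← hqr]; group
  have hmem : ∀ q, f q ∈ (Finset.Icc 1 4).image (u ^ ·) := by
    intro q
    have h1 : f q ∈ Subgroup.zpowers u := by
      rw [hzP]
      exact (Subgroup.mem_normalizer_iff.1 q.out.2 u).1 hu
    rw [← IsOfFinOrder.mem_powers_iff_mem_zpowers (isOfFinOrder_of_finite u)] at h1
    obtain ⟨i, hi⟩ := h1
    refine Finset.mem_image.2 ⟨i % 5, Finset.mem_Icc.2 ⟨?_, by omega⟩, ?_⟩
    · rw [Nat.one_le_iff_ne_zero]
      intro h0
      have h1 : f q = 1 := by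
        rw [← hi]
        show u ^ i = 1
        rw [← pow_mod_orderOf, hz, h0, pow_zero]
      simp only [f, mul_inv_eq_one, mul_eq_left] at h1
      rw [h1, orderOf_one] at hz
      omega
    · rw [← hz, pow_mod_orderOf]; exact hi
  have hsurj : (Finset.univ.image f) = (Finset.Icc 1 4).image (u ^ ·) := by
    refine Finset.eq_of_subset_of_card_le (fun x hx => ?_) ?_
    · obtain ⟨q, -, rfl⟩ := Finset.mem_image.1 hx
      exact hmem q
    · rw [Finset.card_image_of_injective _ hf, Finset.card_univ, ← Nat.card_eq_fintype_card, hcard]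
      exact le_trans Finset.card_image_le (by simp)
  have : u ^ k ∈ (Finset.Icc 1 4).image (u ^ ·) := Finset.mem_image.2
    ⟨k % 5, Finset.mem_Icc.2 ⟨by omega, by omega⟩, by rw [← hz, pow_mod_orderOf]⟩
  rw [← hsurj] at this
  obtain ⟨q, -, hq⟩ := Finset.mem_image.1 this
  exact ⟨q.out, q.out.2, hq⟩

theorem twelve_arith {a b y R : ℤ} (hy : y = 1 + (-1 * a + 1 * b)) (hR : 0 ≤ R)
    (hn : 1 + y * y + y * y + (a * a + b * b) + R = 60) (ha : 1584 * a % 54 = 0) (ha5 : 5 ∣ a - 54)
    (hb5 : 5 ∣ b - 144) : False := by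
  have b54 : -7 ≤ a ∧ a ≤ 7 := by constructor <;> nlinarith [mul_self_nonneg y, mul_self_nonneg b]
  have b144 : -7 ≤ b ∧ b ≤ 7 := by constructor <;> nlinarith [mul_self_nonneg y, mul_self_nonneg a]
  obtain rfl : a = -6 := by omega
  obtain rfl | rfl | rfl : b = -6 ∨ b = -1 ∨ b = 4 := by omega
  all_goals (subst hy; norm_num at hn; linarith)

/-- No element of order five has a centralizer of order sixty. -/
theorem no_twelve (hG : Nat.card G = 95040) (hB : B.IsB) {u : G} (hz : orderOf u = 5) (hcn : cn u = 60)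
    (hmove : ∀ k : ℕ, ¬ 5 ∣ k → ∃ g : G, g * u * g⁻¹ = u ^ k) : False := by
  classical
  obtain ⟨h12', h45, h144, h10, h32, h54, h120⟩ := B.isB_iff.1 hB
  obtain ⟨f54, hf54⟩ := Finset.card_eq_one.1 h54
  obtain ⟨f144, hf144⟩ := Finset.card_eq_one.1 h144
  obtain ⟨h54T, h54d⟩ := Finset.mem_filter.1 (show f54 ∈ B.T.filter fun χ => dg χ = 54 by rw [hf54]; simp)
  obtain ⟨h144T, h144d⟩ := Finset.mem_filter.1
    (show f144 ∈ B.T.filter fun χ => dg χ = 144 by rw [hf144]; simp)
  have hint : ∀ χ : IrrCharacter G, ∃ a : ℤ, (χ : G → ℂ) u = a ∧ (5 : ℤ) ∣ a - (dg χ : ℤ) := by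
    intro χ
    obtain ⟨M, hM⟩ := exists_isPModular 5 (by norm_num : Nat.Prime 5)
    obtain ⟨a, ha⟩ := IsChar.exists_int_of_fixed (IsIrr.isCharacter χ.2) u fun k hk => by
      obtain ⟨g, hg⟩ := hmove k fun h => by
        rw [hz] at hk
        exact ((by norm_num : Nat.Prime 5).coprime_iff_not_dvd).1 hk.symm h
      rw [← hg]
      exact (IsIrr.classFun χ.2) u g
    refine ⟨a, ha, (intCast_mem_iff (p := 5) hM _).1 ?_⟩
    have h := IsChar.sub_degree_mem (IsIrr.isCharacter χ.2) hM (g := u) ⟨1, by rw [pow_one, hz]⟩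
    convert h using 1
    apply Subtype.val_injective
    simp [ha, value_one]
  choose a ha hm using hint
  have ha1 : a (trivialIrr G) = 1 := by
    apply Int.cast_injective (α := ℂ); rw [← ha, Int.cast_one]; rfl
  have hdvd : ∀ χ, 5 ∣ dg χ → a χ = 0 := fun χ h => by
    apply Int.cast_injective (α := ℂ)
    rw [← ha, Int.cast_zero, vanish_five hG χ h (by rw [hz])]
  obtain ⟨hyy, hr⟩ := B.rel u (by rw [hz]; norm_num)
  rw [ha, ha] at hyy
  have hyy' : a B.y' = a B.y := Int.cast_injective (α := ℂ) hyy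
  simp only [ha] at hr
  have hr' : B.ε * a B.y = 1 + ∑ χ ∈ B.T, B.σ χ * a χ := by
    apply Int.cast_injective (α := ℂ); push_cast; exact hr
  have hsumT : ∀ F : IrrCharacter G → ℤ, (∀ χ ∈ B.T, dg χ = 45 ∨ dg χ = 120 → F χ = 0) →
      ∑ χ ∈ B.T, F χ = F f54 + F f144 := by
    intro F hF
    have hne : f54 ≠ f144 := fun h => by rw [h, h144d] at h54d; omega
    rw [← Finset.sum_pair hne]
    refine (Finset.sum_subset ?_ fun χ hχ hχ' => hF χ hχ ?_).symm
    · intro χ hχ
      simp only [Finset.mem_insert, Finset.mem_singleton] at hχ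
      rcases hχ with rfl | rfl <;> assumption
    · rcases B.isB_deg hB hχ with h | h | h | h
      · exact Or.inl h
      · exact absurd (Finset.mem_insert.2 (Or.inr (hf144 ▸ Finset.mem_filter.2 ⟨hχ, h⟩))) hχ'
      · have hm : χ ∈ B.T.filter fun χ => dg χ = 54 := Finset.mem_filter.2 ⟨hχ, h⟩
        rw [hf54, Finset.mem_singleton] at hm
        exact absurd (by simp [hm]) hχ'
      · exact Or.inr h
  have hz0 : ∀ χ ∈ B.T, dg χ = 45 ∨ dg χ = 120 → a χ = 0 := fun χ _ h => hdvd χ (by omega)
  rw [hsumT _ fun χ hχ h => by rw [hz0 χ hχ h, mul_zero]] at hr'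
  have hs54 : B.σ f54 = -1 := by
    rcases B.sign f54 h54T with ⟨-, h⟩ | ⟨h, -⟩ <;> omega
  have hs144 : B.σ f144 = 1 := by
    rcases B.sign f144 h144T with ⟨h, -⟩ | ⟨-, h⟩ <;> omega
  rw [hs54, hs144] at hr'
  have hε : B.ε = 1 := by
    have hd := B.deg_rel
    rw [Finset.sum_congr rfl (g := fun χ =>
        (fun d : ℕ => if d = 45 ∨ d = 144 then (d : ℤ) else -(d : ℤ)) (dg χ)) fun χ hχ => by
          rcases B.sign χ hχ with ⟨e, he⟩ | ⟨e, he⟩ <;> rw [e] <;>
            rcases B.isB_deg hB hχ with r | r | r | r <;> rw [r] at he ⊢ <;> simp at he ⊢,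
      B.sum_T fun d : ℕ => if d = 45 ∨ d = 144 then (d : ℤ) else -(d : ℤ),
      h12', h45, h144, h10, h32, h54, h120] at hd
    norm_num at hd
    rcases B.ε_sign with e | e
    · exact e
    · rw [e] at hd; omega
  rw [hε, one_mul] at hr'
  have hn := norm_eq a ha
  rw [B.hsum, ha1, hyy', hsumT _ fun χ hχ h => by rw [hz0 χ hχ h, mul_zero], hcn] at hn
  have hR : 0 ≤ ∑ χ ∈ B.R, a χ * a χ := Finset.sum_nonneg fun i _ => mul_self_nonneg (a i)
  have h54a := idx_mod hG f54 (ha f54)
  rw [hcn, h54d] at h54a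
  have m54 := hm f54
  have m144 := hm f144
  rw [h54d] at m54
  rw [h144d] at m144
  push_cast at hn h54a m54 m144
  exact twelve_arith hr' hR hn h54a m54 m144

/-- No element of order five has a centralizer of order 360 or 2160. -/
theorem no_big (hG : Nat.card G = 95040) (hB : B.IsB) (P : Sylow 5 G) {u : G} (hu : u ∈ (P : Subgroup G))
    (hz : orderOf u = 5) {c : ℕ} (hcc : c = 432 ∨ c = 72)
    (he : (Subgroup.centralizer ((P : Subgroup G) : Set G)).relIndex
      (Subgroup.normalizer ((P : Subgroup G) : Set G)) = 4)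
    (hC : Nat.card (Subgroup.centralizer ((P : Subgroup G) : Set G)) = 5 * c) : False := by
  classical
  haveI : Fact (Nat.Prime 2) := ⟨Nat.prime_two⟩
  set C := Subgroup.centralizer ((P : Subgroup G) : Set G) with hCdef
  set N := Subgroup.normalizer ((P : Subgroup G) : Set G) with hNdef
  have hCN : C ≤ N := Subgroup.centralizer_le_normalizer _
  have hNC : Nat.card N = 4 * (5 * c) := by
    rw [← hC, ← he, Subgroup.relIndex, mul_comm,
      ← Nat.card_congr (Subgroup.subgroupOfEquivOfLe hCN).toEquiv, Subgroup.card_mul_index]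
  obtain ⟨S, hS⟩ := Sylow.exists_subgroup_card_pow_prime (G := N) 2 (n := 5)
    (by rw [hNC]; rcases hcc with rfl | rfl <;> norm_num)
  have hSp : IsPGroup 2 S := IsPGroup.of_card hS
  haveI : (C.subgroupOf N).Normal := by
    rw [hCdef, hNdef]
    infer_instance
  set K := (C.subgroupOf N).subgroupOf S with hK
  haveI : K.Normal := inferInstance
  have hidx : K.index ≤ 4 := by
    have h := Subgroup.relIndex_le_of_le_right (H := C.subgroupOf N) (K := S) (L := ⊤) le_top
      (by rw [Subgroup.relIndex_top_right]; exact Subgroup.index_ne_zero_of_finite)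
    rw [Subgroup.relIndex_top_right, show (C.subgroupOf N).index = 4 from he] at h
    exact h
  have hK1 : K ≠ ⊥ := by
    intro h
    have hmul := K.index_mul_card
    rw [h, Subgroup.card_bot, hS, mul_one] at hmul
    rw [h] at hidx
    omega
  haveI : Group.IsNilpotent S := hSp.isNilpotent
  have hne := Grp.inf_center_ne_bot K hK1
  obtain ⟨v, hv⟩ := exists_prime_orderOf_dvd_card' (G := (K ⊓ Subgroup.center S : Subgroup S)) 2 (by
    obtain ⟨k, hk⟩ := IsPGroup.iff_card.1 (hSp.to_subgroup (K ⊓ Subgroup.center S))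
    rcases k with _ | k
    · exact absurd (Subgroup.card_eq_one.1 (by simpa using hk)) hne
    · exact hk ▸ dvd_pow_self 2 (Nat.succ_ne_zero k))
  have hvC : ((v : S) : N).1 ∈ C := v.2.1
  set v' := (((v : S) : N) : G) with hv'
  have hov : orderOf v' = 2 := by
    rw [hv', Subgroup.orderOf_coe, Subgroup.orderOf_coe, Subgroup.orderOf_coe, hv]
  have h32 : 32 ∣ cn v' := by
    have hle : (S.map N.subtype) ≤ Subgroup.centralizer {v'} := by
      rintro g ⟨h, hh, rfl⟩
      exact Subgroup.mem_centralizer_singleton_iff.2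
        (congrArg (fun x : S => ((x : N) : G)) (Subgroup.mem_center_iff.1 v.2.2 ⟨h, hh⟩))
    have := Subgroup.card_dvd_of_le hle
    rwa [Subgroup.card_map_of_injective (Subgroup.subtype_injective _), hS] at this
  have h5 : 5 ∣ cn v' := hz ▸ orderOf_dvd_cn ((Subgroup.mem_centralizer_iff.1 hvC u hu))
  obtain ⟨a, ha, -⟩ := inv_value hG hov
  have hrow := B.row hG hB hov a ha
  simp only [rowsB, List.mem_cons, List.not_mem_nil, or_false, Prod.mk.injEq] at hrow
  omega

/-- The degrees are 45, 144, 54, 120 and a pair exists. -/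
theorem exists_pair (hG : Nat.card G = 95040) : B.IsB ∧ Nonempty (Pair G) := by
  classical
  haveI : Fact (Nat.Prime 5) := ⟨by norm_num⟩
  haveI : Fact (Nat.Prime 2) := ⟨Nat.prime_two⟩
  have hna := not_comm hG
  obtain ⟨P⟩ : Nonempty (Sylow 5 G) := inferInstance
  obtain ⟨e, c, hL, hP, hcm, he, hC⟩ := Fus.SmallOrd.options hna (p := 5) (m := 19008)
    (by rw [hG]) (by norm_num) (by norm_num) (by norm_num)
    [(2, 864), (4, 432), (2, 594), (4, 297), (2, 264), (4, 132), (2, 144), (4, 72), (2, 99), (2, 54), (4, 27),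
      (2, 44), (4, 22), (2, 24), (4, 12), (2, 9), (2, 4), (4, 2)] (by decide +kernel) P
  obtain ⟨z, hz⟩ := exists_prime_orderOf_dvd_card' (G := (P : Subgroup G)) 5 (dvd_of_eq hP.symm)
  rw [← Subgroup.orderOf_coe] at hz
  have hzP : Subgroup.zpowers (z : G) = (P : Subgroup G) :=
    Subgroup.eq_of_le_of_card_ge (Subgroup.zpowers_le.2 z.2) (by rw [Nat.card_zpowers, hz]; exact hP.le)
  set u := (z : G) with hu
  have hCu : Subgroup.centralizer ({u} : Set G) = Subgroup.centralizer ((P : Subgroup G) : Set G) := by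
    rw [← hzP]
    ext g
    rw [Subgroup.mem_centralizer_singleton_iff, Subgroup.mem_centralizer_iff]
    refine ⟨fun h y hy => ?_, fun h => (h _ (Subgroup.mem_zpowers u)).symm⟩
    obtain ⟨i, rfl⟩ := hy
    exact ((show Commute g u from h).zpow_right i).eq.symm
  have hcn : cn u = 5 * c := by show Nat.card _ = _; rw [hCu]; exact hC
  have h11 : ¬ 11 ∣ c := fun h => by
    haveI : Fact (Nat.Prime 11) := ⟨by norm_num⟩
    obtain ⟨v, hv⟩ := exists_prime_orderOf_dvd_card' (G := Subgroup.centralizer ({u} : Set G)) 11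
      (by rw [show Nat.card _ = 5 * c from hcn]; exact dvd_mul_of_dvd_right h 5)
    rw [← Subgroup.orderOf_coe] at hv
    exact B.no_eleven_five hz hv (Subgroup.mem_centralizer_singleton_iff.1 v.2).symm
  have hfive : ∀ g ∈ Subgroup.centralizer ({u} : Set G), g ^ 5 = 1 → g ∈ Subgroup.zpowers u := by
    intro g hg h5
    rw [hzP]
    have hgN : Subgroup.zpowers g ≤ Subgroup.normalizer ((P : Subgroup G) : Set G) :=
      Subgroup.zpowers_le.2 (Subgroup.centralizer_le_normalizer _ (hCu ▸ hg))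
    have hp : IsPGroup 5 (Subgroup.zpowers g) := by
      obtain ⟨i, -, hi⟩ := (Nat.dvd_prime_pow (Fact.out : Nat.Prime 5)).1
        (show orderOf g ∣ 5 ^ 1 by rw [pow_one]; exact orderOf_dvd_of_pow_eq_one h5)
      exact IsPGroup.of_card (n := i) (by rw [Nat.card_zpowers, hi])
    have := P.is_maximal' (P.isPGroup'.to_sup_of_normal_left' hp hgN) le_sup_left
    exact this ▸ Subgroup.mem_sup_right (Subgroup.mem_zpowers g)
  -- an odd centralizer
  have hodd : c = 27 ∨ c = 9 → ¬ B.IsB → (e = 2 → False) ∨ 0 < B.cnt 12 → False := by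
    intro hc hB hdis
    have hnine : ∀ χ : IrrCharacter G, dg χ = 5 ∨ dg χ = 10 → False := by
      intro χ hχ
      haveI : Fact (Nat.Prime 3) := ⟨Nat.prime_three⟩
      obtain ⟨U, hU⟩ := Sylow.exists_subgroup_card_pow_prime (G := Subgroup.centralizer ({u} : Set G)) 3
        (n := 2) (by rw [show Nat.card _ = 5 * c from hcn]; rcases hc with rfl | rfl <;> norm_num)
      refine nine_small B hG hz (U.map (Subgroup.centralizer ({u} : Set G)).subtype) ?_ ?_ hχ hB
      · rw [Subgroup.card_map_of_injective (Subgroup.subtype_injective _), hU]; norm_num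
      · rintro g ⟨h, -, rfl⟩
        exact (Subgroup.mem_centralizer_singleton_iff.1 h.2).symm
    rcases B.small_deg hG hB with ⟨χ, hχ⟩ | ⟨h12, χ, hχ⟩
    · exact hnine χ hχ
    · have hne : e ≠ 2 := by
        intro he2
        rcases hdis with h | h
        · exact h he2
        · omega
      refine no_54 hG hz ?_ hfive hχ
      rw [hcn]
      simp only [List.mem_cons, List.not_mem_nil, or_false, Prod.mk.injEq] at hL
      omega
  have htwo : e = 2 → 0 < B.cnt 12 := fun h => B.twelve_of_two hG P hP (he.trans h)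
  simp only [List.mem_cons, List.not_mem_nil, or_false, Prod.mk.injEq] at hL
  have hlist : c = 27 ∨ c = 9 ∨ 2 ∣ c := by omega
  have hcodd : ¬ (c = 27 ∨ c = 9) := by
    intro hc
    by_cases hB : B.IsB
    · have h12 := (B.isB_iff.1 hB).1
      have he4 : e = 4 ∧ c = 27 := by
        by_cases h2 : e = 2
        · have := htwo h2; omega
        · omega
      obtain ⟨h1, -, -, -, -, h54, -⟩ := B.isB_iff.1 hB
      obtain ⟨χ, hχ⟩ := Finset.card_pos.1 (show 0 < B.cnt 54 by omega)
      exact no_54 hG hz (by rw [hcn, he4.2]) hfive (Finset.mem_filter.1 hχ).2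
    · by_cases h2 : e = 2
      · exact hodd hc hB (Or.inr (htwo h2))
      · exact hodd hc hB (Or.inl h2)
  obtain ⟨w₀, hw₀⟩ := exists_prime_orderOf_dvd_card' (G := Subgroup.centralizer ({u} : Set G)) 2
    (by rw [show Nat.card _ = 5 * c from hcn]; exact dvd_mul_of_dvd_right (by omega) 5)
  have hB : B.IsB := by
    have hw : orderOf (w₀ : G) = 2 := by rw [Subgroup.orderOf_coe, hw₀]
    refine B.isB_of_ten hG hw (Nat.mod_eq_zero_of_dvd ?_)
    exact Nat.Coprime.mul_dvd_of_dvd_of_dvd (by norm_num : Nat.Coprime 2 5)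
      (hw ▸ orderOf_dvd_cn rfl)
      (hz ▸ orderOf_dvd_cn (Subgroup.mem_centralizer_singleton_iff.1 w₀.2).symm)
  have he4 : e = 4 := by
    have h12 := (B.isB_iff.1 hB).1
    by_contra h
    have := htwo (by omega)
    omega
  subst he4
  set C := Subgroup.centralizer ((P : Subgroup G) : Set G) with hCdef
  set N := Subgroup.normalizer ((P : Subgroup G) : Set G) with hNdef
  have hCN : C ≤ N := Subgroup.centralizer_le_normalizer _
  -- the normalizer moves `u` to all its generators
  have hmove := exists_moves P (u := u) z.2 hz hzP hCu he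
  -- the order of the centralizer
  have hc2 : c = 2 := by
    by_contra hne
    by_cases h12 : c = 12
    · refine no_twelve B hG hB hz (by rw [hcn, h12]) fun k hk => ?_
      obtain ⟨g, -, hg⟩ := hmove k hk
      exact ⟨g, hg⟩
    · exact no_big B hG hB P (u := u) z.2 hz (c := c) (by omega) he hC
  subst hc2
  refine ⟨hB, ⟨⟨u, w₀, hz, by rw [Subgroup.orderOf_coe, hw₀],
    (Subgroup.mem_centralizer_singleton_iff.1 w₀.2).symm, hcn, fun k hk => ?_⟩⟩⟩
  obtain ⟨g, hgN, hg⟩ := hmove k hk
  refine ⟨g, hg, ?_⟩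
  have hmem : g * (w₀ : G) * g⁻¹ ∈ Subgroup.centralizer ({u} : Set G) := by
    refine hCu.ge ?_
    have hwC : (w₀ : G) ∈ C := hCu.le w₀.2
    have : (⟨g, hgN⟩ : N) * ⟨(w₀ : G), hCN hwC⟩ * (⟨g, hgN⟩ : N)⁻¹ ∈ C.subgroupOf N := by
      haveI : (C.subgroupOf N).Normal := by
        rw [hCdef, hNdef]
        infer_instance
      exact (inferInstance : (C.subgroupOf N).Normal).conj_mem _ hwC _
    exact this
  obtain ⟨x, hx⟩ : ∃ x : Subgroup.centralizer ({u} : Set G), x = ⟨_, hmem⟩ := ⟨_, rfl⟩
  have hox : orderOf x = 2 := by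
    rw [← Subgroup.orderOf_coe, hx]
    refine Eq.trans ((MulAut.conj g).orderOf_eq _) ?_
    rw [Subgroup.orderOf_coe, hw₀]
  -- a cyclic group of order ten has one involution
  have hcard : Nat.card (Subgroup.centralizer ({u} : Set G)) = 10 := hcn
  have hcom : (⟨u, Subgroup.mem_centralizer_singleton_iff.2 rfl⟩ : Subgroup.centralizer ({u} : Set G)) * w₀ =
      w₀ * ⟨u, Subgroup.mem_centralizer_singleton_iff.2 rfl⟩ :=
    Subtype.ext (Subgroup.mem_centralizer_singleton_iff.1 w₀.2).symm
  haveI : IsCyclic (Subgroup.centralizer ({u} : Set G)) :=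
    isCyclic_of_orderOf_eq_card
      ((⟨u, Subgroup.mem_centralizer_singleton_iff.2 rfl⟩ : Subgroup.centralizer ({u} : Set G)) * w₀) (by
        rw [(show Commute _ w₀ from hcom).orderOf_mul_eq_mul_orderOf_of_coprime
          (by rw [← Subgroup.orderOf_coe, hz, hw₀]; norm_num), ← Subgroup.orderOf_coe, hz, hw₀, hcard])
  haveI := Fintype.ofFinite (Subgroup.centralizer ({u} : Set G))
  have h1 := IsCyclic.card_orderOf_eq_totient (α := Subgroup.centralizer ({u} : Set G)) (d := 2)
    (by rw [← Nat.card_eq_fintype_card, hcard]; norm_num)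
  rw [Nat.totient_two, Finset.card_eq_one] at h1
  obtain ⟨q, hq⟩ := h1
  have e1 : x = q := Finset.mem_singleton.1 (hq ▸ Finset.mem_filter.2 ⟨Finset.mem_univ _, hox⟩)
  have e2 : w₀ = q := Finset.mem_singleton.1 (hq ▸ Finset.mem_filter.2 ⟨Finset.mem_univ _, hw₀⟩)
  rw [← e2, hx] at e1
  exact congrArg Subtype.val e1

end Cfsg.Agent.Invol.M12Ord
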