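import Mathlib
import Cfsg.Agent.Lib.Invol.Order95040.Five
import Cfsg.Agent.Lib.Invol.Order95040.Counting
import Cfsg.Agent.Lib.Invol.Order95040.CheckTable

/-!
Simple groups of order 95040: the irreducible characters and four columns of their table.
-/

set_option autoImplicit false
set_option linter.style.haveILetI false
set_option linter.unusedSectionVars false
set_option linter.unusedVariables false

namespace Cfsg.Agent.Invol.M12Ord

open scoped ComplexConjugate
open Cfsg Cfsg.Agent.Block Cfsg.Agent.Char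

universe u

variable {G : Type u} [Group G] [Finite G] [IsSimpleGroup G]

/-- The degrees. -/
def dv : Fin 15 → ℕ := ![1, 45, 144, 54, 120, 16, 16, 11, 11, 55, 55, 55, 66, 99, 176]

/-- The column of an element of order five. -/
def colU : Fin 15 → ℤ := ![1, 0, -1, -1, 0, 1, 1, 1, 1, 0, 0, 0, 1, -1, 1]

/-- The column of the involution centralising an element of order five. -/
def colW : Fin 15 → ℤ := ![1, 5, 4, 6, 0, 4, 4, -1, -1, -5, -5, -5, 6, -1, -4]

/-- The column of an element of order ten. -/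
def colZ : Fin 15 → ℤ := ![1, 0, -1, 1, 0, -1, -1, -1, -1, 0, 0, 0, 1, -1, 1]

/-- The column of a central involution. -/
def colT : Fin 15 → ℤ := ![1, -3, 0, 6, -8, 0, 0, 3, 3, -1, -1, 7, 2, 3, 0]

/-- The key of a character: degree and three values. -/
abbrev Key : Type := ℤ × ℤ × ℤ × ℤ

theorem sum_vecT {ι : Type*} (S : Finset ι) (s : ℤ) (k : ι → Key) :
    ∑ i ∈ S, vecT s (k i) =
      (∑ i ∈ S, (k i).1 * (k i).1, ∑ i ∈ S, (k i).2.1 * (k i).2.1, ∑ i ∈ S, (k i).2.2.1 * (k i).2.2.1,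
        ∑ i ∈ S, (k i).2.2.2 * (k i).2.2.2, ∑ i ∈ S, (k i).1, ∑ i ∈ S, (k i).1 * (k i).2.1,
        ∑ i ∈ S, (k i).1 * (k i).2.2.1, ∑ i ∈ S, (k i).2.1 * (k i).2.2.1, ∑ i ∈ S, place s (k i)) := by
  simp [vecT, Prod.ext_iff, Prod.fst_sum, Prod.snd_sum]

theorem deg_list {d : ℕ} (hd : d ∣ 95040) (h11 : 11 ∣ d) (hle : d ≤ 233) : (d : ℤ) ∈ degsT := by
  have key : ((List.range 234).all fun n => 95040 % n != 0 || n % 11 != 0 || n == 0 || degsT.contains (n : ℤ)) = true := by
    decide +kernel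
  have h := List.all_eq_true.1 key d (List.mem_range.2 (by omega))
  have h0 : d ≠ 0 := fun e => by rw [e] at hd; simp at hd
  simpa [Nat.mod_eq_zero_of_dvd hd, Nat.mod_eq_zero_of_dvd h11, h0] using h

theorem int_range {a : ℤ} (h : a * a ≤ 5) : a ∈ ([1, -1, 2, -2, 0] : List ℤ) := by
  have h1 : -2 ≤ a := by nlinarith
  have h2 : a ≤ 2 := by nlinarith
  interval_cases a <;> simp

theorem le_233 {d : ℕ} (h : (d : ℤ) * d ≤ 54450) : d ≤ 233 := by
  by_contra hc
  have h' : (234 : ℤ) ≤ d := by omega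
  nlinarith

theorem le_eleven {a : ℤ} (h : a * a ≤ 130) : -11 ≤ a ∧ a ≤ 11 := by
  constructor <;> nlinarith

namespace Blk

variable (B : Blk G)

/-- The four characters of the principal block at eleven in the case 45, 144, 54, 120. -/
theorem exists_four (hB : B.IsB) :
    ∃ f45 f144 f54 f120 : IrrCharacter G, dg f45 = 45 ∧ dg f144 = 144 ∧ dg f54 = 54 ∧ dg f120 = 120 ∧
      B.σ f45 = 1 ∧ B.σ f144 = 1 ∧ B.σ f54 = -1 ∧ B.σ f120 = -1 ∧ B.ε = 1 ∧ dg B.y = 16 ∧
      (∀ χ ∈ B.T, χ = f45 ∨ χ = f144 ∨ χ = f54 ∨ χ = f120) ∧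
      ∀ {W : Type} [AddCommMonoid W] (F : IrrCharacter G → W),
        ∑ χ ∈ B.T, F χ = F f45 + F f144 + F f54 + F f120 := by
  classical
  obtain ⟨-, h45, h144, -, -, h54, h120⟩ := B.isB_iff.1 hB
  obtain ⟨a, ha⟩ := Finset.card_eq_one.1 h45
  obtain ⟨b, hb⟩ := Finset.card_eq_one.1 h144
  obtain ⟨c, hc⟩ := Finset.card_eq_one.1 h54
  obtain ⟨e, he⟩ := Finset.card_eq_one.1 h120
  have get : ∀ (f : IrrCharacter G) (d : ℕ), (B.T.filter fun χ => dg χ = d) = {f} → f ∈ B.T ∧ dg f = d :=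
    fun f d h => Finset.mem_filter.1 (by rw [h]; exact Finset.mem_singleton_self f)
  obtain ⟨haT, had⟩ := get a 45 ha
  obtain ⟨hbT, hbd⟩ := get b 144 hb
  obtain ⟨hcT, hcd⟩ := get c 54 hc
  obtain ⟨heT, hed⟩ := get e 120 he
  have hmem : ∀ χ ∈ B.T, χ = a ∨ χ = b ∨ χ = c ∨ χ = e := by
    intro χ hχ
    have : ∀ (f : IrrCharacter G) (d : ℕ), (B.T.filter fun χ => dg χ = d) = {f} → dg χ = d → χ = f :=
      fun f d h hd => Finset.mem_singleton.1 (h ▸ Finset.mem_filter.2 ⟨hχ, hd⟩)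
    rcases B.isB_deg hB hχ with h | h | h | h
    · exact Or.inl (this a 45 ha h)
    · exact Or.inr (Or.inl (this b 144 hb h))
    · exact Or.inr (Or.inr (Or.inl (this c 54 hc h)))
    · exact Or.inr (Or.inr (Or.inr (this e 120 he h)))
  have hsgn : ∀ χ ∈ B.T, dg χ = 45 ∨ dg χ = 144 → B.σ χ = 1 := by
    intro χ hχ hd
    rcases B.sign χ hχ with ⟨h, -⟩ | ⟨-, h⟩ <;> omega
  have hsgn' : ∀ χ ∈ B.T, dg χ = 54 ∨ dg χ = 120 → B.σ χ = -1 := by
    intro χ hχ hd
    rcases B.sign χ hχ with ⟨-, h⟩ | ⟨h, -⟩ <;> omega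
  have hne : ∀ {f g : IrrCharacter G}, dg f ≠ dg g → f ≠ g := fun h e => h (e ▸ rfl)
  have hsum : ∀ {W : Type} [AddCommMonoid W] (F : IrrCharacter G → W),
      ∑ χ ∈ B.T, F χ = F a + F b + F c + F e := by
    intro W _ F
    rw [show B.T = {a, b, c, e} by
      ext χ
      simp only [Finset.mem_insert, Finset.mem_singleton]
      exact ⟨hmem χ, by rintro (rfl | rfl | rfl | rfl) <;> assumption⟩,
      Finset.sum_insert (by simp [hne (f := a) (g := b) (by omega), hne (f := a) (g := c) (by omega),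
        hne (f := a) (g := e) (by omega)]),
      Finset.sum_insert (by simp [hne (f := b) (g := c) (by omega), hne (f := b) (g := e) (by omega)]),
      Finset.sum_insert (by simp [hne (f := c) (g := e) (by omega)]), Finset.sum_singleton]
    abel
  have sa := hsgn a haT (Or.inl had)
  have sb := hsgn b hbT (Or.inr hbd)
  have sc := hsgn' c hcT (Or.inl hcd)
  have se := hsgn' e heT (Or.inr hed)
  have hd := B.deg_rel
  rw [hsum, sa, sb, sc, se, had, hbd, hcd, hed] at hd
  refine ⟨a, b, c, e, had, hbd, hcd, hed, sa, sb, sc, se, ?_, ?_, hmem, hsum⟩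
  · rcases B.ε_sign with h | h
    · exact h
    · rw [h] at hd; norm_num at hd; omega
  · rcases B.ε_sign with h | h <;> rw [h] at hd <;> norm_num at hd <;> omega

include B in
theorem not_real (hG : Nat.card G = 95040) : ¬ IsConj B.x B.x⁻¹ := by
  haveI : Fact (Nat.Prime 11) := ⟨by norm_num⟩
  intro hc
  obtain ⟨g, hg⟩ := isConj_iff.1 hc
  have hN : g ∈ SCP.N B.x := SCP.mem_N_of_conj B.hyp (Subgroup.mem_zpowers B.x) (SCP.ne_one B.hyp)
    (by rw [hg]; exact inv_mem (Subgroup.mem_zpowers B.x))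
  have hd := Subgroup.orderOf_dvd_natCard _ hN
  rw [SCP.card_N B.hyp, B.he] at hd
  have hcop : Nat.Coprime 2 (orderOf g) := Nat.Coprime.coprime_dvd_right hd (by norm_num)
  obtain ⟨l, hl⟩ := exists_pow_eq_self_of_coprime hcop
  have h2 : Commute (g ^ 2) B.x := by
    show g ^ 2 * B.x = B.x * g ^ 2
    have e : g * (g * B.x * g⁻¹) * g⁻¹ = B.x := by
      rw [hg]
      calc g * B.x⁻¹ * g⁻¹ = (g * B.x * g⁻¹)⁻¹ := by group
        _ = B.x := by rw [hg, inv_inv]
    calc g ^ 2 * B.x = g * (g * B.x * g⁻¹) * g⁻¹ * g ^ 2 := by rw [sq]; group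
      _ = B.x * g ^ 2 := by rw [e]
  have h1 := h2.pow_left l
  rw [hl] at h1
  have hx : B.x = B.x⁻¹ := by
    rw [← hg, h1.eq, mul_inv_cancel_right]
  have : B.x ^ 2 = 1 := by rw [sq]; nth_rewrite 2 [hx]; exact mul_inv_cancel _
  have := orderOf_dvd_of_pow_eq_one this
  rw [B.hyp.ord] at this
  norm_num at this

/-- The two exceptional characters are not real. -/
theorem y_not_real (hG : Nat.card G = 95040) {χ : IrrCharacter G} (h : χ = B.y ∨ χ = B.y') :
    ¬ ∀ g, conj ((χ : G → ℂ) g) = (χ : G → ℂ) g := by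
  classical
  intro hreal
  haveI : Fact (Nat.Prime 11) := ⟨by norm_num⟩
  refine B.not_real hG ((isConj_iff_irr _ _).2 fun ψ => ?_)
  rw [IsIrr.apply_inv ψ.2]
  have hsum : conj ((B.y : G → ℂ) B.x + (B.y' : G → ℂ) B.x) = (B.y : G → ℂ) B.x + (B.y' : G → ℂ) B.x := by
    rw [B.valY B.x B.hyp.ord, map_neg, map_intCast]
  rw [map_add] at hsum
  have hy : conj ((B.y : G → ℂ) B.x) = (B.y : G → ℂ) B.x ∧ conj ((B.y' : G → ℂ) B.x) = (B.y' : G → ℂ) B.x := by
    rcases h with rfl | rfl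
    · refine ⟨hreal _, ?_⟩
      rw [hreal] at hsum
      exact add_left_cancel hsum
    · refine ⟨?_, hreal _⟩
      rw [hreal] at hsum
      exact add_right_cancel hsum
  by_cases h1 : ψ = trivialIrr G
  · rw [h1, trivial_value, map_one]
  by_cases h2 : ψ = B.y
  · rw [h2]; exact hy.1.symm
  by_cases h3 : ψ = B.y'
  · rw [h3]; exact hy.2.symm
  by_cases h4 : ψ ∈ B.T
  · rw [B.valT ψ h4 B.x B.hyp.ord, map_intCast]
  · rw [(B.out ψ h1 h2 h3 h4).2 B.x B.hyp.ord, map_zero]

end Blk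

namespace Pair

variable (P : Pair G)

theorem u_pow : P.u ^ 5 = 1 := by rw [← P.ou]; exact pow_orderOf_eq_one _

theorem w_sq : P.w ^ 2 = 1 := by rw [← P.ow]; exact pow_orderOf_eq_one _

theorem oz : orderOf (P.u * P.w) = 10 := by
  rw [(show Commute P.u P.w from P.comm).orderOf_mul_eq_mul_orderOf_of_coprime (by rw [P.ou, P.ow]; norm_num),
    P.ou, P.ow]

theorem int_u : ∃ a : IrrCharacter G → ℤ, (∀ χ : IrrCharacter G, (χ : G → ℂ) P.u = a χ) ∧
    a (trivialIrr G) = 1 := by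
  refine int_column fun k hk => ?_
  obtain ⟨g, hg, -⟩ := P.pow_conj k fun h => by
    rw [P.ou] at hk
    exact ((by norm_num : Nat.Prime 5).coprime_iff_not_dvd).1 hk.symm h
  exact (isConj_iff.2 ⟨g, hg⟩).symm

theorem int_z : ∃ a : IrrCharacter G → ℤ, (∀ χ : IrrCharacter G, (χ : G → ℂ) (P.u * P.w) = a χ) ∧
    a (trivialIrr G) = 1 := by
  refine int_column fun k hk => ?_
  rw [P.oz] at hk
  have h5 : ¬ 5 ∣ k := fun h => by
    have := Nat.dvd_gcd h (show 5 ∣ 10 by norm_num)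
    rw [hk] at this
    norm_num at this
  obtain ⟨j, hj⟩ : ∃ j, k = 2 * j + 1 := by
    refine ⟨k / 2, ?_⟩
    rcases Nat.mod_two_eq_zero_or_one k with h | h
    · have := Nat.dvd_gcd (Nat.dvd_of_mod_eq_zero h) (show 2 ∣ 10 by norm_num)
      rw [hk] at this
      norm_num at this
    · omega
  obtain ⟨g, hg, hgw⟩ := P.pow_conj k h5
  refine (isConj_iff.2 ⟨g, ?_⟩).symm
  rw [(show Commute P.u P.w from P.comm).mul_pow, ← hg]
  rw [show P.w ^ k = P.w by rw [hj, pow_succ, pow_mul, P.w_sq, one_pow, one_mul]]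
  calc g * (P.u * P.w) * g⁻¹ = g * P.u * g⁻¹ * (g * P.w * g⁻¹) := by group
    _ = g * P.u * g⁻¹ * P.w := by rw [hgw]

theorem cn_z : cn (P.u * P.w) = 10 := by
  have hle : Subgroup.centralizer ({P.u * P.w} : Set G) ≤ Subgroup.centralizer ({P.u} : Set G) := by
    intro g hg
    rw [Subgroup.mem_centralizer_singleton_iff] at hg ⊢
    have h6 : (P.u * P.w) ^ 6 = P.u := by
      rw [(show Commute P.u P.w from P.comm).mul_pow, show 6 = 5 + 1 from rfl, pow_succ, P.u_pow, one_mul,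
        show 5 + 1 = 2 * 3 from rfl, pow_mul, P.w_sq, one_pow, mul_one]
    have h := (show Commute g (P.u * P.w) from hg).pow_right 6
    rwa [h6] at h
  have h1 := Subgroup.card_dvd_of_le hle
  have h2 : 10 ∣ cn (P.u * P.w) := P.oz ▸ orderOf_dvd_cn rfl
  rw [show Nat.card (Subgroup.centralizer ({P.u} : Set G)) = 10 from P.cn_u] at h1
  exact Nat.dvd_antisymm h1 h2

theorem cn_w_ten : cn P.w % 10 = 0 :=
  Nat.mod_eq_zero_of_dvd (Nat.Coprime.mul_dvd_of_dvd_of_dvd (by norm_num : Nat.Coprime 2 5)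
    (P.ow ▸ orderOf_dvd_cn rfl) (P.ou ▸ orderOf_dvd_cn P.comm))

end Pair

/-- The values of the characters of degree 144 and 54 at the elements of order five and ten. -/
theorem block_arith {a b y c d z R S s : ℤ} (hs : s = 1 ∨ s = -1)
    (nu : 1 * 1 + y * y + y * y + (0 * 0 + a * a + b * b + 0 * 0) + R = 10)
    (nz : 1 * 1 + z * z + z * z + (0 * 0 + c * c + d * d + 0 * 0) + S = 10) (hR : 0 ≤ R) (hS : 0 ≤ S)
    (u144 : 5 ∣ a - 144) (u54 : 5 ∣ b - 54) (z144 : 5 ∣ 4 * s - c) (z54 : 5 ∣ 6 - d)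
    (p144 : 2 ∣ a - c) (p54 : 2 ∣ b - d) : a = -1 ∧ b = -1 ∧ c = -s ∧ d = 1 := by
  have small : ∀ {a : ℤ}, a * a ≤ 10 → -3 ≤ a ∧ a ≤ 3 := fun h => by constructor <;> nlinarith
  have b1 := small (a := a) (by nlinarith [mul_self_nonneg b, mul_self_nonneg y])
  have b2 := small (a := b) (by nlinarith [mul_self_nonneg a, mul_self_nonneg y])
  have b3 := small (a := c) (by nlinarith [mul_self_nonneg d, mul_self_nonneg z])
  have b4 := small (a := d) (by nlinarith [mul_self_nonneg c, mul_self_nonneg z])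
  refine ⟨?_, ?_, ?_, ?_⟩ <;> omega

/-- The characters and three columns. -/
structure Tab (G : Type u) [Group G] [Finite G] where
  B : Blk G
  P : Pair G
  isB : B.IsB
  ch : Fin 15 → IrrCharacter G
  bij : Function.Bijective ch
  deg : ∀ i, dg (ch i) = dv i
  ch0 : ch 0 = trivialIrr G
  ch5 : ch 5 = B.y
  ch6 : ch 6 = B.y'
  cn_w : cn P.w = 240
  colu : ∀ i, (ch i : G → ℂ) P.u = colU i
  colw : ∀ i, (ch i : G → ℂ) P.w = colW i
  colz : ∀ i, (ch i : G → ℂ) (P.u * P.w) = colZ i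
  real : ∀ i, i ≠ 5 → i ≠ 6 → ∀ g, conj ((ch i : G → ℂ) g) = (ch i : G → ℂ) g

theorem Tab.hsum (K : Tab G) {W : Type*} [AddCommMonoid W] (F : IrrCharacter G → W) :
    ∑ χ, F χ = ∑ i, F (K.ch i) :=
  (K.bij.sum_comp F).symm

/-- The sign of the value of the character of degree 144 at the involution, with the values there. -/
theorem w_block (hG : Nat.card G = 95040) (B : Blk G) (hB : B.IsB) {w : G} (hw : orderOf w = 2)
    (h10 : cn w % 10 = 0) {f45 f144 f54 f120 : IrrCharacter G}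
    (d45 : dg f45 = 45) (d144 : dg f144 = 144) (d54 : dg f54 = 54) (d120 : dg f120 = 120)
    (hsumT : ∀ {W : Type} [AddCommMonoid W] (F : IrrCharacter G → W),
      ∑ χ ∈ B.T, F χ = F f45 + F f144 + F f54 + F f120)
    (hne : ∀ f ∈ [f45, f144, f54, f120], f ≠ trivialIrr G)
    (a : IrrCharacter G → ℤ) (ha : ∀ χ : IrrCharacter G, (χ : G → ℂ) w = a χ) :
    ∃ s : ℤ, (cn w, s) ∈ [((120 : ℕ), (-1 : ℤ)), (240, 1), (240, -1)] ∧ a f45 = 5 ∧ a f144 = 4 * s ∧
      a f54 = 6 ∧ a f120 = 0 ∧ a B.y = 4 * s := by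
  have hrow := B.row hG hB hw a ha
  obtain ⟨a', ha', -, hbd⟩ := inv_value hG hw
  obtain rfl : a = a' := funext fun χ => Int.cast_injective (α := ℂ) ((ha χ).symm.trans (ha' χ))
  have hv : B.val a = a f45 * 1000 + a f144 * 1000000 + a f54 * 1000000000000000 +
      a f120 * 1000000000000000000 := by
    rw [Blk.val, hsumT, d45, d144, d54, d120]
    norm_num [pl]
  obtain ⟨-, l1, u1⟩ := hbd f45 (hne f45 (by simp))
  obtain ⟨-, l2, u2⟩ := hbd f144 (hne f144 (by simp))
  obtain ⟨-, l3, u3⟩ := hbd f54 (hne f54 (by simp))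
  obtain ⟨-, l4, u4⟩ := hbd f120 (hne f120 (by simp))
  rw [d45] at l1 u1
  rw [d144] at l2 u2
  rw [d54] at l3 u3
  rw [d120] at l4 u4
  simp only [rowsB, List.mem_cons, List.not_mem_nil, or_false, Prod.mk.injEq] at hrow
  rw [hv] at hrow
  rcases hrow with ⟨hc, hval, hy⟩ | ⟨hc, hval, hy⟩ | ⟨hc, hval, hy⟩ | ⟨hc, hval, hy⟩
  · exact ⟨-1, by simp [hc], by omega, by omega, by omega, by omega, by omega⟩
  · omega
  · exact ⟨-1, by simp [hc], by omega, by omega, by omega, by omega, by omega⟩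
  · exact ⟨1, by simp [hc], by omega, by omega, by omega, by omega, by omega⟩

theorem involution_classes (hG : Nat.card G = 95040) {t w : G} (ht : orderOf t = 2) (hw : orderOf w = 2)
    (htw : cn t ≠ cn w) :
    1 + 95040 / cn t + 95040 / cn w ≤ {g : G | g * g = 1}.ncard := by
  classical
  haveI := Fintype.ofFinite G
  have hC : ∀ {g : G}, orderOf g = 2 → {x : G | IsConj x g} ⊆ {x : G | x * x = 1} ∧ (1 : G) ∉ {x : G | IsConj x g} := by
    intro g hg
    refine ⟨fun x hx => ?_, fun h => ne_one_of_orderOf hg (by norm_num) (isConj_one_right.1 h)⟩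
    obtain ⟨c, hc⟩ := isConj_iff.1 (show IsConj g x from IsConj.symm hx)
    show x * x = 1
    rw [← hc, show c * g * c⁻¹ * (c * g * c⁻¹) = c * (g * g) * c⁻¹ by group, ← sq g, ← hg, pow_orderOf_eq_one]
    group
  have hsize : ∀ g : G, {x : G | IsConj x g}.ncard = 95040 / cn g := fun g => by
    rw [← hG, ← ncard_class g, Nat.mul_div_cancel _ (cn_pos g)]
  have hdisj : Disjoint {x : G | IsConj x t} {x : G | IsConj x w} :=
    Set.disjoint_left.2 fun x hx hx' =>
      htw (cn_eq_of_isConj ((show IsConj x t from hx).symm.trans hx'))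
  have hsub : insert (1 : G) ({x : G | IsConj x t} ∪ {x : G | IsConj x w}) ⊆ {x : G | x * x = 1} :=
    Set.insert_subset (one_mul 1) (Set.union_subset (hC ht).1 (hC hw).1)
  refine le_trans (le_of_eq ?_) (Set.ncard_le_ncard hsub (Set.toFinite _))
  rw [Set.ncard_insert_of_notMem (fun h => h.elim (hC ht).2 (hC hw).2) (Set.toFinite _),
    Set.ncard_union_eq hdisj (Set.toFinite _) (Set.toFinite _), hsize, hsize]
  ring

/-- The real characters fill the count of the involutions. -/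
theorem ind_bound (B : Blk G) (hG : Nat.card G = 95040) (hy : dg B.y = 16) :
    ({g : G | g * g = 1}.ncard : ℤ) ≤ 1 + ∑ χ ∈ B.T, (dg χ : ℤ) + ∑ χ ∈ B.R, (dg χ : ℤ) ∧
    (({g : G | g * g = 1}.ncard : ℤ) = 1 + ∑ χ ∈ B.T, (dg χ : ℤ) + ∑ χ ∈ B.R, (dg χ : ℤ) →
      ∀ χ : IrrCharacter G, χ ≠ B.y → χ ≠ B.y' → ∀ g, conj ((χ : G → ℂ) g) = (χ : G → ℂ) g) := by
  classical
  haveI := Fintype.ofFinite G
  have hex : ∀ χ : IrrCharacter G, ∃ i : ℤ, FS.ind (χ : G → ℂ) = i ∧ i ≤ 1 ∧
      (i = 0 ↔ ¬ ∀ g, conj ((χ : G → ℂ) g) = (χ : G → ℂ) g) := by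
    intro χ
    rcases FS.ind_eq χ with ⟨h, hr⟩ | ⟨h | h, hr⟩
    · exact ⟨0, by simp [h], by norm_num, iff_of_true rfl hr⟩
    · exact ⟨1, by simp [h], le_rfl, by simp [hr]⟩
    · exact ⟨-1, by simp [h], by norm_num, by simp [hr]⟩
  choose i hi hi1 hi0 using hex
  have hsum : ({g : G | g * g = 1}.ncard : ℤ) = ∑ χ : IrrCharacter G, (dg χ : ℤ) * i χ := by
    apply Int.cast_injective (α := ℂ)
    have h := sum_ind (G := G)
    simp only [hi] at h
    push_cast
    exact h.symm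
  have h0 : i B.y = 0 := (hi0 _).2 (B.y_not_real hG (Or.inl rfl))
  have h0' : i B.y' = 0 := (hi0 _).2 (B.y_not_real hG (Or.inr rfl))
  rw [B.hsum, h0, h0', dg_trivial] at hsum
  simp only [mul_zero, add_zero] at hsum
  have hle : ∀ χ : IrrCharacter G, (dg χ : ℤ) * i χ ≤ (dg χ : ℤ) := fun χ => by
    nlinarith [hi1 χ, Int.natCast_nonneg (dg χ)]
  have t1 := Finset.sum_le_sum (s := B.T) fun χ _ => hle χ
  have t2 := Finset.sum_le_sum (s := B.R) fun χ _ => hle χ
  have t0 := hi1 (trivialIrr G)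
  push_cast at hsum
  refine ⟨by linarith, fun heq χ hχ hχ' => ?_⟩
  have e1 : ∑ χ ∈ B.T, (dg χ : ℤ) * i χ = ∑ χ ∈ B.T, (dg χ : ℤ) := by linarith
  have e2 : ∑ χ ∈ B.R, (dg χ : ℤ) * i χ = ∑ χ ∈ B.R, (dg χ : ℤ) := by linarith
  rw [Finset.sum_eq_sum_iff_of_le fun χ _ => hle χ] at e1 e2
  by_contra hr
  have hz := (hi0 χ).2 hr
  have hpos : (0 : ℤ) < dg χ := by exact_mod_cast charDeg_pos χ
  by_cases h1 : χ = trivialIrr G
  · exact hr (by rw [h1]; intro g; simp [trivial_value])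
  by_cases h2 : χ ∈ B.T
  · have := e1 χ h2; rw [hz] at this; omega
  · have := e2 χ (B.mem_R.2 ⟨h1, hχ, hχ', h2⟩); rw [hz] at this; omega

/-- The multiset of keys found by the search. -/
theorem counts_of_code {ι : Type*} (R : Finset ι) (k : ι → Key) (s : ℤ) (hs : s = 1 ∨ s = -1)
    (hcode : ∑ i ∈ R, place s (k i) = codeT) (h2 : ∑ i ∈ R, (k i).2.1 * (k i).2.1 = 5)
    (h3 : ∑ i ∈ R, (k i).2.2.1 * (k i).2.2.1 ≤ 130) :
    (∀ i ∈ R, k i ∈ expected s) ∧
    (R.filter fun i => k i = (11, 1, -1, -1)).card = 2 ∧ (R.filter fun i => k i = (55, 0, -5, 0)).card = 3 ∧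
    (R.filter fun i => k i = (66, 1, 6, 1)).card = 1 ∧ (R.filter fun i => k i = (99, -1, -1, -1)).card = 1 ∧
    (R.filter fun i => k i = (176, 1, -4 * s, s)).card = 1 := by
  classical
  set n0 := (R.filter fun i => k i = (11, 1, -1, -1)).card with hn0
  set n1 := (R.filter fun i => k i = (55, 0, -5, 0)).card with hn1
  set n2 := (R.filter fun i => k i = (66, 1, 6, 1)).card with hn2
  set n3 := (R.filter fun i => k i = (99, -1, -1, -1)).card with hn3
  set n4 := (R.filter fun i => k i = (176, 1, -4 * s, s)).card with hn4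
  set n5 := (R.filter fun i => k i ∉ expected s).card with hn5
  have hsum : ∀ F : Key → ℕ, ∑ i ∈ R, F (k i) = n0 * F (11, 1, -1, -1) + n1 * F (55, 0, -5, 0) +
      n2 * F (66, 1, 6, 1) + n3 * F (99, -1, -1, -1) + n4 * F (176, 1, -4 * s, s) +
      ∑ i ∈ R.filter (fun i => k i ∉ expected s), F (k i) := by
    intro F
    have hc : ∀ e : Key, (R.filter fun i => k i = e).card * F e = ∑ i ∈ R, if k i = e then F (k i) else 0 := by
      intro e
      rw [← Finset.sum_filter, Finset.sum_congr rfl fun i hi => by rw [(Finset.mem_filter.1 hi).2],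
        Finset.sum_const, smul_eq_mul]
    simp only [hn0, hn1, hn2, hn3, hn4, hc, Finset.sum_filter, ← Finset.sum_add_distrib]
    refine Finset.sum_congr rfl fun i _ => ?_
    by_cases hm : k i ∈ expected s
    · simp only [hm, not_true, if_false, add_zero]
      simp only [expected, List.mem_cons, List.not_mem_nil, or_false] at hm
      rcases hm with h | h | h | h | h <;> rw [h] <;> simp
    · simp only [hm, not_false_iff, if_true]
      simp only [expected, List.mem_cons, List.not_mem_nil, or_false, not_or] at hm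
      obtain ⟨a, b, c, d, e⟩ := hm
      simp only [a, b, c, d, e, if_false, add_zero, zero_add]
  have hc := hsum (place s)
  rw [hcode] at hc
  have hrest : n5 * 64 ^ 5 = ∑ i ∈ R.filter (fun i => k i ∉ expected s), place s (k i) := by
    rw [Finset.sum_congr rfl (g := fun _ => 64 ^ 5) fun i hi => ?_, Finset.sum_const, smul_eq_mul]
    rw [place, List.idxOf_eq_length (Finset.mem_filter.1 hi).2]
    rfl
  rw [← hrest] at hc
  have e0 : place s (11, 1, -1, -1) = 1 := by rcases hs with rfl | rfl <;> decide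
  have e1 : place s (55, 0, -5, 0) = 64 := by rcases hs with rfl | rfl <;> decide
  have e2 : place s (66, 1, 6, 1) = 4096 := by rcases hs with rfl | rfl <;> decide
  have e3 : place s (99, -1, -1, -1) = 262144 := by rcases hs with rfl | rfl <;> decide
  have e4 : place s (176, 1, -4 * s, s) = 16777216 := by rcases hs with rfl | rfl <;> decide
  rw [e0, e1, e2, e3, e4, codeT] at hc
  have hA := hsum fun e => (e.2.1 * e.2.1).toNat
  have hB := hsum fun e => (e.2.2.1 * e.2.2.1).toNat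
  have hA' : ∑ i ∈ R, ((k i).2.1 * (k i).2.1).toNat = 5 := by
    apply Nat.cast_injective (R := ℤ)
    push_cast
    rw [← h2]
    exact Finset.sum_congr rfl fun i _ => Int.toNat_of_nonneg (mul_self_nonneg _)
  have hB' : ∑ i ∈ R, ((k i).2.2.1 * (k i).2.2.1).toNat ≤ 130 := by
    zify
    refine le_trans (le_of_eq (Finset.sum_congr rfl fun i _ => ?_)) h3
    exact Int.toNat_of_nonneg (mul_self_nonneg _)
  rw [hA'] at hA
  rw [hB] at hB'
  simp only at hA hB'
  have hs16 : (-4 * s * (-4 * s)).toNat = 16 := by rcases hs with rfl | rfl <;> rfl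
  rw [hs16] at hB'
  simp only [show ((1 : ℤ) * 1).toNat = 1 from rfl, show ((-1 : ℤ) * -1).toNat = 1 from rfl,
    show ((0 : ℤ) * 0).toNat = 0 from rfl, show ((-5 : ℤ) * -5).toNat = 25 from rfl,
    show ((6 : ℤ) * 6).toNat = 36 from rfl] at hA hB'
  norm_num at hA hB'
  have h5 : n5 = 0 := by omega
  rw [h5] at hc
  have q0 : n0 = 2 := by omega
  have q4 : n4 = 1 := by omega
  have q3 : n3 = 1 := by omega
  have q2 : n2 = 1 := by omega
  have q1 : n1 = 3 := by omega
  refine ⟨fun i hi => ?_, q0, q1, q2, q3, q4⟩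
  by_contra h
  exact (Finset.card_pos.2 ⟨i, Finset.mem_filter.2 ⟨hi, h⟩⟩).ne' h5

set_option maxHeartbeats 4000000 in
-- one long assembly of the table
theorem exists_tab (hG : Nat.card G = 95040) : Nonempty (Tab G) := by
  classical
  haveI : Fact (Nat.Prime 5) := ⟨by norm_num⟩
  haveI : Fact (Nat.Prime 2) := ⟨Nat.prime_two⟩
  obtain ⟨B⟩ := exists_blk hG
  obtain ⟨hB, ⟨P⟩⟩ := exists_pair B hG
  obtain ⟨f45, f144, f54, f120, d45, d144, d54, d120, s45, s144, s54, s120, hε, dy, hmemT, hsumT⟩ :=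
    B.exists_four hB
  have hneT : ∀ f ∈ [f45, f144, f54, f120], f ≠ trivialIrr G := by
    intro f hf e
    have h1 : dg f = 1 := e ▸ dg_trivial
    simp only [List.mem_cons, List.not_mem_nil, or_false] at hf
    rcases hf with rfl | rfl | rfl | rfl <;> omega
  -- the three columns
  obtain ⟨au, hau, hau1⟩ := P.int_u
  obtain ⟨az, haz, haz1⟩ := P.int_z
  obtain ⟨aw, haw, haw1, hbw⟩ := inv_value hG P.ow
  have h5u : ∀ χ : IrrCharacter G, 5 ∣ au χ - (dg χ : ℤ) := fun χ =>
    congr_deg χ (p := 5) (j := 1) (by rw [P.ou]; norm_num) (hau χ)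
  have h5z : ∀ χ : IrrCharacter G, 5 ∣ aw χ - az χ := fun χ =>
    congr_int χ (p := 5) P.u_pow P.comm (by rw [P.ow]; norm_num) (haz χ) (haw χ)
  have h2z : ∀ χ : IrrCharacter G, 2 ∣ au χ - az χ := fun χ =>
    congr_int χ (p := 2) P.w_sq P.comm.symm (by rw [P.ou]; norm_num)
      (by rw [← P.comm]; exact haz χ) (hau χ)
  have h0z : ∀ χ : IrrCharacter G, 5 ∣ dg χ → az χ = 0 := fun χ h => by
    apply Int.cast_injective (α := ℂ)
    rw [← haz, Int.cast_zero, vanish_five hG χ h (by rw [P.oz]; norm_num)]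
  have h0u : ∀ χ : IrrCharacter G, 5 ∣ dg χ → au χ = 0 := fun χ h => by
    apply Int.cast_injective (α := ℂ)
    rw [← hau, Int.cast_zero, vanish_five hG χ h (by rw [P.ou])]
  have hrel : ∀ {g : G} (a : IrrCharacter G → ℤ), ¬ 11 ∣ orderOf g → (∀ χ : IrrCharacter G, (χ : G → ℂ) g = a χ) →
      a B.y' = a B.y ∧ a B.y = 1 + a f45 + a f144 - a f54 - a f120 := by
    intro g a hg ha
    obtain ⟨h1, h2⟩ := B.rel g hg
    rw [hsumT, hε, s45, s144, s54, s120] at h2
    simp only [ha] at h1 h2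
    refine ⟨Int.cast_injective (α := ℂ) h1, Int.cast_injective (α := ℂ) ?_⟩
    push_cast at h2 ⊢
    linear_combination h2
  obtain ⟨hyu, hru⟩ := hrel au (by rw [P.ou]; norm_num) hau
  obtain ⟨hyz, hrz⟩ := hrel az (by rw [P.oz]; norm_num) haz
  obtain ⟨hyw, -⟩ := hrel aw (by rw [P.ow]; norm_num) haw
  obtain ⟨s, hhs, w45, w144, w54, w120, wy⟩ :=
    w_block hG B hB P.ow P.cn_w_ten d45 d144 d54 d120 hsumT hneT aw haw
  have hs : s = 1 ∨ s = -1 := by
    simp only [List.mem_cons, List.not_mem_nil, or_false, Prod.mk.injEq] at hhs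
    omega
  -- the block values at `u` and `u w`
  have nu := norm_eq au hau
  have nz := norm_eq az haz
  rw [B.hsum, hau1, hyu, hsumT, h0u f45 (by rw [d45]; norm_num), h0u f120 (by rw [d120]; norm_num),
    P.cn_u] at nu
  rw [B.hsum, haz1, hyz, hsumT, h0z f45 (by rw [d45]; norm_num), h0z f120 (by rw [d120]; norm_num),
    P.cn_z] at nz
  have hRu : 0 ≤ ∑ χ ∈ B.R, au χ * au χ := Finset.sum_nonneg fun i _ => mul_self_nonneg _
  have hRz : 0 ≤ ∑ χ ∈ B.R, az χ * az χ := Finset.sum_nonneg fun i _ => mul_self_nonneg _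
  have u144 := h5u f144
  have u54 := h5u f54
  rw [d144] at u144
  rw [d54] at u54
  have z144 := h5z f144
  have z54 := h5z f54
  have p144 := h2z f144
  have p54 := h2z f54
  rw [w144] at z144
  rw [w54] at z54
  push_cast at nu nz u144 u54
  obtain ⟨cu144, cu54, cz144, cz54⟩ :=
    block_arith hs nu nz hRu hRz u144 u54 z144 z54 p144 p54
  have cuy : au B.y = 1 := by
    rw [hru, h0u f45 (by rw [d45]; norm_num), h0u f120 (by rw [d120]; norm_num), cu144, cu54]; norm_num
  have czy : az B.y = -s := by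
    rw [hrz, h0z f45 (by rw [d45]; norm_num), h0z f120 (by rw [d120]; norm_num), cz144, cz54]; ring
  have hss : s * s = 1 := by rcases hs with rfl | rfl <;> norm_num
  have ru5 : ∑ χ ∈ B.R, au χ * au χ = 5 := by
    rw [cu144, cu54, cuy] at nu; norm_num at nu; linarith
  have rz5 : ∑ χ ∈ B.R, az χ * az χ = 5 := by
    rw [cz144, cz54, czy] at nz
    simp only [neg_mul_neg, hss] at nz
    norm_num at nz; linarith
  have rw' : ∑ χ ∈ B.R, aw χ * aw χ = (cn P.w : ℤ) - 110 := by
    have nw := norm_eq aw haw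
    rw [B.hsum, haw1, hyw, hsumT, w45, w144, w54, w120, wy] at nw
    have : 4 * s * (4 * s) = 16 := by linarith [hss]
    rw [this] at nw
    norm_num at nw
    linarith
  have hD : ∑ χ ∈ B.R, (dg χ : ℤ) * (dg χ : ℤ) = 54450 := by
    have h := congrArg (Nat.cast : ℕ → ℤ) (sum_sq hG)
    push_cast at h
    simp only [sq] at h
    rw [B.hsum, dg_trivial, B.deg_y', hsumT, d45, d144, d54, d120, dy] at h
    norm_num at h
    linarith
  -- orthogonality
  have hu1 : P.u ≠ 1 := ne_one_of_orderOf P.ou (by norm_num)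
  have hw1 : P.w ≠ 1 := ne_one_of_orderOf P.ow (by norm_num)
  have o1u := orth_one_int hu1 au hau
  have o1w := orth_one_int hw1 aw haw
  have huw : ¬ IsConj P.u P.w := fun h => by
    obtain ⟨c, hc⟩ := isConj_iff.1 h
    have : orderOf P.w = orderOf P.u := hc ▸ (MulAut.conj c).orderOf_eq P.u
    rw [P.ou, P.ow] at this
    omega
  have ouw := orth huw au aw hau haw
  rw [B.hsum, hau1, hyu, hsumT, dg_trivial, B.deg_y', dy, cuy, cu144, cu54, d144, d54,
    h0u f45 (by rw [d45]; norm_num), h0u f120 (by rw [d120]; norm_num)] at o1u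
  rw [B.hsum, haw1, hyw, hsumT, dg_trivial, B.deg_y', dy, wy, w45, w144, w54, w120, d45, d144, d54, d120] at o1w
  rw [B.hsum, hau1, haw1, hyu, hyw, hsumT, cuy, wy, cu144, cu54, w144, w54,
    h0u f45 (by rw [d45]; norm_num), h0u f120 (by rw [d120]; norm_num)] at ouw
  -- the square roots of the identity
  obtain ⟨t, ht, h64⟩ := Blk.exists_central hG
  have hcnw : cn P.w = 120 ∨ cn P.w = 240 := by
    simp only [List.mem_cons, List.not_mem_nil, or_false, Prod.mk.injEq] at hhs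
    omega
  have hcnt : cn t = 192 := by
    obtain ⟨at', hat, -⟩ := inv_value hG ht
    have hrow := B.row hG hB ht at' hat
    simp only [rowsB, List.mem_cons, List.not_mem_nil, or_false, Prod.mk.injEq] at hrow
    omega
  have hcls := involution_classes hG ht P.ow (by omega)
  rw [hcnt] at hcls
  obtain ⟨hfs, hfs'⟩ := ind_bound B hG dy
  rw [hsumT, d45, d144, d54, d120] at hfs hfs'
  push_cast at hfs hfs'
  have hR528 : 528 ≤ ∑ χ ∈ B.R, (dg χ : ℤ) := by
    rcases hcnw with e | e <;> rw [e] at hcls <;> omega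
  -- the search
  set k : IrrCharacter G → Key := fun χ => ((dg χ : ℤ), au χ, aw χ, az χ) with hk
  set h := cn P.w with hh
  have hmemk : ∀ χ ∈ B.R, vecT s (k χ) ∈ kindsT h (budgetT h) s := by
    intro χ hχ
    have hu' : au χ * au χ ≤ 5 := ru5 ▸ Finset.single_le_sum (f := fun χ => au χ * au χ) (fun i _ => mul_self_nonneg _) hχ
    have hz' : az χ * az χ ≤ 5 := rz5 ▸ Finset.single_le_sum (f := fun χ => az χ * az χ) (fun i _ => mul_self_nonneg _) hχ
    have hw' : aw χ * aw χ ≤ budgetT h := by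
      have := Finset.single_le_sum (f := fun χ => aw χ * aw χ) (fun i _ => mul_self_nonneg _) hχ
      rw [rw'] at this
      exact this
    have hd' : (dg χ : ℤ) * (dg χ : ℤ) ≤ 54450 := hD ▸ Finset.single_le_sum (f := fun χ => (dg χ : ℤ) * (dg χ : ℤ)) (fun i _ => mul_self_nonneg _) hχ
    have hdl : dg χ ≤ 233 := le_233 hd'
    have hb : budgetT h ≤ 130 := by unfold budgetT; omega
    have hwl : -11 ≤ aw χ ∧ aw χ ≤ 11 := le_eleven (le_trans hw' hb)
    refine List.mem_map.2 ⟨k χ, List.mem_filter.2 ⟨?_, ?_⟩, rfl⟩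
    · refine List.mem_flatMap.2 ⟨au χ, int_range hu', List.mem_flatMap.2 ⟨az χ, int_range hz',
        List.mem_flatMap.2 ⟨(dg χ : ℤ), deg_list (dg_dvd hG χ) (B.R_dvd hχ) hdl, List.mem_map.2 ⟨aw χ, ?_, rfl⟩⟩⟩⟩
      refine List.mem_map.2 ⟨_, List.mem_flatMap.2 ⟨(aw χ + 15).toNat, List.mem_range.2 ?_,
        List.mem_singleton.2 rfl⟩, ?_⟩ <;> simp <;> omega
    · simp only [okT, hk, Bool.and_eq_true, beq_iff_eq, decide_eq_true_eq, Bool.or_eq_true, bne_iff_ne]
      refine ⟨⟨⟨⟨⟨⟨⟨⟨hu', ?_⟩, ?_⟩, hw'⟩, ?_⟩, hz'⟩, ?_⟩, ?_⟩, ?_⟩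
      · have := h5u χ; omega
      · have := (hbw χ (B.mem_R.1 hχ).1).1; omega
      · exact idx_mod hG χ (haw χ)
      · have := h2z χ; omega
      · have := h5z χ; omega
      · by_cases hd5 : 5 ∣ dg χ
        · exact Or.inr (h0z χ hd5)
        · exact Or.inl (by omega)
  have hb : ∀ S ⊆ B.R, boundT h ((0, 0, 0, 0, 0, 0, 0, 0, 0) + ∑ χ ∈ S, vecT s (k χ)) = true := by
    intro S hS
    rw [sum_vecT]
    simp only [boundT, Prod.mk_add_mk, zero_add, Bool.and_eq_true, decide_eq_true_eq, hk]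
    refine ⟨⟨⟨?_, ?_⟩, ?_⟩, ?_⟩
    · exact hD ▸ Finset.sum_le_sum_of_subset_of_nonneg hS fun i _ _ => mul_self_nonneg _
    · exact ru5 ▸ Finset.sum_le_sum_of_subset_of_nonneg hS fun i _ _ => mul_self_nonneg _
    · exact le_trans (Finset.sum_le_sum_of_subset_of_nonneg hS fun i _ _ => mul_self_nonneg _) (le_of_eq rw')
    · exact rz5 ▸ Finset.sum_le_sum_of_subset_of_nonneg hS fun i _ _ => mul_self_nonneg _
  have hchk := List.all_eq_true.1 checkTable_true (h, s) hhs
  have hf := search_sound (boundT h) (finalT h s) 30 _ _ hchk B.R _ hmemk hb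
  rw [sum_vecT] at hf
  have q1 : ∑ χ ∈ B.R, (dg χ : ℤ) * au χ = -(1 - 144 - 54 + 32) := by
    simp only [mul_comm ((dg _ : ℕ) : ℤ)]
    norm_num at o1u ⊢
    linarith
  have q2 : ∑ χ ∈ B.R, (dg χ : ℤ) * aw χ = -(1 + 45 * 5 + 144 * (4 * s) + 54 * 6 + 32 * (4 * s)) := by
    simp only [mul_comm ((dg _ : ℕ) : ℤ)]
    norm_num at o1w ⊢
    linarith
  have q3 : ∑ χ ∈ B.R, au χ * aw χ = -(1 - 4 * s - 6 + 2 * (4 * s)) := by
    norm_num at ouw ⊢
    linarith
  simp only [finalT, Prod.mk_add_mk, zero_add, hk, hD, ru5, rz5, q1, q2, q3,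
    show budgetT h = (h : ℤ) - 110 from rfl, rw', decide_eq_true (hR528), beq_self_eq_true,
    Bool.and_true, Bool.not_true, Bool.false_or, Bool.and_eq_true, beq_iff_eq] at hf
  obtain ⟨h240, hcode⟩ := hf
  obtain ⟨hexp, c11, c55, c66, c99, c176⟩ := counts_of_code B.R k s hs hcode ru5
    (le_of_eq (by rw [rw', h240]; norm_num))
  obtain ⟨p, p', hpp, hpe⟩ := Finset.card_eq_two.1 c11
  obtain ⟨q, q', q'', hqq, hqq', hq'q'', hqe⟩ := Finset.card_eq_three.1 c55
  obtain ⟨r66, h66e⟩ := Finset.card_eq_one.1 c66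
  obtain ⟨r99, h99e⟩ := Finset.card_eq_one.1 c99
  obtain ⟨r176, h176e⟩ := Finset.card_eq_one.1 c176
  let ch : Fin 15 → IrrCharacter G :=
    ![trivialIrr G, f45, f144, f54, f120, B.y, B.y', p, p', q, q', q'', r66, r99, r176]
  have hsurj : Function.Surjective ch := by
    intro χ
    by_cases h1 : χ = trivialIrr G
    · exact ⟨0, h1.symm⟩
    by_cases h2 : χ = B.y
    · exact ⟨5, h2.symm⟩
    by_cases h3 : χ = B.y'
    · exact ⟨6, h3.symm⟩
    by_cases h4 : χ ∈ B.T
    · rcases hmemT χ h4 with e | e | e | e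
      exacts [⟨1, e.symm⟩, ⟨2, e.symm⟩, ⟨3, e.symm⟩, ⟨4, e.symm⟩]
    have hR : χ ∈ B.R := B.mem_R.2 ⟨h1, h2, h3, h4⟩
    have hm := hexp χ hR
    simp only [expected, List.mem_cons, List.not_mem_nil, or_false] at hm
    rcases hm with e | e | e | e | e
    · have : χ ∈ ({p, p'} : Finset (IrrCharacter G)) := hpe ▸ Finset.mem_filter.2 ⟨hR, e⟩
      simp only [Finset.mem_insert, Finset.mem_singleton] at this
      rcases this with e | e
      exacts [⟨7, e.symm⟩, ⟨8, e.symm⟩]
    · have : χ ∈ ({q, q', q''} : Finset (IrrCharacter G)) := hqe ▸ Finset.mem_filter.2 ⟨hR, e⟩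
      simp only [Finset.mem_insert, Finset.mem_singleton] at this
      rcases this with e | e | e
      exacts [⟨9, e.symm⟩, ⟨10, e.symm⟩, ⟨11, e.symm⟩]
    · exact ⟨12, (Finset.mem_singleton.1 (h66e ▸ Finset.mem_filter.2 ⟨hR, e⟩)).symm⟩
    · exact ⟨13, (Finset.mem_singleton.1 (h99e ▸ Finset.mem_filter.2 ⟨hR, e⟩)).symm⟩
    · exact ⟨14, (Finset.mem_singleton.1 (h176e ▸ Finset.mem_filter.2 ⟨hR, e⟩)).symm⟩
  have hkey : ∀ {S : Finset (IrrCharacter G)} {e : Key} {χ : IrrCharacter G},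
      (B.R.filter fun i => k i = e) = S → χ ∈ S →
      (dg χ : ℤ) = e.1 ∧ au χ = e.2.1 ∧ aw χ = e.2.2.1 ∧ az χ = e.2.2.2 := by
    intro S e χ hS hχ
    rw [← hS, Finset.mem_filter] at hχ
    have := hχ.2
    simp only [hk, Prod.ext_iff] at this
    exact this
  obtain ⟨dp, up, wp, zp⟩ := hkey hpe (Finset.mem_insert_self p {p'})
  obtain ⟨dp', up', wp', zp'⟩ := hkey hpe (show p' ∈ ({p, p'} : Finset (IrrCharacter G)) by simp)
  obtain ⟨dq, uq, wq, zq⟩ := hkey hqe (Finset.mem_insert_self q {q', q''})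
  obtain ⟨dq', uq', wq', zq'⟩ := hkey hqe (show q' ∈ ({q, q', q''} : Finset (IrrCharacter G)) by simp)
  obtain ⟨dq'', uq'', wq'', zq''⟩ := hkey hqe (show q'' ∈ ({q, q', q''} : Finset (IrrCharacter G)) by simp)
  obtain ⟨d66, u66, w66, z66⟩ := hkey h66e (Finset.mem_singleton_self r66)
  obtain ⟨d99, u99, w99, z99⟩ := hkey h99e (Finset.mem_singleton_self r99)
  obtain ⟨d176, u176, w176, z176⟩ := hkey h176e (Finset.mem_singleton_self r176)
  have hd : ∀ i, dg (ch i) = dv i := by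
    intro i
    fin_cases i <;> simp only [ch, dv] <;> simp only [Fin.reduceFinMk, Matrix.cons_val] <;>
      first
        | exact dg_trivial
        | assumption
        | exact B.deg_y'.trans dy
        | omega
  have hRsum : ∑ χ ∈ B.R, (dg χ : ℤ) = 528 := by
    rw [← Finset.sum_fiberwise_of_maps_to (g := k) (t := (expected s).toFinset)
      fun χ hχ => List.mem_toFinset.2 (hexp χ hχ)]
    rw [Finset.sum_congr rfl (g := fun e => ((B.R.filter fun i => k i = e).card : ℤ) * e.1) fun e _ => by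
      rw [Finset.sum_congr rfl (g := fun _ => e.1) fun χ hχ => congrArg Prod.fst (Finset.mem_filter.1 hχ).2,
        Finset.sum_const, nsmul_eq_mul]]
    simp only [expected, List.toFinset_cons, List.toFinset_nil]
    rw [Finset.sum_insert (by simp), Finset.sum_insert (by simp), Finset.sum_insert (by simp),
      Finset.sum_insert (by simp), Finset.sum_insert (by simp), Finset.sum_empty, c11, c55, c66, c99, c176]
    norm_num
  have hreal := hfs' (by
    rw [h240] at hcls
    rw [hRsum] at hfs ⊢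
    omega)
  have hcard : Fintype.card (IrrCharacter G) = 15 := by
    have hR8 : B.R.card = 8 := by
      rw [Finset.card_eq_sum_card_fiberwise (f := k) (t := (expected s).toFinset)
        fun χ hχ => List.mem_toFinset.2 (hexp χ hχ)]
      simp only [expected, List.toFinset_cons, List.toFinset_nil]
      rw [Finset.sum_insert (by simp), Finset.sum_insert (by simp), Finset.sum_insert (by simp),
        Finset.sum_insert (by simp), Finset.sum_insert (by simp), Finset.sum_empty, c11, c55, c66, c99, c176]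
      <;> norm_num
    rw [← Finset.card_univ, Finset.card_eq_sum_ones, B.hsum, ← Finset.card_eq_sum_ones, ← Finset.card_eq_sum_ones,
      B.card_T, hR8]
  have hbij : Function.Bijective ch :=
    (Fintype.bijective_iff_surjective_and_card ch).2 ⟨hsurj, by rw [Fintype.card_fin, hcard]⟩
  -- the sign
  have hs1 : s = 1 := by
    refine hs.resolve_right fun e => ?_
    have h3 := triple_int aw aw aw haw haw haw
    rw [← hbij.sum_comp, hG] at h3
    simp only [hd] at h3
    subst e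
    simp only [Fin.sum_univ_succ, Fin.sum_univ_zero, ch, dv, Matrix.cons_val_zero, Matrix.cons_val_succ,
      haw1, hyw, wy, w45, w144, w54, w120, wp, wp', wq, wq', wq'', w66, w99, w176] at h3
    rw [show cn P.w = 240 from h240] at h3
    norm_num at h3
    have := congrArg Complex.re h3
    simp only [Complex.mul_re, Complex.natCast_re, Complex.natCast_im] at this
    norm_num at this
    have hN : (0 : ℝ) ≤ ({y' : G | IsConj P.w y' ∧ IsConj (P.w * y') P.w}.ncard : ℝ) := Nat.cast_nonneg _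
    linarith
  subst hs1
  refine ⟨⟨B, P, hB, ch, hbij, hd, rfl, rfl, rfl, h240, fun i => ?_, fun i => ?_, fun i => ?_, fun i h5 h6 => ?_⟩⟩
  · rw [hau]
    norm_cast
    fin_cases i <;> simp only [ch, colU] <;> simp only [Fin.reduceFinMk, Matrix.cons_val] <;>
      first
        | assumption
        | exact hyu.trans cuy
        | exact h0u _ (by rw [d45]; norm_num)
        | exact h0u _ (by rw [d120]; norm_num)
  · rw [haw]
    norm_cast
    fin_cases i <;> simp only [ch, colW] <;> simp only [Fin.reduceFinMk, Matrix.cons_val] <;>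
      first
        | assumption
        | omega
  · rw [haz]
    norm_cast
    fin_cases i <;> simp only [ch, colZ] <;> simp only [Fin.reduceFinMk, Matrix.cons_val] <;>
      first
        | assumption
        | exact hyz.trans czy
        | exact h0z _ (by rw [d45]; norm_num)
        | exact h0z _ (by rw [d120]; norm_num)
        | omega
  · exact hreal _ (fun e => h5 (hbij.1 (e.trans (rfl : B.y = ch 5))))
      (fun e => h6 (hbij.1 (e.trans (rfl : B.y' = ch 6))))

end Cfsg.Agent.Invol.M12Ord
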