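import Mathlib
import Cfsg.Agent.Lib.Invol.Order95040.Table

/-!
Simple groups of order 95040: the column of a central involution.
-/

set_option autoImplicit false
set_option linter.style.haveILetI false
set_option linter.unusedSectionVars false

namespace Cfsg.Agent.Invol.M12Ord

open scoped ComplexConjugate
open Cfsg Cfsg.Agent.Block Cfsg.Agent.Char

universe u

variable {G : Type u} [Group G] [Finite G] [IsSimpleGroup G]

theorem sum15 {W : Type*} [AddCommMonoid W] (F : Fin 15 → W) :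
    ∑ i, F i = F 0 + F 1 + F 2 + F 3 + F 4 + F 5 + F 6 + F 7 + F 8 + F 9 + F 10 + F 11 + F 12 + F 13 + F 14 := by
  simp only [Fin.sum_univ_succ, Fin.sum_univ_zero, add_zero, ← add_assoc]
  rfl

namespace Tab

variable (K : Tab G)

theorem orth_int {g k : G} (hgk : ¬ IsConj g k) (a b : Fin 15 → ℤ)
    (ha : ∀ i, (K.ch i : G → ℂ) g = a i) (hb : ∀ i, (K.ch i : G → ℂ) k = b i) : ∑ i, a i * b i = 0 := by
  classical
  apply Int.cast_injective (α := ℂ)
  have h := sum_irr_mul_conj g k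
  rw [if_neg hgk, K.hsum] at h
  simp only [ha, hb, map_intCast] at h
  push_cast
  exact h

theorem orth_deg {g : G} (hg : g ≠ 1) (a : Fin 15 → ℤ) (ha : ∀ i, (K.ch i : G → ℂ) g = a i) :
    ∑ i, a i * (dv i : ℤ) = 0 := by
  apply Int.cast_injective (α := ℂ)
  have h := orth_one hg
  rw [K.hsum] at h
  simp only [ha, K.deg] at h
  push_cast
  exact h

theorem norm_int {g : G} (a : Fin 15 → ℤ) (ha : ∀ i, (K.ch i : G → ℂ) g = a i) :
    ∑ i, a i * a i = (cn g : ℤ) := by
  classical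
  apply Int.cast_injective (α := ℂ)
  have h := sum_irr_mul_conj g g
  rw [if_pos (IsConj.refl g), K.hsum] at h
  simp only [ha, map_intCast] at h
  push_cast
  exact h

theorem mem_T {i : Fin 15} (h11 : ¬ 11 ∣ dv i) (h16 : dv i ≠ 16) (h1 : dv i ≠ 1) : K.ch i ∈ K.B.T := by
  have hy : dg K.B.y = 16 := by rw [← K.ch5, K.deg]; rfl
  have hne : K.ch i ≠ trivialIrr G := fun e => h1 (by rw [← K.deg, e, dg_trivial])
  rcases K.B.deg_cases hne with h | h | h
  · rw [K.deg] at h; exact absurd h h11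
  · exact h
  · rw [K.deg, hy] at h; exact absurd h h16

theorem sum_block {W : Type*} [AddCommMonoid W] (F : IrrCharacter G → W) :
    ∑ χ ∈ K.B.T, F χ = F (K.ch 1) + F (K.ch 2) + F (K.ch 3) + F (K.ch 4) := by
  classical
  set S : Finset (Fin 15) := {1, 2, 3, 4} with hS
  have hsub : S.image K.ch ⊆ K.B.T := by
    intro χ hχ
    obtain ⟨i, hi, rfl⟩ := Finset.mem_image.1 hχ
    simp only [hS, Finset.mem_insert, Finset.mem_singleton] at hi
    rcases hi with rfl | rfl | rfl | rfl <;> exact K.mem_T (by decide) (by decide) (by decide)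
  rw [← Finset.eq_of_subset_of_card_le hsub (by
    rw [Finset.card_image_of_injective _ K.bij.1, K.B.card_T]; rfl),
    Finset.sum_image fun _ _ _ _ h => K.bij.1 h, hS, Finset.sum_insert (by decide),
    Finset.sum_insert (by decide), Finset.sum_insert (by decide), Finset.sum_singleton]
  simp only [add_assoc]

theorem eq_w {g : G} (hg : orderOf g = 2) (hc : g * K.P.u = K.P.u * g) : g = K.P.w := by
  set C := Subgroup.centralizer ({K.P.u} : Set G) with hC
  have hz : K.P.u * K.P.w ∈ C := Subgroup.mem_centralizer_singleton_iff.2 (by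
    rw [mul_assoc, ← K.P.comm])
  have hCz : Subgroup.zpowers (K.P.u * K.P.w) = C :=
    Subgroup.eq_of_le_of_card_ge (Subgroup.zpowers_le.2 hz) (by
      rw [Nat.card_zpowers, K.P.oz]; exact K.P.cn_u.le)
  have hgC : g ∈ Subgroup.zpowers (K.P.u * K.P.w) := hCz ▸ Subgroup.mem_centralizer_singleton_iff.2 hc
  rw [← IsOfFinOrder.mem_powers_iff_mem_zpowers (isOfFinOrder_of_finite _)] at hgC
  obtain ⟨i, hi⟩ := hgC
  have hi' : (K.P.u * K.P.w) ^ i = g := hi
  have hg2 : g ^ 2 = 1 := by rw [← hg]; exact pow_orderOf_eq_one g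
  have h5 : g = K.P.w ^ i := by
    calc g = g ^ 5 := by rw [show 5 = 2 * 2 + 1 from rfl, pow_succ, pow_mul, hg2, one_pow, one_mul]
      _ = ((K.P.u * K.P.w) ^ 5) ^ i := by rw [← hi', ← pow_mul, ← pow_mul, mul_comm]
      _ = K.P.w ^ i := by
        rw [(show Commute K.P.u K.P.w from K.P.comm).mul_pow, K.P.u_pow, one_mul,
          show 5 = 2 * 2 + 1 from rfl, pow_succ, pow_mul, K.P.w_sq, one_pow, one_mul]
  rcases Nat.mod_two_eq_zero_or_one i with h | h
  · exfalso
    rw [← pow_mod_orderOf, K.P.ow, h, pow_zero] at h5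
    exact ne_one_of_orderOf hg (by norm_num) h5
  · rw [h5, ← pow_mod_orderOf, K.P.ow, h, pow_one]

/-- There are at most two classes of centralizer orders of involutions. -/
theorem inv_cases (hG : Nat.card G = 95040) {t : G} (ht : orderOf t = 2) :
    IsConj t K.P.w ∨ cn t = 192 := by
  classical
  haveI : Fact (Nat.Prime 5) := ⟨by norm_num⟩
  obtain ⟨a, ha, -⟩ := inv_value hG ht
  have hrow := K.B.row hG K.isB ht a ha
  simp only [rowsB, List.mem_cons, List.not_mem_nil, or_false, Prod.mk.injEq] at hrow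
  by_cases h192 : cn t = 192
  · exact Or.inr h192
  refine Or.inl ?_
  have h5 : 5 ∣ cn t := Nat.dvd_of_mod_eq_zero (by omega)
  obtain ⟨v, hv⟩ := exists_prime_orderOf_dvd_card' (G := Subgroup.centralizer ({t} : Set G)) 5 h5
  rw [← Subgroup.orderOf_coe] at hv
  have hcard : ∀ g : G, orderOf g = 5 → Nat.card (Subgroup.zpowers g) = 5 ^ (Nat.card G).factorization 5 :=
    fun g hg => by rw [Nat.card_zpowers, hg, hG, card_five, pow_one]
  set Q := Sylow.ofCard (Subgroup.zpowers (v : G)) (hcard _ hv) with hQ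
  set R := Sylow.ofCard (Subgroup.zpowers K.P.u) (hcard _ K.P.ou) with hR
  obtain ⟨c, hc⟩ := MulAction.exists_smul_eq G Q R
  have hmem : c * (v : G) * c⁻¹ ∈ Subgroup.zpowers K.P.u := by
    have h : (MulAut.conj c) • (v : G) ∈ ((c • Q : Sylow 5 G) : Subgroup G) := by
      rw [Sylow.smul_def, Sylow.pointwise_smul_def]
      exact Subgroup.smul_mem_pointwise_smul _ _ _ (Subgroup.mem_zpowers (v : G))
    rw [hc] at h
    exact h
  set v' := c * (v : G) * c⁻¹ with hv'
  set t' := c * t * c⁻¹ with ht'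
  have hcomm : Commute t' v' := by
    have h : Commute t (v : G) := (Subgroup.mem_centralizer_singleton_iff.1 v.2).symm
    exact h.map (MulAut.conj c).toMonoidHom
  have hov : orderOf v' = 5 := by rw [← hv]; exact (MulAut.conj c).orderOf_eq _
  have hu : K.P.u ∈ Subgroup.zpowers v' := by
    rw [Subgroup.eq_of_le_of_card_ge (Subgroup.zpowers_le.2 hmem)
      (by rw [Nat.card_zpowers, Nat.card_zpowers, hov, K.P.ou])]
    exact Subgroup.mem_zpowers _
  obtain ⟨i, hi⟩ := hu
  have hi' : v' ^ i = K.P.u := hi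
  refine isConj_iff.2 ⟨c, K.eq_w (by rw [← ht]; exact (MulAut.conj c).orderOf_eq t) ?_⟩
  rw [← hi']
  exact hcomm.zpow_right i

end Tab

/-- The solutions of the linear conditions on the column of a central involution. -/
theorem t_arith {p p' q q' q'' r66 r99 r176 : ℤ}
    (o1 : -1 * 0 + 11 * p + 11 * p' + 55 * q + 55 * q' + 55 * q'' + 66 * r66 + 99 * r99 + 176 * r176 = 770)
    (ou : p + p' + r66 - r99 + r176 = 5)
    (oz : -p - p' + r66 - r99 + r176 = -7)
    (ow : -p - p' - 5 * q - 5 * q' - 5 * q'' + 6 * r66 - r99 - 4 * r176 = -22)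
    (hn : p * p + p' * p' + q * q + q' * q' + q'' * q'' + r66 * r66 + r99 * r99 + r176 * r176 = 82)
    (cp : 4 ∣ 11 - p) (cp' : 4 ∣ 11 - p') (cq : 4 ∣ 55 - q) (cq' : 4 ∣ 55 - q') (cq'' : 4 ∣ 55 - q'')
    (c176 : 16 ∣ r176) :
    r66 = 2 ∧ r99 = 3 ∧ r176 = 0 ∧
      ((p = 3 ∧ p' = 3 ∧ ((q = -1 ∧ q' = -1 ∧ q'' = 7) ∨ (q = -1 ∧ q' = 7 ∧ q'' = -1) ∨
          (q = 7 ∧ q' = -1 ∧ q'' = -1))) ∨
        ((p = -1 ∧ p' = 7 ∨ p = 7 ∧ p' = -1) ∧ q + q' + q'' = 5 ∧ q * q + q' * q' + q'' * q'' = 19)) := by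
  have h0 : r176 = 0 := by
    have h1 : -9 ≤ r176 ∧ r176 ≤ 9 := by constructor <;> nlinarith
    omega
  subst h0
  obtain ⟨h66, h99, hS⟩ : r66 = 2 ∧ r99 = 3 ∧ p + p' = 6 := by omega
  subst h66 h99
  have hQ : q + q' + q'' = 5 := by omega
  obtain rfl : p' = 6 - p := by omega
  have hp : -3 ≤ p ∧ p ≤ 9 := by constructor <;> nlinarith
  refine ⟨rfl, rfl, rfl, ?_⟩
  obtain rfl | rfl | rfl : p = 3 ∨ p = -1 ∨ p = 7 := by omega
  · left
    refine ⟨rfl, by norm_num, ?_⟩
    have hq : -8 ≤ q ∧ q ≤ 8 := by constructor <;> nlinarith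
    have hq' : -8 ≤ q' ∧ q' ≤ 8 := by constructor <;> nlinarith
    obtain rfl : q'' = 5 - q - q' := by omega
    obtain rfl | rfl | rfl | rfl : q = -5 ∨ q = -1 ∨ q = 3 ∨ q = 7 := by omega
    all_goals obtain rfl | rfl | rfl | rfl : q' = -5 ∨ q' = -1 ∨ q' = 3 ∨ q' = 7 := by omega
    all_goals first | (norm_num at hn; done) | norm_num
  · exact Or.inr ⟨Or.inl ⟨rfl, by norm_num⟩, hQ, by linarith⟩
  · exact Or.inr ⟨Or.inr ⟨rfl, by norm_num⟩, hQ, by linarith⟩

/-- The column of a central involution, up to the order of the characters of degree 55. -/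
theorem Tab.t_column (K : Tab G) (hG : Nat.card G = 95040) {t : G} (ht : orderOf t = 2)
    (hcn : cn t = 192) :
    ∃ a : Fin 15 → ℤ, (∀ i, (K.ch i : G → ℂ) t = a i) ∧
      (a = colT ∨ a = colT ∘ Equiv.swap 9 11 ∨ a = colT ∘ Equiv.swap 10 11) := by
  classical
  obtain ⟨a', ha', ha1, hbd⟩ := inv_value hG ht
  set a : Fin 15 → ℤ := fun i => a' (K.ch i) with ha
  have hai : ∀ i, (K.ch i : G → ℂ) t = a i := fun i => ha' _
  refine ⟨a, hai, ?_⟩
  have hrow := K.B.row hG K.isB ht a' ha'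
  have hval : K.B.val a' = a 1 * 1000 + a 2 * 1000000 + a 3 * 1000000000000000 + a 4 * 1000000000000000000 := by
    rw [Blk.val, K.sum_block, K.deg, K.deg, K.deg, K.deg]
    simp [dv, pl, ha]
  simp only [rowsB, List.mem_cons, List.not_mem_nil, or_false, Prod.mk.injEq, hcn] at hrow
  rw [hval, ← K.ch5] at hrow
  have bd : ∀ i : Fin 15, i ≠ 0 → 4 ∣ (dv i : ℤ) - a i ∧ -(dv i : ℤ) < a i ∧ a i < (dv i : ℤ) := by
    intro i hi
    have h := hbd (K.ch i) fun e => hi (K.bij.1 (e.trans K.ch0.symm))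
    rwa [K.deg] at h
  obtain ⟨-, l1, u1⟩ := bd 1 (by decide)
  obtain ⟨-, l2, u2⟩ := bd 2 (by decide)
  obtain ⟨-, l3, u3⟩ := bd 3 (by decide)
  obtain ⟨-, l4, u4⟩ := bd 4 (by decide)
  simp only [show dv 1 = 45 from rfl, show dv 2 = 144 from rfl, show dv 3 = 54 from rfl,
    show dv 4 = 120 from rfl] at l1 u1 l2 u2 l3 u3 l4 u4
  have h0 : a 0 = 1 := by simp only [ha]; rw [K.ch0]; exact ha1
  obtain ⟨e1, e2, e3, e4, e5⟩ : a 1 = -3 ∧ a 2 = 0 ∧ a 3 = 6 ∧ a 4 = -8 ∧ a 5 = 0 := by
    have hv : a 1 * 1000 + a 2 * 1000000 + a 3 * 1000000000000000 + a 4 * 1000000000000000000 =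
        -7994000000000003000 := by omega
    refine ⟨by omega, by omega, by omega, by omega, ?_⟩
    simp only [ha]
    omega
  have e6 : a 6 = 0 := by
    apply Int.cast_injective (α := ℂ)
    rw [← hai, K.ch6, (K.B.rel t (by rw [ht]; norm_num)).1, ← K.ch5, hai, e5]
  have ht1 : t ≠ 1 := ne_one_of_orderOf ht (by norm_num)
  have notconj : ∀ g : G, orderOf g ≠ 2 → ¬ IsConj t g := fun g hg h => by
    obtain ⟨c, hc⟩ := isConj_iff.1 h
    exact hg (by rw [← hc, ← ht]; exact (MulAut.conj c).orderOf_eq t)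
  have o1 := K.orth_deg ht1 a hai
  have ou := K.orth_int (notconj K.P.u (by rw [K.P.ou]; norm_num)) a colU hai K.colu
  have oz := K.orth_int (notconj (K.P.u * K.P.w) (by rw [K.P.oz]; norm_num)) a colZ hai K.colz
  have ow := K.orth_int (fun h => by
    have := cn_eq_of_isConj h
    rw [hcn, K.cn_w] at this
    omega) a colW hai K.colw
  have hn := K.norm_int a hai
  rw [hcn] at hn
  rw [sum15] at o1 ou oz ow hn
  simp [h0, e1, e2, e3, e4, e5, e6, dv, colU, colW, colZ] at o1 ou oz ow hn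
  have c7 := (bd 7 (by decide)).1
  have c8 := (bd 8 (by decide)).1
  have c9 := (bd 9 (by decide)).1
  have c10 := (bd 10 (by decide)).1
  have c11 := (bd 11 (by decide)).1
  have c14 : (16 : ℤ) ∣ a 14 := by
    have h := idx_mod hG (K.ch 14) (hai 14)
    rw [hcn, K.deg, show dv 14 = 176 from rfl] at h
    norm_num at h
    omega
  simp only [show dv 7 = 11 from rfl, show dv 8 = 11 from rfl, show dv 9 = 55 from rfl,
    show dv 10 = 55 from rfl, show dv 11 = 55 from rfl] at c7 c8 c9 c10 c11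
  push_cast at c7 c8 c9 c10 c11
  obtain ⟨h66, h99, h176, hcase⟩ := t_arith (p := a 7) (p' := a 8) (q := a 9) (q' := a 10) (q'' := a 11)
    (r66 := a 12) (r99 := a 13) (r176 := a 14) (by linarith) (by linarith) (by linarith) (by linarith)
    (by linarith) c7 c8 c9 c10 c11 c14
  rcases hcase with ⟨h7, h8, hq⟩ | ⟨hp, hQ, hQ2⟩
  · rcases hq with ⟨q1, q2, q3⟩ | ⟨q1, q2, q3⟩ | ⟨q1, q2, q3⟩
    · left
      funext i
      fin_cases i <;> simp [colT] <;> assumption
    · right; right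
      funext i
      fin_cases i <;> simp [colT, Equiv.swap_apply_def] <;> assumption
    · right; left
      funext i
      fin_cases i <;> simp [colT, Equiv.swap_apply_def] <;> assumption
  · exfalso
    have h := triple_int (x := K.P.u) (y := t) (z := t)
      (fun χ => colU ((Equiv.ofBijective K.ch K.bij).symm χ))
      (fun χ => a ((Equiv.ofBijective K.ch K.bij).symm χ))
      (fun χ => a ((Equiv.ofBijective K.ch K.bij).symm χ))
      (fun χ => by
        obtain ⟨i, rfl⟩ := K.bij.2 χ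
        rw [Equiv.ofBijective_symm_apply_apply]; exact K.colu i)
      (fun χ => by
        obtain ⟨i, rfl⟩ := K.bij.2 χ
        rw [Equiv.ofBijective_symm_apply_apply]; exact hai i)
      (fun χ => by
        obtain ⟨i, rfl⟩ := K.bij.2 χ
        rw [Equiv.ofBijective_symm_apply_apply]; exact hai i)
    simp only [K.hsum, Equiv.ofBijective_symm_apply_apply, K.deg, hG, hcn] at h
    rw [sum15] at h
    generalize {y' : G | IsConj t y' ∧ IsConj (K.P.u * y') t}.ncard = n at h
    have hpp : ((a 7 : ℂ) * a 7) + (a 8 : ℂ) * a 8 = 50 := by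
      rcases hp with ⟨r, r'⟩ | ⟨r, r'⟩ <;> rw [r, r'] <;> norm_num
    simp [h0, e1, e2, e3, e4, e5, e6, h66, h99, h176, dv, colU] at h
    have hfin : (2 : ℂ) * ((n : ℕ) : ℂ) = 25 := by
      linear_combination (-(1 : ℂ) / 18432) * h + (45 / 96 : ℂ) * hpp
    have : (2 : ℤ) * (n : ℤ) = 25 := by
      apply Int.cast_injective (α := ℂ); push_cast; exact hfin
    omega

/-- The characters with four columns. -/
structure TabT (G : Type u) [Group G] [Finite G] extends Tab G where
  t : G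
  ot : orderOf t = 2
  cn_t : cn t = 192
  colt : ∀ i, (ch i : G → ℂ) t = colT i

theorem exists_tabT (hG : Nat.card G = 95040) : Nonempty (TabT G) := by
  classical
  obtain ⟨K⟩ := exists_tab hG
  obtain ⟨t, ht, h64⟩ := Blk.exists_central hG
  have hcn : cn t = 192 := by
    refine (K.inv_cases hG ht).resolve_left fun h => ?_
    rw [cn_eq_of_isConj h, K.cn_w] at h64
    norm_num at h64
  obtain ⟨a, ha, hcase⟩ := K.t_column hG ht hcn
  obtain ⟨σ, hσ, hdv, hu, hw, hz, h0, h5, h6, hfix⟩ : ∃ σ : Equiv.Perm (Fin 15), a = colT ∘ σ ∧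
      (∀ i, dv (σ.symm i) = dv i) ∧ (∀ i, colU (σ.symm i) = colU i) ∧ (∀ i, colW (σ.symm i) = colW i) ∧
      (∀ i, colZ (σ.symm i) = colZ i) ∧ σ.symm 0 = 0 ∧ σ.symm 5 = 5 ∧ σ.symm 6 = 6 ∧
      (∀ i, i ≠ 5 → i ≠ 6 → σ.symm i ≠ 5 ∧ σ.symm i ≠ 6) := by
    rcases hcase with h | h | h
    · exact ⟨1, h, by decide, by decide, by decide, by decide, rfl, rfl, rfl, by decide⟩
    · exact ⟨Equiv.swap 9 11, h, by decide, by decide, by decide, by decide, by decide, by decide, by decide,
        by decide⟩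
    · exact ⟨Equiv.swap 10 11, h, by decide, by decide, by decide, by decide, by decide, by decide, by decide,
        by decide⟩
  refine ⟨{ K with
    ch := fun i => K.ch (σ.symm i)
    bij := K.bij.comp σ.symm.bijective
    deg := fun i => by rw [K.deg, hdv]
    ch0 := by rw [h0]; exact K.ch0
    ch5 := by rw [h5]; exact K.ch5
    ch6 := by rw [h6]; exact K.ch6
    colu := fun i => by rw [K.colu, hu]
    colw := fun i => by rw [K.colw, hw]
    colz := fun i => by rw [K.colz, hz]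
    real := fun i i5 i6 => K.real _ (hfix i i5 i6).1 (hfix i i5 i6).2
    t := t, ot := ht, cn_t := hcn
    colt := fun i => by rw [ha, hσ, Function.comp_apply, Equiv.apply_symm_apply] }⟩

/-- The characters of degree eleven take the values `3` or `-1` at the involutions. -/
theorem Tab.eleven_inv (K : Tab G) (hG : Nat.card G = 95040) {t : G} (ht : orderOf t = 2) :
    (cn t = 192 ∧ (K.ch 7 : G → ℂ) t = 3) ∨ (cn t = 240 ∧ (K.ch 7 : G → ℂ) t = -1) := by
  rcases K.inv_cases hG ht with h | h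
  · refine Or.inr ⟨(cn_eq_of_isConj h).trans K.cn_w, ?_⟩
    rw [IsClass.eq_of_isConj (IsIrr.classFun (K.ch 7).2) h, K.colw]
    simp [colW]
  · refine Or.inl ⟨h, ?_⟩
    obtain ⟨a, ha, hc⟩ := K.t_column hG ht h
    rw [ha]
    rcases hc with rfl | rfl | rfl <;> simp [colT, Equiv.swap_apply_def]

end Cfsg.Agent.Invol.M12Ord
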