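import Mathlib

/-!
Order 95040: the exhaustive check that an element of order three commuting with a central involution
has, together with it, a centralizer of order six.
-/

set_option autoImplicit false

namespace Cfsg.Agent.Invol.M12Ord

def dot (a b : List ℤ) : ℤ := (List.zipWith (· * ·) a b).sum

def degL : List ℤ := [1, 45, 144, 54, 120, 16, 16, 11, 11, 55, 55, 55, 66, 99, 176]
def colUL : List ℤ := [1, 0, -1, -1, 0, 1, 1, 1, 1, 0, 0, 0, 1, -1, 1]
def colWL : List ℤ := [1, 5, 4, 6, 0, 4, 4, -1, -1, -5, -5, -5, 6, -1, -4]
def colZL : List ℤ := [1, 0, -1, 1, 0, -1, -1, -1, -1, 0, 0, 0, 1, -1, 1]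
def colTL : List ℤ := [1, -3, 0, 6, -8, 0, 0, 3, 3, -1, -1, 7, 2, 3, 0]

/-- Whether `a` may be the value at the element of order three of a character of degree `d`. -/
def okV (h : ℕ) (d a : ℤ) : Bool :=
  (a - d) % 3 == 0 && decide (a * a < (h : ℤ)) && (((95040 / h : ℕ) : ℤ) * a) % d == 0

def valsV (h : ℕ) (d : ℤ) : List ℤ :=
  (((List.range 85).map fun i => (i : ℤ) - 42)).filter (okV h d)

/-- The lists with entries from given lists and squares summing to at most `g`. -/
def cands (g : ℤ) : List (List ℤ) → List (List ℤ)
  | [] => [[]]
  | c :: cs =>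
    let r := cands g cs
    c.flatMap fun a => (r.filter fun l => decide (a * a + dot l l ≤ g)).map (a :: ·)

/-- The possible values at the element of order six, by their residues modulo six. -/
def candsTV (g : ℤ) (vl : List ℤ) : List (List ℤ) :=
  List.zipWith (fun t v => ((List.range 31).map fun i => (i : ℤ) - 15).filter fun b =>
    decide (b * b ≤ g) && (b - t) % 3 == 0 && (b - v) % 2 == 0) colTL vl

/-- No column for an element of order six with centralizer of order `g`. -/
def noTV (g : ℤ) (vl : List ℤ) : Bool :=
  (cands g (candsTV g vl)).all fun b =>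
    !(dot b b == g && dot b degL == 0 && dot b colUL == 0 && dot b colZL == 0 && dot b colWL == 0 &&
      dot b colTL == 0 && dot b vl == 0)

/-- The class multiplication sum. -/
def numV (vl : List ℤ) : ℤ :=
  dot (List.zipWith (fun t d => t * t * (95040 / d)) colTL degL) vl

/-- The test of a column. -/
def finalV (h : ℕ) (vl : List ℤ) : Bool :=
  decide (numV vl < 0) || numV vl % 36864 != 0 ||
    [12, 24, 48, 96, 192].all fun (g : ℕ) => h % g != 0 || noTV (g : ℤ) vl

def checkV (h : ℕ) : Bool :=
  let hz : ℤ := h
  (valsV h 45).all fun a1 => (valsV h 144).all fun a2 =>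
    decide (hz < 1 + a1 * a1 + a2 * a2) || (valsV h 120).all fun a4 =>
      let y := 1 + a1 + a2 - a4
      let n1 := 1 + a1 * a1 + a2 * a2 + a4 * a4 + 2 * (y * y)
      decide (hz < n1) || !okV h 16 y || (valsV h 11).all fun a7 =>
        let a8 := -2 * y - a7
        let n2 := n1 + a7 * a7 + a8 * a8
        decide (hz < n2) || !okV h 11 a8 || (valsV h 66).all fun a12 =>
          decide (hz < n2 + a12 * a12) || (valsV h 99).all fun a13 =>
            let a14 := a2 - a12 + a13 - 1
            let n3 := n2 + a12 * a12 + a13 * a13 + a14 * a14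
            let q5 := 1 + 5 * a1 + 4 * a2 + 8 * y - a7 - a8 + 6 * a12 - a13 - 4 * a14
            decide (hz < n3) || !okV h 176 a14 || q5 % 5 != 0 || (valsV h 55).all fun a9 =>
              decide (hz < n3 + a9 * a9) || (valsV h 55).all fun a10 =>
                let a11 := q5 / 5 - a9 - a10
                let l := [1, a1, a2, 0, a4, y, y, a7, a8, a9, a10, a11, a12, a13, a14]
                decide (hz < n3 + a9 * a9 + a10 * a10) ||
                  !(n3 + a9 * a9 + a10 * a10 + a11 * a11 == hz && okV h 55 a11 && dot l degL == 0 &&
                    dot l colTL == 0) ||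
                  finalV h l

/-- The possible orders of centralizers. -/
def ordsV : List ℕ := (List.range 1729).filter fun h => 1728 % h == 0 && h % 36 == 0

def checkThree : Bool := ordsV.all checkV

set_option maxHeartbeats 4000000 in
-- a long enumeration
theorem checkThree_true : checkThree = true := by decide +kernel

end Cfsg.Agent.Invol.M12Ord
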