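import Mathlib
import Cfsg.Agent.Lib.Invol.Order95040.CentralColumn
import Cfsg.Agent.Lib.Invol.Order95040.CheckThree

/-!
Simple groups of order 95040: an element of order three commuting with a central involution.
-/

set_option autoImplicit false
set_option linter.style.haveILetI false
set_option linter.unusedSectionVars false

namespace Cfsg.Agent.Invol.M12Ord

open scoped ComplexConjugate
open Cfsg Cfsg.Agent.Block Cfsg.Agent.Char

universe u

variable {G : Type u} [Group G] [Finite G]

theorem mem_cands (g : ℤ) : ∀ (cs : List (List ℤ)) (l : List ℤ), List.Forall₂ (fun a c => a ∈ c) l cs →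
    dot l l ≤ g → l ∈ cands g cs := by
  intro cs
  induction cs with
  | nil =>
    intro l h _
    cases h
    simp [cands]
  | cons c cs ih =>
    intro l h hn
    cases h with
    | @cons a _ l' _ hac hl =>
      have hd : dot (a :: l') (a :: l') = a * a + dot l' l' := by simp [dot]
      rw [hd] at hn
      simp only [cands, List.mem_flatMap, List.mem_map, List.mem_filter, decide_eq_true_eq]
      exact ⟨a, hac, l', ⟨ih l' hl (by nlinarith), hn⟩, rfl⟩

theorem ofFn15 {α : Type*} (a : Fin 15 → α) : List.ofFn a =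
    [a 0, a 1, a 2, a 3, a 4, a 5, a 6, a 7, a 8, a 9, a 10, a 11, a 12, a 13, a 14] := by
  simp [List.ofFn_succ]

theorem dot_ofFn (a b : Fin 15 → ℤ) : dot (List.ofFn a) (List.ofFn b) = ∑ i, a i * b i := by
  rw [ofFn15, ofFn15, sum15]
  simp [dot]
  ring

theorem degL_eq : degL = List.ofFn (fun i => (dv i : ℤ)) := by rw [ofFn15]; simp [degL, dv]

theorem colUL_eq : colUL = List.ofFn colU := by rw [ofFn15]; simp [colUL, colU]

theorem colWL_eq : colWL = List.ofFn colW := by rw [ofFn15]; simp [colWL, colW]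

theorem colZL_eq : colZL = List.ofFn colZ := by rw [ofFn15]; simp [colZL, colZ]

theorem colTL_eq : colTL = List.ofFn colT := by rw [ofFn15]; simp [colTL, colT]

theorem numV_ofFn (a : Fin 15 → ℤ) :
    numV (List.ofFn a) = ∑ i, colT i * colT i * (95040 / (dv i : ℤ)) * a i := by
  rw [numV, colTL_eq, degL_eq, ← dot_ofFn]
  congr 1

theorem dv_dvd : ∀ i, dv i ∣ 95040 := by decide

theorem dv_ne : ∀ i, dv i ≠ 0 := by decide

variable [IsSimpleGroup G]

namespace Tab

variable (K : Tab G)

theorem sigma (i : Fin 15) : i = 1 ∨ i = 2 → K.B.σ (K.ch i) = 1 := by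
  intro hi
  have hm : K.ch i ∈ K.B.T := by
    rcases hi with rfl | rfl <;> exact K.mem_T (by decide) (by decide) (by decide)
  rcases K.B.sign _ hm with ⟨h, -⟩ | ⟨-, h⟩
  · exact h
  · rw [K.deg] at h
    rcases hi with rfl | rfl <;> simp [dv] at h

theorem sigma' (i : Fin 15) : i = 3 ∨ i = 4 → K.B.σ (K.ch i) = -1 := by
  intro hi
  have hm : K.ch i ∈ K.B.T := by
    rcases hi with rfl | rfl <;> exact K.mem_T (by decide) (by decide) (by decide)
  rcases K.B.sign _ hm with ⟨-, h⟩ | ⟨h, -⟩
  · rw [K.deg] at h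
    rcases hi with rfl | rfl <;> simp [dv] at h
  · exact h

/-- The relation in the principal 11-block. -/
theorem rel_y {g : G} (hg : ¬ 11 ∣ orderOf g) :
    (K.ch 5 : G → ℂ) g = 1 + (K.ch 1 : G → ℂ) g + (K.ch 2 : G → ℂ) g - (K.ch 3 : G → ℂ) g - (K.ch 4 : G → ℂ) g ∧
      (K.ch 6 : G → ℂ) g = (K.ch 5 : G → ℂ) g := by
  have hε : K.B.ε = 1 := by
    have hd := K.B.deg_rel
    rw [K.sum_block, K.sigma 1 (Or.inl rfl), K.sigma 2 (Or.inr rfl), K.sigma' 3 (Or.inl rfl),
      K.sigma' 4 (Or.inr rfl), ← K.ch5, K.deg, K.deg, K.deg, K.deg, K.deg] at hd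
    simp [dv] at hd
    omega
  obtain ⟨h1, h2⟩ := K.B.rel g hg
  rw [K.sum_block, K.sigma 1 (Or.inl rfl), K.sigma 2 (Or.inr rfl), K.sigma' 3 (Or.inl rfl),
    K.sigma' 4 (Or.inr rfl), hε, ← K.ch5] at h2
  rw [← K.ch5, ← K.ch6] at h1
  refine ⟨?_, h1⟩
  push_cast at h2
  linear_combination h2

include K in
/-- All values at elements of order prime to eleven are real. -/
theorem real_value {g : G} (hg : ¬ 11 ∣ orderOf g) (χ : IrrCharacter G) :
    conj ((χ : G → ℂ) g) = (χ : G → ℂ) g := by
  obtain ⟨i, rfl⟩ := K.bij.2 χ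
  obtain ⟨h5, h6⟩ := K.rel_y hg
  have hy : conj ((K.ch 5 : G → ℂ) g) = (K.ch 5 : G → ℂ) g := by
    rw [h5]
    simp only [map_sub, map_add, map_one, K.real 1 (by decide) (by decide), K.real 2 (by decide) (by decide),
      K.real 3 (by decide) (by decide), K.real 4 (by decide) (by decide)]
  by_cases e5 : i = 5
  · rw [e5]; exact hy
  by_cases e6 : i = 6
  · rw [e6, h6]; exact hy
  exact K.real i e5 e6 g

theorem exists_conj_five (hG : Nat.card G = 95040) {v : G} (hv : orderOf v = 5) :
    ∃ c : G, K.P.u ∈ Subgroup.zpowers (c * v * c⁻¹) := by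
  haveI : Fact (Nat.Prime 5) := ⟨by norm_num⟩
  have hcard : ∀ g : G, orderOf g = 5 → Nat.card (Subgroup.zpowers g) = 5 ^ (Nat.card G).factorization 5 :=
    fun g hg => by rw [Nat.card_zpowers, hg, hG, card_five, pow_one]
  set Q := Sylow.ofCard (Subgroup.zpowers v) (hcard _ hv) with hQ
  set R := Sylow.ofCard (Subgroup.zpowers K.P.u) (hcard _ K.P.ou) with hR
  obtain ⟨c, hc⟩ := MulAction.exists_smul_eq G Q R
  have hmem : c * v * c⁻¹ ∈ Subgroup.zpowers K.P.u := by
    have h : (MulAut.conj c) • v ∈ ((c • Q : Sylow 5 G) : Subgroup G) := by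
      rw [Sylow.smul_def, Sylow.pointwise_smul_def]
      exact Subgroup.smul_mem_pointwise_smul _ _ _ (Subgroup.mem_zpowers v)
    rw [hc] at h
    exact h
  refine ⟨c, ?_⟩
  rw [Subgroup.eq_of_le_of_card_ge (Subgroup.zpowers_le.2 hmem)
    (by rw [Nat.card_zpowers, Nat.card_zpowers, K.P.ou]; exact ((MulAut.conj c).orderOf_eq v ▸ hv).ge)]
  exact Subgroup.mem_zpowers _

include K in
theorem three_dvd (hG : Nat.card G = 95040) {v : G} (hv : orderOf v = 3) : 9 ∣ cn v ∧ cn v ∣ 1728 := by
  haveI : Fact (Nat.Prime 3) := ⟨Nat.prime_three⟩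
  haveI : Fact (Nat.Prime 5) := ⟨by norm_num⟩
  haveI : Fact (Nat.Prime 11) := ⟨by norm_num⟩
  refine ⟨?_, ?_⟩
  · obtain ⟨S, hS⟩ := (IsPGroup.of_card (n := 1) (by rw [Nat.card_zpowers, hv, pow_one]) :
      IsPGroup 3 (Subgroup.zpowers v)).exists_le_sylow
    have hcS : Nat.card (S : Subgroup G) = 3 ^ 3 := by
      rw [S.card_eq_multiplicity, hG, show (95040 : ℕ) = 3 ^ 3 * 3520 by norm_num,
        Nat.factorization_mul (by norm_num) (by norm_num), Finsupp.add_apply,
        Nat.Prime.factorization_pow Nat.prime_three, Finsupp.single_eq_same,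
        Nat.factorization_eq_zero_of_not_dvd (by norm_num : ¬ 3 ∣ 3520)]
    set v' : (S : Subgroup G) := ⟨v, hS (Subgroup.mem_zpowers v)⟩ with hv'
    set D := Subgroup.centralizer ({v'} : Set (S : Subgroup G)) with hD
    haveI : Nontrivial (S : Subgroup G) := Finite.one_lt_card_iff_nontrivial.1 (by rw [hcS]; norm_num)
    have hcv : Subgroup.center (S : Subgroup G) ≤ D := fun g hg =>
      Subgroup.mem_centralizer_singleton_iff.2 (Subgroup.mem_center_iff.1 hg v').symm
    have hvD : Subgroup.zpowers v' ≤ D := Subgroup.zpowers_le.2 (Subgroup.mem_centralizer_singleton_iff.2 rfl)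
    have hov : Nat.card (Subgroup.zpowers v') = 3 := by
      rw [Nat.card_zpowers, ← Subgroup.orderOf_coe]; exact hv
    obtain ⟨k, hk, hDk⟩ := (Nat.dvd_prime_pow Nat.prime_three).1 (hcS ▸ Subgroup.card_subgroup_dvd_card D)
    have hk2 : 2 ≤ k := by
      by_contra hlt
      have hDv : Subgroup.zpowers v' = D := Subgroup.eq_of_le_of_card_ge hvD (by
        rw [hov, hDk]; interval_cases k <;> norm_num)
      have hZ : Subgroup.center (S : Subgroup G) = Subgroup.zpowers v' := by
        refine Subgroup.eq_of_le_of_card_ge (hDv ▸ hcv) ?_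
        rw [hov]
        obtain ⟨j, hj⟩ := IsPGroup.iff_card.1 (S.isPGroup'.to_subgroup (Subgroup.center (S : Subgroup G)))
        have hj0 : j ≠ 0 := fun e => by
          rw [e, pow_zero] at hj
          exact (Finite.one_lt_card_iff_nontrivial.2 S.isPGroup'.center_nontrivial).ne' hj
        rw [hj]
        exact Nat.le_self_pow hj0 3
      have htop : D = ⊤ := (Subgroup.eq_top_iff' D).2 fun g => Subgroup.mem_centralizer_singleton_iff.2
        (Subgroup.mem_center_iff.1 (hZ ▸ Subgroup.mem_zpowers v') g)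
      rw [htop, Subgroup.card_top, hcS] at hDk
      have := Nat.pow_right_injective (by norm_num : 2 ≤ 3) hDk
      omega
    have h9 : 9 ∣ Nat.card D := hDk ▸ (show 3 ^ 2 ∣ 3 ^ k from pow_dvd_pow 3 hk2)
    have hle : D.map (S : Subgroup G).subtype ≤ Subgroup.centralizer ({v} : Set G) := by
      rintro _ ⟨g, hg, rfl⟩
      exact Subgroup.mem_centralizer_singleton_iff.2
        (congrArg Subtype.val (Subgroup.mem_centralizer_singleton_iff.1 hg))
    have := Subgroup.card_dvd_of_le hle
    rw [Subgroup.card_map_of_injective (Subgroup.subtype_injective _)] at this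
    exact h9.trans this
  · have h5 : Nat.Coprime 5 (cn v) := by
      refine (Nat.Prime.coprime_iff_not_dvd (by norm_num)).2 fun hd => ?_
      obtain ⟨z, hz⟩ := exists_prime_orderOf_dvd_card' 5 hd
      rw [← Subgroup.orderOf_coe] at hz
      obtain ⟨c, hc⟩ := K.exists_conj_five hG hz
      have hcomm : Commute (c * v * c⁻¹) (c * (z : G) * c⁻¹) :=
        (show Commute v (z : G) from (Subgroup.mem_centralizer_singleton_iff.1 z.2).symm).map
          (MulAut.conj c).toMonoidHom
      obtain ⟨i, hi⟩ := hc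
      have hi' : (c * (z : G) * c⁻¹) ^ i = K.P.u := hi
      have h := orderOf_dvd_cn (g := K.P.u) (x := c * v * c⁻¹) (hi' ▸ (hcomm.zpow_right i).eq)
      rw [show orderOf (c * v * c⁻¹) = 3 from ((MulAut.conj c).orderOf_eq v).trans hv, K.P.cn_u] at h
      norm_num at h
    have h11 : Nat.Coprime 11 (cn v) := by
      refine (Nat.Prime.coprime_iff_not_dvd (by norm_num)).2 fun hd => ?_
      obtain ⟨z, hz⟩ := exists_prime_orderOf_dvd_card' 11 hd
      rw [← Subgroup.orderOf_coe] at hz
      have h := SCP.hyp_of_ord K.B.hyp hz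
      have h1 := Subgroup.orderOf_dvd_natCard _
        (SCP.mem_P_of_comm h (Subgroup.mem_centralizer_singleton_iff.1 z.2).symm)
      rw [hv, SCP.card_P h] at h1
      norm_num at h1
    have hd : cn v ∣ 1728 * (5 * 11) := by simpa [hG] using cn_dvd_card v
    exact (Nat.Coprime.mul_right h5.symm h11.symm).dvd_of_dvd_mul_right hd

theorem int_col {g : G} (hg : orderOf g = 3 ∨ orderOf g = 6) :
    ∃ a : Fin 15 → ℤ, (∀ i, (K.ch i : G → ℂ) g = a i) ∧ a 0 = 1 := by
  have h11 : ¬ 11 ∣ orderOf g := by rcases hg with h | h <;> rw [h] <;> norm_num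
  have hinv : IsConj g⁻¹ g := (isConj_iff_irr _ _).2 fun χ => by
    rw [IsIrr.apply_inv χ.2, K.real_value h11]
  obtain ⟨a, ha, ha1⟩ := int_column (g := g) fun k hk => by
    rw [← pow_mod_orderOf]
    have hlt := Nat.mod_lt k (orderOf_pos g)
    rcases (show k % orderOf g = 1 ∨ k % orderOf g + 1 = orderOf g from by
      have hcop : Nat.Coprime (k % orderOf g) (orderOf g) := by
        rw [Nat.coprime_iff_gcd_eq_one, ← Nat.gcd_rec, Nat.gcd_comm]
        exact hk
      rcases hg with h | h <;> rw [h] at hlt hcop ⊢ <;>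
        (generalize k % _ = m at hlt hcop ⊢; interval_cases m <;> first | omega | norm_num at hcop)) with h | h
    · rw [h, pow_one]
    · have e : g ^ (k % orderOf g) = g⁻¹ := eq_inv_of_mul_eq_one_left (by
        rw [← pow_succ, h, pow_orderOf_eq_one])
      rw [e]
      exact hinv
  exact ⟨fun i => a (K.ch i), fun i => ha _, (congrArg a K.ch0).trans ha1⟩

end Tab

namespace TabT

variable (K : TabT G)

set_option maxHeartbeats 1600000 in
-- a long case check
theorem six (hG : Nat.card G = 95040) {v : G} (hv : orderOf v = 3) (hc : K.t * v = v * K.t) :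
    cn (K.t * v) = 6 := by
  classical
  haveI : Fact (Nat.Prime 2) := ⟨Nat.prime_two⟩
  haveI : Fact (Nat.Prime 3) := ⟨Nat.prime_three⟩
  have hcv : Commute K.t v := hc
  have hotv : orderOf (K.t * v) = 6 := by
    rw [hcv.orderOf_mul_eq_mul_orderOf_of_coprime (by rw [K.ot, hv]; norm_num), K.ot, hv]
  have ht2 : K.t ^ 2 = 1 := by rw [← K.ot]; exact pow_orderOf_eq_one _
  have hv3 : v ^ 3 = 1 := by rw [← hv]; exact pow_orderOf_eq_one _
  have hg1 : cn (K.t * v) ∣ 192 := by
    refine K.cn_t ▸ Subgroup.card_dvd_of_le fun x hx => ?_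
    rw [Subgroup.mem_centralizer_singleton_iff] at hx ⊢
    have h := (show Commute x (K.t * v) from hx).pow_right 3
    rw [hcv.mul_pow, hv3, mul_one, show 3 = 2 + 1 from rfl, pow_succ, ht2, one_mul] at h
    exact h
  have hg2 : cn (K.t * v) ∣ cn v := by
    refine Subgroup.card_dvd_of_le fun x hx => ?_
    rw [Subgroup.mem_centralizer_singleton_iff] at hx ⊢
    have h := (show Commute x (K.t * v) from hx).pow_right 4
    rw [hcv.mul_pow, show 4 = 2 * 2 from rfl, pow_mul, ht2, one_pow, one_mul,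
      show 2 * 2 = 3 + 1 from rfl, pow_succ, hv3, one_mul] at h
    exact h
  have hg3 : 6 ∣ cn (K.t * v) := hotv ▸ orderOf_dvd_cn rfl
  by_contra hne
  set g := cn (K.t * v) with hgd
  have hmem : g ∈ [12, 24, 48, 96, 192] := by
    have key : ((List.range 193).all fun n => 192 % n != 0 || n % 6 != 0 || n == 6 ||
        [12, 24, 48, 96, 192].contains n) = true := by decide +kernel
    have h := List.all_eq_true.1 key g (List.mem_range.2 (by have := Nat.le_of_dvd (by norm_num) hg1; omega))
    simpa [Nat.mod_eq_zero_of_dvd hg1, Nat.mod_eq_zero_of_dvd hg3, hne] using h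
  obtain ⟨h9, h1728⟩ := K.toTab.three_dvd hG hv
  set h := cn v with hhd
  have h12 : 12 ∣ g := by
    simp only [List.mem_cons, List.not_mem_nil, or_false] at hmem
    omega
  have h36 : 36 ∣ h := by
    have := h12.trans hg2
    omega
  have hord : h ∈ ordsV := by
    simp only [ordsV, List.mem_filter, List.mem_range, Bool.and_eq_true, beq_iff_eq]
    have := Nat.le_of_dvd (by norm_num) h1728
    exact ⟨by omega, Nat.mod_eq_zero_of_dvd h1728, Nat.mod_eq_zero_of_dvd h36⟩
  -- the two columns
  obtain ⟨a, ha, ha0⟩ := K.toTab.int_col (Or.inl hv)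
  obtain ⟨b, hb, -⟩ := K.toTab.int_col (Or.inr hotv)
  have hv11 : ¬ 11 ∣ orderOf v := by rw [hv]; norm_num
  have ha3 : a 3 = 0 := by
    apply Int.cast_injective (α := ℂ)
    obtain ⟨M, hM⟩ := exists_isPModular 3 Nat.prime_three
    rw [← ha, Int.cast_zero]
    refine defectZero_vanish hM _ ?_ (by rw [hv])
    rw [show charDegree (K.ch 3 : G → ℂ) = 54 from K.deg 3, hG, show (54 : ℕ) = 3 ^ 3 * 2 by norm_num,
      show (95040 : ℕ) = 3 ^ 3 * 3520 by norm_num, Nat.factorization_mul (by norm_num) (by norm_num),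
      Nat.factorization_mul (by norm_num) (by norm_num), Finsupp.add_apply, Finsupp.add_apply,
      Nat.factorization_eq_zero_of_not_dvd (by norm_num : ¬ 3 ∣ 2),
      Nat.factorization_eq_zero_of_not_dvd (by norm_num : ¬ 3 ∣ 3520)]
  obtain ⟨hy, hy'⟩ := K.toTab.rel_y hv11
  rw [ha, ha, ha, ha, ha, ha3] at hy
  rw [ha, ha] at hy'
  have h5 : a 5 = 1 + a 1 + a 2 - a 4 := by
    apply Int.cast_injective (α := ℂ); push_cast at hy ⊢; linear_combination hy
  have h6 : a 6 = a 5 := Int.cast_injective (α := ℂ) hy'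
  have hv1 : v ≠ 1 := ne_one_of_orderOf hv (by norm_num)
  have hne_ord : ∀ {x y : G}, orderOf x ≠ orderOf y → ¬ IsConj x y := fun {x y} hxy hcj => by
    obtain ⟨c, hc⟩ := isConj_iff.1 hcj
    exact hxy (by rw [← hc]; exact ((MulAut.conj c).orderOf_eq x).symm)
  have o1 := K.toTab.orth_deg hv1 a ha
  have ou := K.toTab.orth_int (hne_ord (by rw [hv, K.P.ou]; norm_num)) a colU ha K.colu
  have oz := K.toTab.orth_int (hne_ord (by rw [hv, K.P.oz]; norm_num)) a colZ ha K.colz
  have ow := K.toTab.orth_int (hne_ord (by rw [hv, K.P.ow]; norm_num)) a colW ha K.colw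
  have ot' := K.toTab.orth_int (hne_ord (by rw [hv, K.ot]; norm_num)) a colT ha K.colt
  have hn := K.toTab.norm_int a ha
  have hok : ∀ i, i ≠ 0 → okV h (dv i : ℤ) (a i) = true := by
    intro i hi
    simp only [okV, Bool.and_eq_true, beq_iff_eq, decide_eq_true_eq]
    refine ⟨⟨?_, ?_⟩, ?_⟩
    · have h := congr_deg (p := 3) (K.ch i) (j := 1) (by rw [hv]; norm_num) (ha i)
      rw [K.deg] at h
      omega
    · have h := Finset.add_le_sum (f := fun i => a i * a i) (fun j _ => mul_self_nonneg (a j))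
        (Finset.mem_univ (0 : Fin 15)) (Finset.mem_univ i) (Ne.symm hi)
      rw [hn, ha0] at h
      change 1 * 1 + a i * a i ≤ (cn v : ℤ) at h
      rw [← hhd] at h
      linarith
    · have h := idx_mod hG (K.ch i) (ha i)
      rw [K.deg, ← hhd] at h
      exact h
  have hh : (h : ℤ) ≤ 1728 := by exact_mod_cast Nat.le_of_dvd (by norm_num) h1728
  have hvals : ∀ i, i ≠ 0 → a i ∈ valsV h (dv i : ℤ) := by
    intro i hi
    refine List.mem_filter.2 ⟨?_, hok i hi⟩
    have hs : a i * a i < (h : ℤ) := by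
      have := hok i hi
      simp only [okV, Bool.and_eq_true, decide_eq_true_eq] at this
      exact this.1.2
    have hb1 : -42 ≤ a i ∧ a i ≤ 42 := by constructor <;> nlinarith
    refine List.mem_map.2 ⟨_, List.mem_flatMap.2 ⟨(a i + 42).toNat, List.mem_range.2 ?_,
      List.mem_singleton.2 rfl⟩, ?_⟩ <;> simp <;> omega
  have e14 : a 14 = a 2 - a 12 + a 13 - 1 := by
    rw [sum15] at ou oz
    simp [colU, colZ, ha0, ha3, h6] at ou oz
    omega
  have e8 : a 8 = -2 * a 5 - a 7 := by
    rw [sum15] at ou oz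
    simp [colU, colZ, ha0, ha3, h6] at ou oz
    omega
  rw [sum15] at hn
  simp only [ha0, ha3, h6] at hn
  set q5 := 1 + 5 * a 1 + 4 * a 2 + 8 * a 5 - a 7 - a 8 + 6 * a 12 - a 13 - 4 * a 14 with hq5
  have e11 : q5 = 5 * (a 9 + a 10 + a 11) := by
    rw [sum15] at ow
    simp [colW, ha0, ha3, h6] at ow
    omega
  -- run the check
  have hchk := List.all_eq_true.1 checkThree_true h hord
  simp only [checkV, List.all_eq_true, Bool.or_eq_true, decide_eq_true_eq] at hchk
  have k2 := hchk (a 1) (hvals 1 (by decide)) (a 2) (hvals 2 (by decide))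
  have sq : ∀ i : Fin 15, 0 ≤ a i * a i := fun i => mul_self_nonneg _
  have k4 := k2.resolve_left (by linarith [sq 4, sq 5, sq 7, sq 8, sq 9, sq 10, sq 11, sq 12, sq 13, sq 14]) (a 4)
    (hvals 4 (by decide))
  rw [← h5] at k4
  have k7 := k4.resolve_left (by
    rintro (hx | hx)
    · linarith [sq 7, sq 8, sq 9, sq 10, sq 11, sq 12, sq 13, sq 14]
    · simp [show okV h 16 (a 5) = true from hok 5 (by decide)] at hx) (a 7) (hvals 7 (by decide))
  rw [← e8] at k7
  have k12 := k7.resolve_left (by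
    rintro (hx | hx)
    · linarith [sq 9, sq 10, sq 11, sq 12, sq 13, sq 14]
    · simp [show okV h 11 (a 8) = true from hok 8 (by decide)] at hx) (a 12) (hvals 12 (by decide))
  have k13 := k12.resolve_left (by linarith [sq 9, sq 10, sq 11, sq 13, sq 14]) (a 13) (hvals 13 (by decide))
  rw [← e14, ← hq5] at k13
  have k9 := k13.resolve_left (by
    rintro ((hx | hx) | hx)
    · linarith [sq 9, sq 10, sq 11]
    · simp [show okV h 176 (a 14) = true from hok 14 (by decide)] at hx
    · simp [e11] at hx) (a 9) (hvals 9 (by decide))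
  have k10 := k9.resolve_left (by linarith [sq 10, sq 11]) (a 10) (hvals 10 (by decide))
  rw [show q5 / 5 - a 9 - a 10 = a 11 by omega] at k10
  have hl : ([1, a 1, a 2, 0, a 4, a 5, a 5, a 7, a 8, a 9, a 10, a 11, a 12, a 13, a 14] : List ℤ) =
      List.ofFn a := by
    rw [ofFn15, ha0, ha3, h6]
  rw [hl] at k10
  have hf : finalV h (List.ofFn a) = true := by
    refine k10.resolve_left ?_
    rintro (hx | hx)
    · linarith [sq 11]
    · rw [degL_eq, colTL_eq, dot_ofFn, dot_ofFn, o1, ot',
        show okV h 55 (a 11) = true from hok 11 (by decide)] at hx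
      simp at hx
      apply hx
      rw [← hhd] at hn
      linarith
  -- the class multiplication coefficient
  let av : IrrCharacter G → ℤ := fun χ => a ((Equiv.ofBijective K.ch K.bij).symm χ)
  let tv : IrrCharacter G → ℤ := fun χ => colT ((Equiv.ofBijective K.ch K.bij).symm χ)
  have htv : ∀ χ : IrrCharacter G, (χ : G → ℂ) K.t = tv χ := fun χ => by
    obtain ⟨i, rfl⟩ := K.bij.2 χ
    simp only [tv, Equiv.ofBijective_symm_apply_apply]; exact K.colt i
  have hav : ∀ χ : IrrCharacter G, (χ : G → ℂ) v = av χ := fun χ => by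
    obtain ⟨i, rfl⟩ := K.bij.2 χ
    simp only [av, Equiv.ofBijective_symm_apply_apply]; exact ha i
  have htr := triple_int (x := v) (y := K.t) (z := K.t) av tv tv hav htv htv
  simp only [K.toTab.hsum, av, tv, Equiv.ofBijective_symm_apply_apply, K.deg, hG, K.cn_t,
    Finset.mul_sum] at htr
  have hterm : ∀ i : Fin 15, (95040 : ℂ) * (((a i * colT i * colT i : ℤ) : ℂ) / (dv i : ℂ)) =
      ((colT i * colT i * (95040 / (dv i : ℤ)) * a i : ℤ) : ℂ) := by
    intro i
    have hd0 : (dv i : ℂ) ≠ 0 := Nat.cast_ne_zero.2 (dv_ne i)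
    have hm : ((95040 / (dv i : ℤ) : ℤ) : ℂ) * (dv i : ℂ) = 95040 := by
      have h := Int.ediv_mul_cancel (show (dv i : ℤ) ∣ 95040 by exact_mod_cast dv_dvd i)
      exact_mod_cast congrArg (Int.cast : ℤ → ℂ) h
    push_cast
    field_simp
    linear_combination -((a i : ℂ) * (colT i : ℂ) * (colT i : ℂ)) * hm
  rw [show ((95040 : ℕ) : ℂ) = (95040 : ℂ) by norm_num, Finset.sum_congr rfl fun i _ => hterm i,
    ← Int.cast_sum] at htr
  generalize {y' : G | IsConj K.t y' ∧ IsConj (v * y') K.t}.ncard = N at htr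
  have hN : numV (List.ofFn a) = (N : ℤ) * 36864 := by
    rw [numV_ofFn]
    apply Int.cast_injective (α := ℂ)
    rw [htr]
    push_cast
    ring
  simp only [finalV, Bool.or_eq_true, decide_eq_true_eq, bne_iff_ne, ne_eq, List.all_eq_true] at hf
  have hno := (hf.resolve_left (by rintro (hx | hx) <;> omega)) g hmem
  rcases hno with hx | hx
  · exact hx (Nat.mod_eq_zero_of_dvd hg2)
  -- the column at the element of order six
  have hbn := K.toTab.norm_int b hb
  rw [← hgd] at hbn
  have hotv1 : K.t * v ≠ 1 := ne_one_of_orderOf hotv (by norm_num)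
  have c1 := K.toTab.orth_deg hotv1 b hb
  have c2 := K.toTab.orth_int (hne_ord (by rw [hotv, K.P.ou]; norm_num)) b colU hb K.colu
  have c3 := K.toTab.orth_int (hne_ord (by rw [hotv, K.P.oz]; norm_num)) b colZ hb K.colz
  have c4 := K.toTab.orth_int (hne_ord (by rw [hotv, K.P.ow]; norm_num)) b colW hb K.colw
  have c5 := K.toTab.orth_int (hne_ord (by rw [hotv, K.ot]; norm_num)) b colT hb K.colt
  have c6 := K.toTab.orth_int (hne_ord (by rw [hotv, hv]; norm_num)) b a hb ha
  simp only [noTV, List.all_eq_true] at hx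
  have hin : List.ofFn b ∈ cands (g : ℤ) (candsTV (g : ℤ) (List.ofFn a)) := by
    refine mem_cands _ _ _ ?_ (by rw [dot_ofFn, hbn])
    have hb2 : ∀ i, b i ∈ ((List.range 31).map fun i => (i : ℤ) - 15).filter fun x =>
        decide (x * x ≤ (g : ℤ)) && (x - colT i) % 3 == 0 && (x - a i) % 2 == 0 := by
      intro i
      have hs : b i * b i ≤ (g : ℤ) :=
        hbn ▸ Finset.single_le_sum (f := fun i => b i * b i) (fun j _ => mul_self_nonneg _) (Finset.mem_univ i)
      have hg192 : (g : ℤ) ≤ 192 := by exact_mod_cast Nat.le_of_dvd (by norm_num) hg1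
      have hb1 : -13 ≤ b i ∧ b i ≤ 13 := by constructor <;> nlinarith
      have m3 := congr_int (p := 3) (K.ch i) (u := v) (v := K.t) hv3 hcv.symm (by rw [K.ot]; norm_num)
        (a := b i) (b := colT i) (by rw [← hc]; exact hb i) (K.colt i)
      have m2 := congr_int (p := 2) (K.ch i) (u := K.t) (v := v) ht2 hcv (by rw [hv]; norm_num)
        (a := b i) (b := a i) (hb i) (ha i)
      refine List.mem_filter.2 ⟨List.mem_map.2 ⟨_, List.mem_flatMap.2 ⟨(b i + 15).toNat, List.mem_range.2 ?_,
        List.mem_singleton.2 rfl⟩, ?_⟩, ?_⟩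
      · omega
      · simp; omega
      · simp only [Bool.and_eq_true, beq_iff_eq, decide_eq_true_eq]
        exact ⟨⟨hs, by omega⟩, by omega⟩
    rw [candsTV, colTL_eq, ofFn15, ofFn15, ofFn15]
    simp only [List.zipWith_cons_cons, List.zipWith_nil_left]
    repeat' constructor
    all_goals exact hb2 _
  have := hx _ hin
  rw [degL_eq, colUL_eq, colZL_eq, colWL_eq, colTL_eq] at this
  simp only [dot_ofFn, hbn, c1, c2, c3, c4, c5, c6, beq_self_eq_true, Bool.and_true, Bool.not_true,
    Bool.false_eq_true] at this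

end TabT

end Cfsg.Agent.Invol.M12Ord
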