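import Mathlib
import Cfsg.Prelude
import Cfsg.Agent.Lib.Invol.Order95040.Three
import Cfsg.Agent.Lib.Invol.Order95040.CoreShape
import Cfsg.Agent.Lib.Invol.Order95040.CentralShape
import Cfsg.Agent.S3344

/-!
Simple groups of order 95040: the centralizer of a central involution, and the identification.
-/

set_option autoImplicit false
set_option linter.style.haveILetI false
set_option linter.unusedSectionVars false

namespace Cfsg.Agent.Invol.M12Ord

open scoped ComplexConjugate
open Cfsg Cfsg.Agent.Block Cfsg.Agent.Char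

universe u

variable {G : Type u} [Group G] [Finite G]

theorem map_frattini_equiv {A B : Type*} [Group A] [Group B] [Finite A] [Finite B] (ψ : A ≃* B) :
    (frattini A).map ψ.toMonoidHom = frattini B := by
  refine le_antisymm (Subgroup.map_le_iff_le_comap.2
    (frattini_le_comap_frattini_of_surjective (φ := ψ.toMonoidHom) ψ.surjective)) fun y hy => ?_
  exact ⟨ψ.symm y, frattini_le_comap_frattini_of_surjective (φ := ψ.symm.toMonoidHom) ψ.symm.surjective hy,
    ψ.apply_symm_apply y⟩

theorem perm3_inv : ∀ a b : Equiv.Perm (Fin 3), a * a = 1 → a ≠ 1 → b * b * b = 1 → b ≠ 1 →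
    a * b * a = b⁻¹ := by decide

theorem perm3_count : (Finset.univ.filter fun a : Equiv.Perm (Fin 3) => a * a = 1 ∧ a ≠ 1).card = 3 := by
  decide

/-- At most eight elements of a group of order 32 are inverted by an involution inverting an element of
order three acting with only `t` as fixed point. -/
theorem twisted_card {C : Type u} [Group C] [Finite C] (Q : Subgroup C) [hQn : Q.Normal]
    (hQ : Nat.card Q = 32) {t v r q0 : C} (ht : ∀ g, g * t = t * g) (ht2 : t * t = 1)
    (hv3 : v * v * v = 1) (hfix : ∀ q ∈ Q, v * q * v⁻¹ = q → q = 1 ∨ q = t)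
    (hsqc : ∀ a ∈ Q, ∀ b ∈ Q, a * b * a⁻¹ = b ∨ a * b * a⁻¹ = b * t)
    (htQ : t ∈ Q) (hq0 : q0 ∈ Q) (hr : r * v * r⁻¹ = v⁻¹ * q0) :
    {q : C | q ∈ Q ∧ (r * q * r⁻¹ = q ∨ r * q * r⁻¹ = q * t)}.ncard ≤ 8 := by
  classical
  let F : Subgroup Q :=
    { carrier := {q | r * q * r⁻¹ = q ∨ r * q * r⁻¹ = (q : C) * t}
      one_mem' := Or.inl (by simp)
      mul_mem' := by
        rintro a b ha hb
        have e : r * ((a : C) * b) * r⁻¹ = (r * a * r⁻¹) * (r * b * r⁻¹) := by group
        show r * ((a * b : Q) : C) * r⁻¹ = _ ∨ r * ((a * b : Q) : C) * r⁻¹ = _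
        rw [Subgroup.coe_mul, e]
        rcases ha with ha | ha <;> rcases hb with hb | hb <;> rw [ha, hb]
        · exact Or.inl rfl
        · exact Or.inr (mul_assoc _ _ _).symm
        · exact Or.inr (by rw [mul_assoc, ← ht, ← mul_assoc])
        · exact Or.inl (by rw [mul_assoc, ← mul_assoc t, ← ht, mul_assoc (b : C), ht2, mul_one])
      inv_mem' := by
        rintro a ha
        have e : r * (a : C)⁻¹ * r⁻¹ = (r * a * r⁻¹)⁻¹ := by group
        show r * ((a⁻¹ : Q) : C) * r⁻¹ = _ ∨ r * ((a⁻¹ : Q) : C) * r⁻¹ = _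
        rw [Subgroup.coe_inv, e]
        rcases ha with ha | ha <;> rw [ha]
        · exact Or.inl rfl
        · exact Or.inr (by rw [mul_inv_rev, inv_eq_of_mul_eq_one_right ht2, ht]) }
  let σ : Q ≃* Q := MulAut.conjNormal v
  have hint : ∀ q : Q, q ∈ F ⊓ F.map σ.toMonoidHom → (q : C) = 1 ∨ (q : C) = t := by
    rintro q ⟨hq, p, hp, rfl⟩
    have e0 : ((σ p : Q) : C) = v * p * v⁻¹ := rfl
    have hk : r * (v * p * v⁻¹) * r⁻¹ = v⁻¹ * (q0 * (r * p * r⁻¹) * q0⁻¹) * v := by
      calc r * (v * p * v⁻¹) * r⁻¹ = (r * v * r⁻¹) * (r * p * r⁻¹) * (r * v * r⁻¹)⁻¹ := by group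
        _ = _ := by rw [hr]; group
    -- conjugation by `v⁻¹` and by `v` agree up to `t`
    obtain ⟨z, hz, hzz⟩ : ∃ z, (z = 1 ∨ z = t) ∧ v⁻¹ * p * v = v * p * v⁻¹ * z := by
      have hmul : ∀ a b : C, (a = 1 ∨ a = t) → (b = 1 ∨ b = t) → a * b = 1 ∨ a * b = t := by
        rintro a b (rfl | rfl) (rfl | rfl) <;> simp [ht2]
      obtain ⟨z1, hz1, e1⟩ : ∃ z, (z = 1 ∨ z = t) ∧ r * p * r⁻¹ = (p : C) * z := by
        rcases hp with h | h
        exacts [⟨1, Or.inl rfl, by rw [mul_one]; exact h⟩, ⟨t, Or.inr rfl, h⟩]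
      obtain ⟨z2, hz2, e2⟩ : ∃ z, (z = 1 ∨ z = t) ∧ q0 * p * q0⁻¹ = (p : C) * z := by
        rcases hsqc q0 hq0 p p.2 with h | h
        exacts [⟨1, Or.inl rfl, by rw [mul_one]; exact h⟩, ⟨t, Or.inr rfl, h⟩]
      obtain ⟨z3, hz3, e3⟩ : ∃ z, (z = 1 ∨ z = t) ∧ r * (v * p * v⁻¹) * r⁻¹ = v * p * v⁻¹ * z := by
        have hq' : r * ((σ p : Q) : C) * r⁻¹ = _ ∨ _ := hq
        rw [e0] at hq'
        rcases hq' with h | h
        exacts [⟨1, Or.inl rfl, by rw [mul_one]; exact h⟩, ⟨t, Or.inr rfl, h⟩]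
      have hcomm : ∀ z : C, (z = 1 ∨ z = t) → ∀ g, g * z = z * g := by
        rintro z (rfl | rfl) g
        · rw [mul_one, one_mul]
        · exact ht g
      have hzs : ∀ z : C, (z = 1 ∨ z = t) → z * z = 1 := by
        rintro z (rfl | rfl)
        exacts [one_mul 1, ht2]
      refine ⟨z3 * (z1 * z2), hmul _ _ hz3 (hmul _ _ hz1 hz2), ?_⟩
      rw [← mul_assoc (v * p * v⁻¹), ← e3, hk, e1]
      have e4 : q0 * ((p : C) * z1) * q0⁻¹ = p * (z1 * z2) := by
        rw [← mul_assoc q0, mul_assoc _ z1, ← hcomm z1 hz1 q0⁻¹, ← mul_assoc, e2, mul_assoc, hcomm z1 hz1]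
      have h12 := hmul z1 z2 hz1 hz2
      rw [e4]
      have hw := hzs _ h12
      have hwc := hcomm _ h12
      generalize z1 * z2 = w at hw hwc ⊢
      rw [show v⁻¹ * ((p : C) * w) * v * w = v⁻¹ * p * (w * v) * w by group, ← hwc v,
        show v⁻¹ * (p : C) * (v * w) * w = v⁻¹ * p * v * (w * w) by group, hw, mul_one]
    have hv2 : v * v = v⁻¹ := eq_inv_of_mul_eq_one_left hv3
    have hvi : v⁻¹ * v⁻¹ = v := by rw [← mul_inv_rev, hv2, inv_inv]
    have hzc : ∀ g, g * z = z * g := by
      rcases hz with rfl | rfl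
      · intro g; rw [mul_one, one_mul]
      · exact ht
    have h1 : v * p * v⁻¹ = (p : C) * z := by
      calc v * p * v⁻¹ = v⁻¹ * (v⁻¹ * p * v) * v := by
            rw [show v⁻¹ * (v⁻¹ * (p : C) * v) * v = (v⁻¹ * v⁻¹) * p * (v * v) by group, hvi, hv2]
        _ = v⁻¹ * (v * p * v⁻¹ * z) * v := by rw [hzz]
        _ = (p : C) * v⁻¹ * (z * v) := by group
        _ = _ := by rw [← hzc v]; group
    have h3 : z = 1 := by
      rcases hz with h | h
      · exact h
      have e : ∀ k : C, v * (k * z) * v⁻¹ = v * k * v⁻¹ * z := fun k => by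
        rw [mul_assoc (v * k), hzc v⁻¹]; group
      have h6 : v * (v * (v * p * v⁻¹) * v⁻¹) * v⁻¹ = (v * v * v) * p * (v * v * v)⁻¹ := by group
      rw [h1, e, h1, e, e, h1, hv3, one_mul, inv_one, mul_one] at h6
      rw [mul_assoc (p : C), mul_assoc (p : C), mul_eq_left, h, ht2, one_mul] at h6
      rw [h]; exact h6
    rw [h3, mul_one] at h1
    show v * p * v⁻¹ = 1 ∨ v * p * v⁻¹ = t
    rw [h1]
    exact hfix p p.2 h1
  have hinf : Nat.card (F ⊓ F.map σ.toMonoidHom : Subgroup Q) ≤ 2 := by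
    calc Nat.card (F ⊓ F.map σ.toMonoidHom : Subgroup Q) ≤ Nat.card ({1, t} : Set C) := by
          refine Nat.card_le_card_of_injective (fun q => ⟨(q.1 : C), ?_⟩) fun a b h => ?_
          · rcases hint q.1 q.2 with h | h <;> simp [h]
          · exact Subtype.ext (Subtype.ext (congrArg (fun x : ({1, t} : Set C) => (x : C)) h))
      _ ≤ 2 := by
          rw [Nat.card_coe_set_eq]
          exact (Set.ncard_insert_le _ _).trans (by rw [Set.ncard_singleton])
  have hle : {q : C | q ∈ Q ∧ (r * q * r⁻¹ = q ∨ r * q * r⁻¹ = q * t)}.ncard = Nat.card F := by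
    rw [← Nat.card_coe_set_eq]
    exact Nat.card_congr
      { toFun := fun q => ⟨⟨q.1, q.2.1⟩, q.2.2⟩
        invFun := fun q => ⟨q.1.1, q.1.2, q.2⟩
        left_inv := fun q => rfl
        right_inv := fun q => rfl }
  rw [hle]
  have hFidx := F.card_mul_index
  have hi := Subgroup.index_inf_le (H := F) (K := F.map σ.toMonoidHom)
  have hm : (F.map σ.toMonoidHom).index = F.index := Subgroup.index_map_of_bijective σ.bijective F
  have hI := (F ⊓ F.map σ.toMonoidHom : Subgroup Q).card_mul_index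
  rw [hQ] at hFidx hI
  rw [hm] at hi
  have h16 : 16 ≤ (F ⊓ F.map σ.toMonoidHom : Subgroup Q).index := by
    by_contra hlt
    have h := Nat.mul_le_mul hinf (show (F ⊓ F.map σ.toMonoidHom : Subgroup Q).index ≤ 15 by omega)
    omega
  by_contra hlt
  have hidx : F.index ≤ 3 := by
    by_contra h4
    have h := Nat.mul_le_mul (show 9 ≤ Nat.card F by omega) (show 4 ≤ F.index by omega)
    omega
  have := Nat.mul_le_mul hidx hidx
  omega

variable [IsSimpleGroup G]

namespace TabT

variable (K : TabT G)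

theorem conj_count (hG : Nat.card G = 95040) :
    {y : G | IsConj K.t y ∧ IsConj (K.t * y) K.t}.ncard = 30 := by
  classical
  have htr := triple_int (x := K.t) (y := K.t) (z := K.t)
    (fun χ => colT ((Equiv.ofBijective K.ch K.bij).symm χ))
    (fun χ => colT ((Equiv.ofBijective K.ch K.bij).symm χ))
    (fun χ => colT ((Equiv.ofBijective K.ch K.bij).symm χ))
    (fun χ => by obtain ⟨i, rfl⟩ := K.bij.2 χ; rw [Equiv.ofBijective_symm_apply_apply]; exact K.colt i)
    (fun χ => by obtain ⟨i, rfl⟩ := K.bij.2 χ; rw [Equiv.ofBijective_symm_apply_apply]; exact K.colt i)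
    (fun χ => by obtain ⟨i, rfl⟩ := K.bij.2 χ; rw [Equiv.ofBijective_symm_apply_apply]; exact K.colt i)
  simp only [K.toTab.hsum, Equiv.ofBijective_symm_apply_apply, K.deg, hG, K.cn_t] at htr
  generalize {y : G | IsConj K.t y ∧ IsConj (K.t * y) K.t}.ncard = n at htr
  rw [sum15] at htr
  simp [colT, dv] at htr
  have h : (n : ℂ) = ((30 : ℕ) : ℂ) := by
    push_cast
    linear_combination (-(1 : ℂ) / 36864) * htr
  exact_mod_cast h

include K in
/-- The identification, from the centralizer of a central involution. -/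
theorem identify (hG : Nat.card G = 95040) : Cfsg.Spor.IsoM12 G := by
  classical
  haveI : Fact (Nat.Prime 2) := ⟨Nat.prime_two⟩
  haveI : Fact (Nat.Prime 3) := ⟨Nat.prime_three⟩
  set C := Subgroup.centralizer ({K.t} : Set G) with hC
  have hC192 : Nat.card C = 192 := K.cn_t
  have ht2 : K.t * K.t = 1 := by rw [← pow_two, ← K.ot]; exact pow_orderOf_eq_one _
  have ht1 : K.t ≠ 1 := ne_one_of_orderOf K.ot (by norm_num)
  have hcom : ∀ g : C, (g : G) * K.t = K.t * g := fun g => Subgroup.mem_centralizer_singleton_iff.1 g.2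
  set τ : C := ⟨K.t, Subgroup.mem_centralizer_singleton_iff.2 rfl⟩ with hτ
  have hτc : ∀ g : C, g * τ = τ * g := fun g => Subtype.ext (hcom g)
  have hτ2 : τ * τ = 1 := Subtype.ext ht2
  have hτ1 : τ ≠ 1 := fun h => ht1 (congrArg Subtype.val h)
  -- centralizers of elements of order three in `C`
  have hcent : ∀ v : C, orderOf v = 3 → Nat.card (Subgroup.centralizer ({v} : Set C)) = 6 := by
    intro v hv
    have hov : orderOf (v : G) = 3 := by rw [Subgroup.orderOf_coe]; exact hv
    have h6 := K.six hG hov (hcom v).symm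
    have hle : (Subgroup.centralizer ({v} : Set C)).map C.subtype ≤ Subgroup.centralizer ({K.t * v} : Set G) := by
      rintro _ ⟨g, hg, rfl⟩
      rw [Subgroup.mem_centralizer_singleton_iff]
      exact ((show Commute (g : G) K.t from hcom g).mul_right
        (show Commute (g : G) v from congrArg Subtype.val (Subgroup.mem_centralizer_singleton_iff.1 hg))).eq
    have hd := Subgroup.card_dvd_of_le hle
    rw [Subgroup.card_map_of_injective (Subgroup.subtype_injective _)] at hd
    change _ ∣ cn (K.t * v) at hd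
    rw [h6] at hd
    refine Nat.dvd_antisymm hd ?_
    have ho : orderOf (τ * v) = 6 := by
      rw [(show Commute τ v from (hτc v).symm).orderOf_mul_eq_mul_orderOf_of_coprime
        (by rw [orderOf_eq_prime (by rw [pow_two, hτ2]) hτ1, hv]; norm_num),
        orderOf_eq_prime (by rw [pow_two, hτ2]) hτ1, hv]
    rw [← ho]
    exact Subgroup.orderOf_dvd_natCard _ (Subgroup.mem_centralizer_singleton_iff.2
      ((show Commute τ v from (hτc v).symm).mul_left (Commute.refl v)).eq)
  obtain ⟨f, hfs, hfk, hQ32⟩ := exists_map192 hC192 hcent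
  set Qc := Cfsg.pCore 2 C with hQc
  haveI : Qc.Normal := Cfsg.Agent.Grp.pCore_isNormal
  have hQp : IsPGroup 2 Qc := IsPGroup.of_card (n := 5) hQ32
  have hτQ : τ ∈ Qc := by
    have hn : (Subgroup.zpowers τ).Normal := ⟨fun a ha g => by
      rw [← IsOfFinOrder.mem_powers_iff_mem_zpowers (isOfFinOrder_of_finite _)] at ha
      obtain ⟨i, rfl⟩ := ha
      show g * τ ^ i * g⁻¹ ∈ _
      rw [((show Commute g τ from hτc g).pow_right i).eq, mul_inv_cancel_right]
      exact Subgroup.npow_mem_zpowers τ i⟩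
    exact Cfsg.Agent.Grp.le_pCore hn (IsPGroup.of_card (n := 1) (by
      rw [Nat.card_zpowers, orderOf_eq_prime (by rw [pow_two, hτ2]) hτ1, pow_one]))
      (Subgroup.mem_zpowers τ)
  obtain ⟨v, hv⟩ := exists_prime_orderOf_dvd_card' (G := C) 3 (by rw [hC192]; norm_num)
  have hv3 : v * v * v = 1 := by
    rw [← pow_two, ← pow_succ, show 2 + 1 = orderOf v by rw [hv]]; exact pow_orderOf_eq_one v
  have hfix : ∀ q ∈ Qc, v * q * v⁻¹ = q → q = 1 ∨ q = τ := by
    intro q hq hvq
    obtain ⟨j, hj⟩ := hQp ⟨q, hq⟩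
    have hq2 : orderOf q ∣ 2 ^ j := orderOf_dvd_of_pow_eq_one (congrArg Subtype.val hj)
    have hqc : q ∈ Subgroup.centralizer ({v} : Set C) :=
      Subgroup.mem_centralizer_singleton_iff.2 (mul_inv_eq_iff_eq_mul.1 hvq).symm
    have ho : orderOf (τ * v) = 6 := by
      rw [(show Commute τ v from (hτc v).symm).orderOf_mul_eq_mul_orderOf_of_coprime
        (by rw [orderOf_eq_prime (by rw [pow_two, hτ2]) hτ1, hv]; norm_num),
        orderOf_eq_prime (by rw [pow_two, hτ2]) hτ1, hv]
    have hgen : Subgroup.zpowers (τ * v) = Subgroup.centralizer ({v} : Set C) :=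
      Subgroup.eq_of_le_of_card_ge (Subgroup.zpowers_le.2 (Subgroup.mem_centralizer_singleton_iff.2
        ((show Commute τ v from (hτc v).symm).mul_left (Commute.refl v)).eq))
        (by rw [hcent v hv, Nat.card_zpowers, ho])
    rw [← hgen, ← IsOfFinOrder.mem_powers_iff_mem_zpowers (isOfFinOrder_of_finite _)] at hqc
    obtain ⟨i, rfl⟩ := hqc
    have hi6 : 6 ∣ i * 2 ^ j := ho ▸ orderOf_dvd_of_pow_eq_one (by
      rw [pow_mul]; exact orderOf_dvd_iff_pow_eq_one.1 hq2)
    have h3 : 3 ∣ i := (Nat.Coprime.pow_right j (by norm_num : Nat.Coprime 3 2)).dvd_of_dvd_mul_right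
      ((by norm_num : 3 ∣ 6).trans hi6)
    obtain ⟨k, rfl⟩ := h3
    show (τ * v) ^ (3 * k) = 1 ∨ (τ * v) ^ (3 * k) = τ
    rw [pow_mul, (show Commute τ v from (hτc v).symm).mul_pow, pow_three, pow_three, hτ2, ← mul_assoc v, hv3,
      mul_one, mul_one]
    rcases Nat.even_or_odd' k with ⟨l, rfl | rfl⟩
    · left; rw [pow_mul, pow_two, hτ2, one_pow]
    · right; rw [pow_succ, pow_mul, pow_two, hτ2, one_pow, one_mul]
  -- the core is extraspecial
  let α : IrrCharacter G := K.ch 7
  have hα : IsCharacter G (α : G → ℂ) := IsIrr.isCharacter α.2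
  let S : Shape Qc :=
    { τ := ⟨τ, hτQ⟩
      σ := MulAut.conjNormal v
      χ := fun q => (α : G → ℂ) ((q : C) : G)
      card := hQ32
      τ_ne := fun h => hτ1 (congrArg Subtype.val h)
      τ_sq := Subtype.ext hτ2
      τ_cen := Subgroup.mem_center_iff.2 fun q => Subtype.ext (hτc q)
      three := fun q => Subtype.ext (by
        rw [MulAut.conjNormal_apply, MulAut.conjNormal_apply, MulAut.conjNormal_apply,
          show v * (v * (v * (q : C) * v⁻¹) * v⁻¹) * v⁻¹ = v * v * v * q * (v * v * v)⁻¹ by group, hv3,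
          one_mul, inv_one, mul_one])
      fixed := fun q => by
        constructor
        · intro h
          have h' : v * (q : C) * v⁻¹ = q := congrArg Subtype.val h
          exact (hfix q q.2 h').imp (fun h => Subtype.ext h) fun h => Subtype.ext h
        · rintro (rfl | rfl)
          · exact map_one _
          · exact Subtype.ext (by rw [MulAut.conjNormal_apply]; exact mul_inv_eq_iff_eq_mul.2 (hτc v))
      char := IsChar.comp (C.subtype.comp Qc.subtype) hα
      chi_one := by
        show (α : G → ℂ) 1 = 11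
        rw [value_one, K.deg]
        simp [dv]
      chi_τ := by
        show (α : G → ℂ) K.t = 3
        rw [K.colt]
        simp [colT]
      chi_inv := fun z hz hz1 => by
        have ho : orderOf ((z : C) : G) = 2 := by
          rw [Subgroup.orderOf_coe, Subgroup.orderOf_coe]
          exact orderOf_eq_prime (by rw [pow_two, hz]) hz1
        rcases K.toTab.eleven_inv hG ho with ⟨-, h⟩ | ⟨-, h⟩
        · exact Or.inl h
        · exact Or.inr h
      chi_σ := fun q => IsClass.eq_of_isConj (IsIrr.classFun α.2) (isConj_iff.2 ⟨(v : G), rfl⟩).symm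
      chi_real := fun q => by
        show (α : G → ℂ) ((q : C) : G)⁻¹ = _
        rw [IsIrr.apply_inv α.2]
        exact K.real 7 (by decide) (by decide) _ }
  have hex : IsExtraspecial 2 Qc := S.extraspecial
  have hcen : ∀ g : Qc, g ∈ Subgroup.center Qc → (g : C) = 1 ∨ (g : C) = τ := fun g hg =>
    (S.center_eq g hg).imp (congrArg Subtype.val) (congrArg Subtype.val)
  have hsqc : ∀ a ∈ Qc, ∀ b ∈ Qc, a * b * a⁻¹ = b ∨ a * b * a⁻¹ = b * τ := by
    intro a ha b hb
    have hm : (⟨a, ha⟩ * ⟨b, hb⟩ * ⟨a, ha⟩⁻¹ * ⟨b, hb⟩⁻¹ : Qc) ∈ Subgroup.center Qc := by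
      rw [← hex.1.2.2]
      exact Subgroup.commutator_mem_commutator (Subgroup.mem_top _) (Subgroup.mem_top _)
    rcases hcen _ hm with h | h
    · left
      exact mul_inv_eq_one.1 (show a * b * a⁻¹ * b⁻¹ = 1 from h)
    · right
      rw [hτc b]
      exact mul_inv_eq_iff_eq_mul.1 (show a * b * a⁻¹ * b⁻¹ = τ from h)
  -- some other conjugate of `t` lies in the core
  have hnwc : ∃ y : C, y ∈ Qc ∧ IsConj K.t (y : G) ∧ y ≠ τ := by
    by_contra hne
    push Not at hne
    have hout : ∀ y : G, IsConj K.t y → IsConj (K.t * y) K.t →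
        ∃ c : C, (c : G) = y ∧ c * c = 1 ∧ c ∉ Qc := by
      intro y hy hty
      have ord2 : ∀ g : G, IsConj K.t g → g * g = 1 := fun g hg => by
        obtain ⟨k, hk⟩ := isConj_iff.1 hg
        rw [← hk, show k * K.t * k⁻¹ * (k * K.t * k⁻¹) = k * (K.t * K.t) * k⁻¹ by group, ht2, mul_one,
          mul_inv_cancel]
      have hyy := ord2 y hy
      have hty2 := ord2 _ hty.symm
      have hc : y * K.t = K.t * y := by
        calc y * K.t = (K.t * y)⁻¹ := by
              rw [mul_inv_rev, inv_eq_of_mul_eq_one_right ht2, inv_eq_of_mul_eq_one_right hyy]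
          _ = _ := inv_eq_of_mul_eq_one_right hty2
      refine ⟨⟨y, Subgroup.mem_centralizer_singleton_iff.2 hc⟩, rfl, Subtype.ext hyy, fun hmem => ?_⟩
      have e : y = K.t := congrArg Subtype.val (hne ⟨y, _⟩ hmem hy)
      rw [e, ht2] at hty
      exact ht1 (isConj_one_right.1 hty)
    have hcnt := K.conj_count hG
    -- the three outer cosets
    set T := Finset.univ.filter fun a : Equiv.Perm (Fin 3) => a * a = 1 ∧ a ≠ 1 with hT
    have hsub : {y : G | IsConj K.t y ∧ IsConj (K.t * y) K.t} ⊆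
        ⋃ a ∈ T, Subtype.val '' {c : C | f c = a ∧ c * c = 1} := by
      rintro y ⟨hy, hty⟩
      obtain ⟨c, rfl, hcc, hcQ⟩ := hout y hy hty
      refine Set.mem_iUnion₂.2 ⟨f c, ?_, c, ⟨rfl, hcc⟩, rfl⟩
      rw [hT, Finset.mem_filter]
      refine ⟨Finset.mem_univ _, by rw [← map_mul, hcc, map_one], fun h => hcQ ?_⟩
      rw [← hfk]; exact h
    have hfib : ∀ a ∈ T, (Subtype.val '' {c : C | f c = a ∧ c * c = 1}).ncard ≤ 8 := by
      intro a ha
      rw [hT, Finset.mem_filter] at ha
      rw [Set.ncard_image_of_injective _ Subtype.val_injective]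
      by_cases hemp : ({c : C | f c = a ∧ c * c = 1} : Set C).Nonempty
      swap
      · rw [Set.not_nonempty_iff_eq_empty.1 hemp]; simp
      obtain ⟨r, hra, hrr⟩ := hemp
      have hri : r⁻¹ = r := inv_eq_of_mul_eq_one_right hrr
      have hfv1 : f v ≠ 1 := fun h => by
        have hvQ : v ∈ Qc := hfk ▸ h
        obtain ⟨j, hj⟩ := hQp ⟨v, hvQ⟩
        have h3 : orderOf v ∣ 2 ^ j := orderOf_dvd_of_pow_eq_one (congrArg Subtype.val hj)
        rw [hv] at h3
        exact absurd (Nat.Prime.dvd_of_dvd_pow Nat.prime_three h3) (by norm_num)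
      have hkey := perm3_inv a (f v) ha.2.1 ha.2.2 (by rw [← map_mul, ← map_mul, hv3, map_one]) hfv1
      have hq0 : v * (r * v * r⁻¹) ∈ Qc := by
        rw [← hfk, MonoidHom.mem_ker, map_mul, map_mul, map_mul, hri, hra, hkey, mul_inv_cancel]
      refine le_trans ?_ (twisted_card (v := v) (r := r) Qc hQ32 hτc hτ2 hv3 hfix hsqc hτQ hq0 (by group))
      refine Set.ncard_le_ncard_of_injOn (fun c => c * r) ?_
        (fun c _ d _ h => mul_right_cancel h) (Set.toFinite _)
      rintro c ⟨hca, hcc⟩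
      have hmem : c * r ∈ Qc := by
        rw [← hfk, MonoidHom.mem_ker, map_mul, hca, hra, ha.2.1]
      refine ⟨hmem, ?_⟩
      have hinv : r * (c * r) * r⁻¹ = (c * r)⁻¹ := by
        rw [mul_inv_rev, inv_eq_of_mul_eq_one_right hcc, hri]
        simp [mul_assoc, hrr]
      rw [hinv]
      have hsq : (⟨c * r, hmem⟩ * ⟨c * r, hmem⟩ : Qc) ∈ Subgroup.center Qc := by
        rw [← hex.1.2.1, ← pow_two]
        exact Cfsg.Agent.Grp.pGroup_pow_mem_frattini hQp _
      rcases hcen _ hsq with h | h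
      · left
        exact inv_eq_of_mul_eq_one_right (show c * r * (c * r) = 1 from h)
      · right
        have h' : c * r * (c * r) = τ := h
        refine inv_eq_of_mul_eq_one_right ?_
        rw [← mul_assoc, h', hτ2]
    have h1 := Set.ncard_le_ncard hsub (Set.toFinite _)
    have h2 := (Finset.set_ncard_biUnion_le T fun a => Subtype.val '' {c : C | f c = a ∧ c * c = 1}).trans
      (Finset.sum_le_card_nsmul T _ 8 hfib)
    rw [perm3_count, smul_eq_mul] at h2
    omega
  obtain ⟨y, hyQ, hyc, hyne⟩ := hnwc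
  obtain ⟨g, hg⟩ := isConj_iff.1 hyc
  -- apply the recognition
  let emb : Qc ≃* (Qc.map C.subtype : Subgroup G) :=
    Qc.equivMapOfInjective C.subtype C.subtype_injective
  have hQex : IsExtraspecial 2 (Qc.map C.subtype : Subgroup G) := by
    obtain ⟨⟨h1, h2, h3⟩, h4⟩ := hex
    have hc : (Subgroup.center Qc).map emb.toMonoidHom = Subgroup.center (Qc.map C.subtype : Subgroup G) := by
      ext g
      rw [Subgroup.mem_map_equiv, Subgroup.mem_center_iff, Subgroup.mem_center_iff]
      constructor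
      · intro h k
        have := congrArg emb (h (emb.symm k))
        simpa using this
      · intro h k
        apply emb.injective
        simpa using h (emb k)
    refine ⟨⟨h1.of_equiv emb, ?_, ?_⟩, ?_⟩
    · rw [← hc, ← h2]
      exact (map_frattini_equiv emb).symm
    · rw [← hc, ← h3, commutator_def, commutator_def, Subgroup.map_commutator,
        Subgroup.map_top_of_surjective _ emb.surjective]
    · rw [← hc, Subgroup.card_map_of_injective emb.injective, h4]
  have hQcard : Nat.card (Qc.map C.subtype : Subgroup G) = 32 := by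
    rw [Subgroup.card_map_of_injective C.subtype_injective, hQ32]
  let e : C ⧸ Cfsg.pCore 2 C ≃* Equiv.Perm (Fin 3) :=
    (QuotientGroup.quotientMulEquivOfEq hfk.symm).trans (QuotientGroup.quotientKerEquivOfSurjective f hfs)
  let X : Sylow 3 C := Sylow.ofCard (Subgroup.zpowers v) (by
    rw [Nat.card_zpowers, hv, hC192, show (192 : ℕ) = 3 ^ 1 * 64 by norm_num,
      Nat.factorization_mul (by norm_num) (by norm_num), Finsupp.add_apply,
      Nat.Prime.factorization_pow Nat.prime_three, Finsupp.single_eq_same,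
      Nat.factorization_eq_zero_of_not_dvd (by norm_num : ¬ 3 ∣ 64), pow_one])
  have hCQX : Qc.map C.subtype ⊓ Subgroup.centralizer (((X : Subgroup C).map C.subtype : Subgroup G) : Set G) =
      Subgroup.zpowers K.t := by
    refine le_antisymm ?_ (Subgroup.zpowers_le.2 ⟨⟨τ, hτQ, rfl⟩, ?_⟩)
    · rintro x ⟨⟨q, hq, rfl⟩, hxc⟩
      have hvm : (v : G) ∈ (((X : Subgroup C).map C.subtype : Subgroup G) : Set G) :=
        ⟨v, Subgroup.mem_zpowers v, rfl⟩
      have hvq : v * q * v⁻¹ = q := mul_inv_eq_iff_eq_mul.2 (Subtype.ext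
        (Subgroup.mem_centralizer_iff.1 hxc _ hvm))
      rcases hfix q hq hvq with rfl | rfl
      · exact Subgroup.one_mem _
      · exact Subgroup.mem_zpowers _
    · show K.t ∈ Subgroup.centralizer _
      rw [Subgroup.mem_centralizer_iff]
      rintro _ ⟨x, -, rfl⟩
      exact hcom x
  have hres := Cfsg.Agent.S3344.result K.t K.ot C rfl (Qc.map C.subtype) rfl hQex hQcard e X hCQX
    ⟨g, hg ▸ ⟨y, hyQ, rfl⟩, fun h => hyne (Subtype.ext (hg.symm.trans h))⟩
  rcases hres with ⟨N, hN, -, -, hN8, -⟩ | ⟨⟨e8⟩⟩ | ⟨⟨e9⟩⟩ | h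
  · exfalso
    rcases hN.eq_bot_or_eq_top with h | h
    · rw [h, Subgroup.card_bot] at hN8; norm_num at hN8
    · rw [h, Subgroup.card_top, hG] at hN8; norm_num at hN8
  · exfalso
    have h := Nat.card_congr e8.toEquiv
    rw [hG, nat_card_alternatingGroup, Nat.card_fin] at h
    norm_num [Nat.factorial] at h
  · exfalso
    have h := Nat.card_congr e9.toEquiv
    rw [hG, nat_card_alternatingGroup, Nat.card_fin] at h
    norm_num [Nat.factorial] at h
  · exact h

end TabT

/-- Simple groups of order 95040 are Mathieu groups. -/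
theorem isoM12_of_card (hG : Nat.card G = 95040) : Cfsg.Spor.IsoM12 G := by
  obtain ⟨K⟩ := exists_tabT (G := G) hG
  exact K.identify hG

end Cfsg.Agent.Invol.M12Ord
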