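import Mathlib
import Cfsg.Agent.Lib.Invol.Order95040.Structure
import Cfsg.Agent.Lib.Grp.Coprime

/-!
Order 95040: the number of elements of order eleven determines simplicity.
-/

set_option autoImplicit false
set_option linter.style.haveILetI false
set_option linter.unusedSectionVars false

namespace Cfsg.Agent.Invol.M12Ord

open scoped Pointwise
open Cfsg Cfsg.Agent.Block Cfsg.Agent.Char

universe u

variable {G : Type u} [Group G] [Finite G]

/-- The number of elements of a given order. -/
noncomputable abbrev ocnt (G : Type u) [Group G] (n : ℕ) : ℕ := Nat.card {g : G // orderOf g = n}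

/-- With a self-centralising element of prime order `p`, the other counts are multiples of `p`. -/
theorem dvd_ocnt {p : ℕ} [Fact p.Prime] (hp : p ∣ Nat.card G)
    (hself : ∀ x g : G, orderOf x = p → g * x = x * g → g ∈ Subgroup.zpowers x) {n : ℕ} (hn1 : n ≠ 1)
    (hnp : n ≠ p) : p ∣ ocnt G n := by
  classical
  haveI := Fintype.ofFinite G
  rw [ocnt, Nat.card_eq_fintype_card, Fintype.card_subtype, Finset.card_eq_sum_card_image ConjClasses.mk]
  refine Finset.dvd_sum fun c hc => ?_
  obtain ⟨g, hg, rfl⟩ := Finset.mem_image.1 hc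
  simp only [Finset.mem_filter, Finset.mem_univ, true_and] at hg
  have hset : (Finset.univ.filter fun a : G => orderOf a = n).filter (fun a => ConjClasses.mk a = ConjClasses.mk g) =
      (Finset.univ.filter fun a : G => IsConj a g) := by
    ext a
    simp only [Finset.mem_filter, Finset.mem_univ, true_and, ConjClasses.mk_eq_mk_iff_isConj]
    refine ⟨fun h => h.2, fun h => ⟨?_, h⟩⟩
    obtain ⟨k, hk⟩ := isConj_iff.1 h
    rw [← hg, ← hk]
    exact ((MulAut.conj k).orderOf_eq a).symm
  rw [hset]
  have h := ncard_class g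
  rw [Set.ncard_eq_toFinset_card', Set.toFinset_setOf] at h
  have hd : p ∣ (Finset.univ.filter fun a : G => IsConj a g).card * cn g := by rwa [h]
  refine ((Nat.Prime.dvd_mul Fact.out).1 hd).resolve_right fun hpc => ?_
  obtain ⟨x, hx⟩ := exists_prime_orderOf_dvd_card' p hpc
  rw [← Subgroup.orderOf_coe] at hx
  have hmem := Subgroup.orderOf_dvd_natCard _
    (hself x g hx (Subgroup.mem_centralizer_singleton_iff.1 x.2).symm)
  rw [Nat.card_zpowers, hx, hg] at hmem
  rcases (Nat.dvd_prime Fact.out).1 hmem with e | e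
  exacts [hn1 e, hnp e]

/-- The elements of prime order and the Sylow subgroups of that order. -/
theorem ocnt_sylow {p : ℕ} [hp : Fact p.Prime] (h1 : (Nat.card G).factorization p = 1) :
    ocnt G p = Nat.card (Sylow p G) * (p - 1) := by
  classical
  have hP : ∀ P : Sylow p G, Nat.card (P : Subgroup G) = p := fun P => by
    rw [P.card_eq_multiplicity, h1, pow_one]
  let f : (Σ P : Sylow p G, {y : (P : Subgroup G) // y ≠ 1}) → {g : G // orderOf g = p} := fun s =>
    ⟨((s.2.1 : (s.1 : Subgroup G)) : G), by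
      rw [Subgroup.orderOf_coe]
      refine orderOf_eq_prime ?_ s.2.2
      have h := pow_card_eq_one' (x := s.2.1)
      rwa [hP] at h⟩
  have hz : ∀ (P : Sylow p G) (g : G), g ∈ (P : Subgroup G) → g ≠ 1 →
      (P : Subgroup G) = Subgroup.zpowers g := by
    intro P g hg hg1
    refine (Subgroup.eq_of_le_of_card_ge (Subgroup.zpowers_le.2 hg) ?_).symm
    rw [hP, Nat.card_zpowers]
    have hd := Subgroup.orderOf_dvd_natCard _ hg
    rw [hP] at hd
    rcases (Nat.dvd_prime hp.out).1 hd with e | e
    · exact absurd (orderOf_eq_one_iff.1 e) hg1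
    · exact e.ge
  have hf : Function.Bijective f := by
    refine ⟨?_, fun g => ?_⟩
    · rintro ⟨P, y, hy⟩ ⟨Q, z, hzne⟩ h
      have e : (y : G) = z := congrArg Subtype.val h
      have hy1 : (y : G) ≠ 1 := fun e1 => hy (Subtype.ext e1)
      have hPQ : P = Q := Sylow.ext ((hz P y y.2 hy1).trans (hz Q y (e ▸ z.2) hy1).symm)
      subst hPQ
      obtain rfl : y = z := Subtype.ext e
      rfl
    · obtain ⟨P, hP'⟩ := (IsPGroup.of_card (n := 1) (by rw [Nat.card_zpowers, g.2, pow_one]) :
        IsPGroup p (Subgroup.zpowers (g : G))).exists_le_sylow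
      refine ⟨⟨P, ⟨g, hP' (Subgroup.mem_zpowers _)⟩, fun e => ?_⟩, rfl⟩
      have h := g.2
      rw [show (g : G) = 1 from congrArg Subtype.val e, orderOf_one] at h
      exact hp.out.ne_one h.symm
  haveI := Fintype.ofFinite (Sylow p G)
  rw [ocnt, ← Nat.card_congr (Equiv.ofBijective f hf), Nat.card_sigma,
    Finset.sum_congr rfl (g := fun _ => p - 1) fun P _ => ?_, Finset.sum_const, Finset.card_univ,
    Nat.card_eq_fintype_card, smul_eq_mul]
  haveI := Fintype.ofFinite (P : Subgroup G)
  rw [Nat.card_eq_fintype_card, Fintype.card_subtype_compl, Fintype.card_subtype_eq,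
    ← Nat.card_eq_fintype_card, hP]

theorem fact_eleven : (95040 : ℕ).factorization 11 = 1 := by
  rw [show (95040 : ℕ) = 11 ^ 1 * 8640 by norm_num, Nat.factorization_mul (by norm_num) (by norm_num),
    Finsupp.add_apply, Nat.Prime.factorization_pow (by norm_num), Finsupp.single_eq_same,
    Nat.factorization_eq_zero_of_not_dvd (by norm_num : ¬ 11 ∣ 8640)]

section Simple

variable [IsSimpleGroup G]

/-- The counts in a simple group of this order. -/
theorem simple_counts (hG : Nat.card G = 95040) :
    ocnt G 11 = 17280 ∧ ∀ n, n ≠ 1 → n ≠ 11 → 11 ∣ ocnt G n := by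
  haveI : Fact (Nat.Prime 11) := ⟨by norm_num⟩
  obtain ⟨B⟩ := exists_blk (G := G) hG
  refine ⟨?_, fun n h1 h11 => dvd_ocnt (by rw [hG]; norm_num)
    (fun x g hx hc => SCP.mem_P_of_comm (SCP.hyp_of_ord B.hyp hx) hc) h1 h11⟩
  set P : Sylow 11 G := Sylow.ofCard (Subgroup.zpowers B.x) (by
    rw [Nat.card_zpowers, B.hyp.ord, hG, fact_eleven, pow_one]) with hP
  have hN : Nat.card (Subgroup.normalizer ((P : Subgroup G) : Set G)) = 55 := by
    have h := SCP.card_N B.hyp
    rw [B.he] at h
    exact h
  have hs := (Subgroup.normalizer ((P : Subgroup G) : Set G)).card_mul_index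
  rw [hN, hG, show (Subgroup.normalizer ((P : Subgroup G) : Set G)).index = Nat.card (Sylow 11 G) from
    P.card_eq_index_normalizer.symm] at hs
  rw [ocnt_sylow (by rw [hG, fact_eleven])]
  omega

end Simple

/-- A fixed-point-free action of an element of prime order. -/
theorem card_modEq_one {p : ℕ} [hp : Fact p.Prime] {x : G} (hx : orderOf x = p) (X : Subgroup G)
    (hn : x ∈ Subgroup.normalizer (X : Set G)) (hfix : ∀ y ∈ X, x * y = y * x → y = 1) :
    Nat.card X ≡ 1 [MOD p] := by
  classical
  have hle : Subgroup.zpowers x ≤ Subgroup.normalizer (X : Set G) := Subgroup.zpowers_le.2 hn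
  letI : MulAction (Subgroup.zpowers x) X :=
    MulAction.compHom X (X.normalizerMonoidHom.comp (Subgroup.inclusion hle))
  have hA : IsPGroup p (Subgroup.zpowers x) := IsPGroup.of_card (n := 1) (by rw [Nat.card_zpowers, hx, pow_one])
  have h := hA.card_modEq_card_fixedPoints X
  have e : MulAction.fixedPoints (Subgroup.zpowers x) X = {1} := by
    ext y
    simp only [MulAction.mem_fixedPoints, Set.mem_singleton_iff]
    refine ⟨fun hy => Subtype.ext (hfix y y.2 ?_), fun hy a => ?_⟩
    · have h2 : x * (y : G) * x⁻¹ = y := congrArg Subtype.val (hy ⟨x, Subgroup.mem_zpowers x⟩)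
      exact mul_inv_eq_iff_eq_mul.1 h2
    · subst hy
      exact map_one (X.normalizerMonoidHom (Subgroup.inclusion hle a))
  rw [e, Nat.card_coe_set_eq, Set.ncard_singleton] at h
  exact h

/-- No prime power dividing 8640 other than one is congruent to one modulo eleven. -/
theorem pow_small {q k : ℕ} (hq : q.Prime) (hd : q ^ k ∣ 8640) (hm : q ^ k ≡ 1 [MOD 11]) : k = 0 := by
  by_contra hk
  have hle : q ^ k ≤ 8640 := Nat.le_of_dvd (by norm_num) hd
  have hq8 : q ∣ 2 ^ 6 * (3 ^ 3 * 5) := (dvd_pow_self q hk).trans (by simpa using hd)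
  have hq5 : q = 2 ∨ q = 3 ∨ q = 5 := by
    rcases (Nat.Prime.dvd_mul hq).1 hq8 with h | h
    · exact Or.inl ((Nat.prime_dvd_prime_iff_eq hq Nat.prime_two).1 (hq.dvd_of_dvd_pow h))
    rcases (Nat.Prime.dvd_mul hq).1 h with h | h
    · exact Or.inr (Or.inl ((Nat.prime_dvd_prime_iff_eq hq Nat.prime_three).1 (hq.dvd_of_dvd_pow h)))
    · exact Or.inr (Or.inr ((Nat.prime_dvd_prime_iff_eq hq (by norm_num)).1 h))
  have hk14 : k < 14 := by
    by_contra h
    have h1 : 2 ^ 14 ≤ q ^ k := (Nat.pow_le_pow_left hq.two_le 14).trans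
      (Nat.pow_le_pow_right hq.pos (by omega))
    omega
  rcases hq5 with rfl | rfl | rfl <;> interval_cases k <;>
    first
    | omega
    | (norm_num at hd; done)
    | (norm_num [Nat.ModEq] at hm; done)

/-- Order 95040 and as many elements of order eleven as in the simple group. -/
theorem simple_of_count (hG : Nat.card G = 95040) (hc : ocnt G 11 = 17280) : IsSimpleGroup G := by
  classical
  haveI : Fact (Nat.Prime 11) := ⟨by norm_num⟩
  haveI : Nontrivial G := Finite.one_lt_card_iff_nontrivial.1 (by rw [hG]; norm_num)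
  have hn11 : Nat.card (Sylow 11 G) = 1728 := by
    rw [ocnt_sylow (by rw [hG, fact_eleven])] at hc
    omega
  obtain ⟨x, hx⟩ := exists_prime_orderOf_dvd_card' (G := G) 11 (by rw [hG]; norm_num)
  set P : Sylow 11 G := Sylow.ofCard (Subgroup.zpowers x) (by
    rw [Nat.card_zpowers, hx, hG, fact_eleven, pow_one]) with hP
  set N := Subgroup.normalizer ((Subgroup.zpowers x : Subgroup G) : Set G) with hNdef
  have hN : Nat.card N = 55 := by
    have h : Nat.card (Sylow 11 G) = N.index := P.card_eq_index_normalizer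
    have h2 := N.card_mul_index
    rw [← h, hn11, hG] at h2
    omega
  set C := Subgroup.centralizer ({x} : Set G) with hC
  have hCx : Subgroup.centralizer ((Subgroup.zpowers x : Subgroup G) : Set G) = C := by
    rw [Subgroup.zpowers_eq_closure, Subgroup.centralizer_closure]
  have hCN : C ≤ N := hCx ▸ Subgroup.centralizer_le_normalizer _
  have hxC : Subgroup.zpowers x ≤ C :=
    Subgroup.zpowers_le.2 (Subgroup.mem_centralizer_singleton_iff.2 rfl)
  -- the centralizer is the Sylow subgroup
  have hC11 : Nat.card C = 11 := by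
    have h1 : Nat.card C ∣ 55 := hN ▸ Subgroup.card_dvd_of_le hCN
    have h2 : 11 ∣ Nat.card C := by
      have h := Subgroup.card_dvd_of_le hxC
      rwa [Nat.card_zpowers, hx] at h
    have h3 : Nat.card C = 11 ∨ Nat.card C = 55 := by
      obtain ⟨k, hk⟩ := h2
      rw [hk] at h1
      have hk5 : k ∣ 5 := Nat.dvd_of_mul_dvd_mul_left (by norm_num) (h1.trans (by norm_num : 55 ∣ 11 * 5))
      rcases (Nat.dvd_prime (by norm_num)).1 hk5 with rfl | rfl <;> omega
    refine h3.resolve_right fun h55 => ?_
    have hNC : C = N := Subgroup.eq_of_le_of_card_ge hCN (by rw [hN, h55])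
    have hNC' : Subgroup.normalizer (P : Set G) ≤ Subgroup.centralizer (P : Set G) := by
      show N ≤ Subgroup.centralizer ((Subgroup.zpowers x : Subgroup G) : Set G)
      rw [hCx, hNC]
    set K := (MonoidHom.transferSylow P hNC').ker with hK
    have hK8 : Nat.card K = 8640 := by
      have h := (MonoidHom.ker_transferSylow_isComplement' P hNC').card_mul
      rw [show Nat.card (P : Subgroup G) = 11 by
        show Nat.card (Subgroup.zpowers x) = 11
        rw [Nat.card_zpowers, hx], hG, ← hK] at h
      omega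
    have hAK : Subgroup.zpowers x ≤ Subgroup.normalizer (K : Set G) := by
      rw [Subgroup.normalizer_eq_top]; exact le_top
    haveI : Fact (Nat.Prime 2) := ⟨Nat.prime_two⟩
    obtain ⟨S, hS, hSA⟩ := Grp.exists_invariant_sylow (Subgroup.zpowers x) K hAK
      (by rw [Nat.card_zpowers, hx, hK8]; norm_num)
      (Or.inl inferInstance) 2
    have hS64 : Nat.card S = 64 := by
      rw [hS.card, hK8, show (8640 : ℕ) = 2 ^ 6 * 135 by norm_num,
        Nat.factorization_mul (by norm_num) (by norm_num), Finsupp.add_apply,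
        Nat.Prime.factorization_pow Nat.prime_two, Finsupp.single_eq_same,
        Nat.factorization_eq_zero_of_not_dvd (by norm_num : ¬ 2 ∣ 135)]
      norm_num
    have h := card_modEq_one hx S (hSA (Subgroup.mem_zpowers x)) fun y hy hc => by
      have hyC : y ∈ C := Subgroup.mem_centralizer_singleton_iff.2 hc.symm
      have d1 := Subgroup.orderOf_dvd_natCard _ hy
      have d2 := Subgroup.orderOf_dvd_natCard _ hyC
      rw [hS64] at d1
      rw [h55] at d2
      exact orderOf_eq_one_iff.1 (Nat.eq_one_of_dvd_coprimes (by norm_num) d1 d2)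
    rw [hS64] at h
    exact absurd h (by decide)
  have hself : ∀ y : G, x * y = y * x → ¬ 11 ∣ orderOf y → y = 1 := by
    intro y hy h11
    have hd := Subgroup.orderOf_dvd_natCard C (Subgroup.mem_centralizer_singleton_iff.2 hy.symm)
    rw [hC11] at hd
    rcases (Nat.dvd_prime (by norm_num)).1 hd with e | e
    · exact orderOf_eq_one_iff.1 e
    · exact absurd (by rw [e]) h11
  -- normal subgroups of order prime to eleven are trivial
  have hbot : ∀ M : Subgroup G, M.Normal → ¬ 11 ∣ Nat.card M → M = ⊥ := by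
    intro M hM h11
    rw [← Subgroup.card_eq_one]
    by_contra hne
    obtain ⟨q, hq, hqd⟩ := Nat.exists_prime_and_dvd hne
    haveI : Fact q.Prime := ⟨hq⟩
    obtain ⟨S, hS, hSA⟩ := Grp.exists_invariant_sylow (Subgroup.zpowers x) M
      (by rw [Subgroup.normalizer_eq_top]; exact le_top)
      (by rw [Nat.card_zpowers, hx]; exact (Nat.Prime.coprime_iff_not_dvd (by norm_num)).2 h11)
      (Or.inl inferInstance) q
    have h := card_modEq_one hx S (hSA (Subgroup.mem_zpowers x)) fun y hy hc =>
      hself y hc fun hd => h11 (hd.trans (Subgroup.orderOf_dvd_natCard _ (hS.1 hy)))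
    rw [hS.card] at h
    have hd : q ^ (Nat.card M).factorization q ∣ 8640 := by
      have h1 : Nat.card M ∣ 11 * 8640 := by
        have := M.card_subgroup_dvd_card
        rwa [hG] at this
      exact (Nat.ordProj_dvd _ _).trans
        (((Nat.Prime.coprime_iff_not_dvd (by norm_num)).2 h11).symm.dvd_of_dvd_mul_left h1)
    have h0 := pow_small hq hd h
    exact absurd h0 (Nat.Prime.factorization_pos_of_dvd hq Nat.card_pos.ne' hqd).ne'
  refine ⟨fun M hM => ?_⟩
  by_cases h11 : 11 ∣ Nat.card M
  swap
  · exact Or.inl (hbot M hM h11)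
  right
  -- every element of order eleven lies in `M`
  have hmem : ∀ g : G, orderOf g = 11 → g ∈ M := by
    intro g hg
    obtain ⟨y, hy⟩ := exists_prime_orderOf_dvd_card' (G := M) 11 h11
    rw [← Subgroup.orderOf_coe] at hy
    let A : Sylow 11 G := Sylow.ofCard (Subgroup.zpowers (y : G)) (by
      rw [Nat.card_zpowers, hy, hG, fact_eleven, pow_one])
    let B : Sylow 11 G := Sylow.ofCard (Subgroup.zpowers g) (by
      rw [Nat.card_zpowers, hg, hG, fact_eleven, pow_one])
    obtain ⟨c, hc⟩ := MulAction.exists_smul_eq G A B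
    have hgB : g ∈ ((c • A : Sylow 11 G) : Subgroup G) := by rw [hc]; exact Subgroup.mem_zpowers g
    rw [Sylow.smul_def, Sylow.pointwise_smul_def] at hgB
    have hle : (Subgroup.zpowers (y : G)) ≤ M := Subgroup.zpowers_le.2 y.2
    obtain ⟨a, ha, rfl⟩ := Subgroup.mem_map.1 hgB
    exact hM.conj_mem a (hle ha) c
  have hcM : ocnt M 11 = 17280 := by
    rw [← hc]
    exact Nat.card_congr
      { toFun := fun g => ⟨(g.1 : G), by rw [Subgroup.orderOf_coe]; exact g.2⟩
        invFun := fun g => ⟨⟨g.1, hmem g.1 g.2⟩, by rw [← Subgroup.orderOf_coe]; exact g.2⟩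
        left_inv := fun g => rfl
        right_inv := fun g => rfl }
  have hMf : (Nat.card M).factorization 11 = 1 := by
    have h1 := (Nat.factorization_le_iff_dvd Nat.card_pos.ne' (by norm_num)).2
      (hG ▸ M.card_subgroup_dvd_card) 11
    rw [fact_eleven] at h1
    have h2 := Nat.Prime.factorization_pos_of_dvd (by norm_num : Nat.Prime 11) Nat.card_pos.ne' h11
    omega
  have hnM : Nat.card (Sylow 11 M) = 1728 := by
    rw [ocnt_sylow hMf] at hcM
    omega
  obtain ⟨Q⟩ : Nonempty (Sylow 11 M) := inferInstance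
  have hQ : Nat.card (Q : Subgroup M) = 11 := by rw [Q.card_eq_multiplicity, hMf, pow_one]
  have hNM := (Subgroup.normalizer ((Q : Subgroup M) : Set M)).card_mul_index
  rw [show (Subgroup.normalizer ((Q : Subgroup M) : Set M)).index = Nat.card (Sylow 11 M) from
    Q.card_eq_index_normalizer.symm, hnM] at hNM
  obtain ⟨k, hk⟩ : 11 ∣ Nat.card (Subgroup.normalizer ((Q : Subgroup M) : Set M)) :=
    by have h := Subgroup.card_dvd_of_le (Subgroup.le_normalizer (H := (Q : Subgroup M))); rwa [hQ] at h
  rw [hk] at hNM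
  have hk5 : k ∣ 5 := by
    have h := M.card_subgroup_dvd_card
    rw [← hNM, hG, show 11 * k * 1728 = 19008 * k by ring] at h
    exact Nat.dvd_of_mul_dvd_mul_left (by norm_num) (h.trans (by norm_num : 95040 ∣ 19008 * 5))
  rcases (Nat.dvd_prime (by norm_num)).1 hk5 with rfl | rfl
  swap
  · exact Subgroup.eq_top_of_card_eq _ (by rw [hG]; omega)
  exfalso
  -- a normal complement would be trivial
  have hQN : (Q : Subgroup M) = Subgroup.normalizer ((Q : Subgroup M) : Set M) :=
    Subgroup.eq_of_le_of_card_ge Subgroup.le_normalizer (by rw [hk, hQ])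
  have hNC : Subgroup.normalizer (Q : Set M) ≤ Subgroup.centralizer (Q : Set M) := by
    intro a ha
    haveI : IsCyclic (Q : Subgroup M) := isCyclic_of_prime_card hQ
    have haQ : a ∈ (Q : Subgroup M) := hQN ▸ ha
    refine Subgroup.mem_centralizer_iff.2 fun b hb => ?_
    exact congrArg Subtype.val ((IsCyclic.commGroup (α := (Q : Subgroup M))).mul_comm ⟨b, hb⟩ ⟨a, haQ⟩)
  set L := (MonoidHom.transferSylow Q hNC).ker with hL
  have hL1 : Nat.card L = 1728 := by
    have h := (MonoidHom.ker_transferSylow_isComplement' Q hNC).card_mul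
    rw [hQ, ← hNM, ← hL] at h
    omega
  have hchar : ∀ a : M, ¬ 11 ∣ orderOf a → a ∈ L := by
    intro a ha
    have hd : orderOf (MonoidHom.transferSylow Q hNC a) ∣ 11 := by
      have h := orderOf_dvd_natCard (MonoidHom.transferSylow Q hNC a)
      rwa [hQ] at h
    rcases (Nat.dvd_prime (by norm_num)).1 hd with e | e
    · exact orderOf_eq_one_iff.1 e
    · exact absurd (e ▸ orderOf_map_dvd _ a) ha
  have hLn : (L.map M.subtype).Normal := by
    refine ⟨fun a ha g => ?_⟩
    obtain ⟨a, ha', rfl⟩ := ha
    refine ⟨⟨g * a * g⁻¹, hM.conj_mem _ a.2 g⟩, hchar _ fun hd => ?_, rfl⟩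
    rw [← Subgroup.orderOf_coe] at hd
    replace hd : 11 ∣ orderOf ((MulAut.conj g) (a : G)) := hd
    rw [MulEquiv.orderOf_eq, Subgroup.orderOf_coe] at hd
    have h1 := hd.trans (Subgroup.orderOf_dvd_natCard _ ha')
    rw [hL1] at h1
    norm_num at h1
  have hb := hbot _ hLn (by rw [Subgroup.card_map_of_injective M.subtype_injective, hL1]; norm_num)
  rw [← Subgroup.card_eq_one, Subgroup.card_map_of_injective M.subtype_injective, hL1] at hb
  norm_num at hb

end Cfsg.Agent.Invol.M12Ord
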