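import Cfsg.Agent.Lib.Invol.Order95040.SmallFactor
import Cfsg.Agent.Lib.Invol.Order95040.SameCounts
import Cfsg.Agent.Lib.Invol.Order95040.Structure
import Cfsg.Agent.Lib.Invol.Order7920Local
import Cfsg.Agent.Lib.Invol.Order7920Unique
import Cfsg.Agent.Lib.Invol.Order7920Nse
import Cfsg.Agent.Lib.Fus.MathieuTwoGroups
import Cfsg.Agent.Lib.Char.ExtendMain
import Cfsg.Agent.Lib.Char.CohDescent
import Cfsg.Agent.Lib.Block.ThreeDeg.Main
import Cfsg.Agent.Lib.Classical.DicksonSmall
import Cfsg.Agent.S2034
import Cfsg.Agent.S2060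

/-!
A group of order 95040 with character degrees divisible by 55 and by 33 is the Mathieu group
of degree twelve or the product of the alternating group of degree four and the one of degree eleven.
-/

set_option autoImplicit false
set_option linter.style.haveILetI false
set_option linter.unusedSectionVars false

namespace Cfsg.Agent.Invol.M12Ord

open scoped ComplexConjugate commutatorElement
open Cfsg Cfsg.Agent.Block Cfsg.Agent.Char

universe u v

section Product

variable {A E : Type u} [Group A] [Group E] [Fintype A] [Fintype E]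

/-- An irreducible character of the product with an abelian group stays irreducible on the other factor. -/
theorem irr_res_abelian (hA : ∀ a b : A, a * b = b * a) {ψ : A × E → ℂ} (hψ : IsIrrCharacter (A × E) ψ) :
    IsIrrCharacter E (fun y => ψ ((1 : A), y)) := by
  classical
  refine IsChar.irr_of_norm_one (IsChar.comp (MonoidHom.inr A E) (IsIrr.isCharacter hψ)) ?_
  show classInner (fun y => ψ ((1 : A), y)) (fun y => ψ ((1 : A), y)) = 1
  have h := classInner_self_irr hψ
  have hcol : ∀ (a : A) (y : E), ψ (a, y) * conj (ψ (a, y)) = ψ (1, y) * conj (ψ (1, y)) := by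
    intro a y
    obtain ⟨c, hc, hmul⟩ := IsIrr.exists_scalar hψ (z := (a, (1 : E))) fun g => by
      congr 1
      refine Prod.ext ?_ ?_
      · show a * g.1 * a⁻¹ * g.1⁻¹ = 1
        rw [hA a g.1, mul_inv_cancel_right, mul_inv_cancel]
      · show (1 : E) * g.2 * 1⁻¹ * g.2⁻¹ = 1
        group
    have h1 := hmul (1, y)
    rw [show ((a, (1 : E)) * (1, y) : A × E) = (a, y) by ext <;> simp] at h1
    rw [h1, Complex.mul_conj, Complex.mul_conj, Complex.normSq_mul, Complex.normSq_eq_norm_sq, hc,
      one_pow, one_mul]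
  simp only [classInner, Fintype.sum_prod_type, Nat.card_prod, Nat.cast_mul] at h
  rw [Finset.sum_congr rfl fun a _ => Finset.sum_congr rfl fun y _ => hcol a y, Finset.sum_const,
    Finset.card_univ, ← Nat.card_eq_fintype_card, nsmul_eq_mul] at h
  rw [classInner, ← h]
  have hA0 : (Nat.card A : ℂ) ≠ 0 := Nat.cast_ne_zero.2 Nat.card_pos.ne'
  field_simp

end Product

/-- The degrees of a simple group of order 7920. -/
theorem deg_7920 {E : Type u} [Group E] [Finite E] [IsSimpleGroup E] (hE : Nat.card E = 7920)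
    (θ : IrrCharacter E) : charDegree (θ : E → ℂ) ∈ ([1, 10, 11, 16, 44, 45, 55] : List ℕ) := by
  classical
  have h := (Invol.M11Ord.card_and_degrees hE).2 (charDegree (θ : E → ℂ))
  have hpos : 0 < Nat.card {χ : IrrCharacter E // charDegree (χ : E → ℂ) = charDegree (θ : E → ℂ)} := by
    haveI : Nonempty {χ : IrrCharacter E // charDegree (χ : E → ℂ) = charDegree (θ : E → ℂ)} := ⟨⟨θ, rfl⟩⟩
    exact Nat.card_pos
  rw [h] at hpos
  simp only [List.mem_cons, List.not_mem_nil, or_false]
  split_ifs at hpos with h1 h2 h3 <;> omega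

/-- A product with a group of order twelve having a normal subgroup of order three has no degree divisible by 33. -/
theorem no_thirty_three {C E : Type u} [Group C] [Finite C] [Group E] [Finite E] [IsSimpleGroup E]
    (hC : Nat.card C = 12) (hE : Nat.card E = 7920) (P : Subgroup C) [P.Normal] (hP : Nat.card P = 3)
    (χ : IrrCharacter (C × E)) : ¬ 33 ∣ charDegree (χ : C × E → ℂ) := by
  classical
  haveI := Fintype.ofFinite C
  haveI := Fintype.ofFinite E
  haveI : Fact (Nat.Prime 3) := ⟨Nat.prime_three⟩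
  set N : Subgroup (C × E) := P.prod ⊤ with hN
  haveI : N.Normal := by rw [hN]; infer_instance
  haveI := Fintype.ofFinite N
  haveI := Fintype.ofFinite P
  obtain ⟨ψ, hψ⟩ := exists_constituent_res N χ
  obtain ⟨e, he, hed⟩ := Ext.ratio_dvd_index' χ.2 ψ.2 hψ
  have hidx : N.index = 4 := by
    have h1 := P.card_mul_index
    rw [hP, hC] at h1
    rw [hN, Subgroup.index_prod, Subgroup.index_top, mul_one]
    omega
  rw [hidx] at hed
  let i : P × E ≃* N :=
    ((MulEquiv.refl P).prodCongr Subgroup.topEquiv.symm).trans (P.prodEquiv ⊤).symm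
  have hψ' : IsIrrCharacter (P × E) (fun q => (ψ : N → ℂ) (i q)) := IsIrr.comp_mulEquiv i ψ.2
  haveI : IsCyclic P := isCyclic_of_prime_card hP
  have hθ := irr_res_abelian (fun a b : P => mul_comm' a b) hψ'
  have hdeg := deg_7920 hE (⟨_, hθ⟩ : IrrCharacter E)
  have h1 : charDegree (fun y : E => (ψ : N → ℂ) (i (1, y))) = charDegree (ψ : N → ℂ) := by
    simp only [charDegree]
    rw [show i ((1 : P), (1 : E)) = 1 from map_one i]
  rw [h1] at hdeg
  have hχd : charDegree (χ : C × E → ℂ) = e * charDegree (ψ : N → ℂ) := by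
    refine Char.PIto.charDeg_eq ?_
    rw [he, charDeg_spec']
    push_cast
    rfl
  rw [hχd]
  have he4 : e ≤ 4 := Nat.le_of_dvd (by norm_num) hed
  simp only [List.mem_cons, List.not_mem_nil, or_false] at hdeg
  intro h33
  rcases hdeg with h | h | h | h | h | h | h <;> rw [h] at h33 <;> interval_cases e <;>
    first | (norm_num at hed; done) | (norm_num at h33; done)

/-- A group of order twelve without normal subgroup of order three. -/
theorem four_of_no_normal {C : Type u} [Group C] [Finite C] (hC : Nat.card C = 12)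
    (h : ∀ P : Subgroup C, P.Normal → Nat.card P ≠ 3) : Nonempty (C ≃* alternatingGroup (Fin 4)) := by
  haveI : Fact (Nat.Prime 3) := ⟨Nat.prime_three⟩
  obtain ⟨P⟩ : Nonempty (Sylow 3 C) := inferInstance
  have hP : Nat.card (P : Subgroup C) = 3 := by
    rw [P.card_eq_multiplicity, hC, show (12 : ℕ) = 3 ^ 1 * 4 by norm_num,
      Nat.factorization_mul (by norm_num) (by norm_num), Finsupp.add_apply,
      Nat.Prime.factorization_pow Nat.prime_three, Finsupp.single_eq_same,
      Nat.factorization_eq_zero_of_not_dvd (by norm_num : ¬ 3 ∣ 4)]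
    norm_num
  refine Dickson.nonempty_alternating_four hC (P : Subgroup C) hP ?_
  refine (Subgroup.eq_of_le_of_card_ge Subgroup.le_normalizer ?_).symm
  set N := Subgroup.normalizer ((P : Subgroup C) : Set C) with hN
  have hn := card_sylow_modEq_one 3 C
  rw [P.card_eq_index_normalizer, Nat.ModEq] at hn
  have hne : N.index ≠ 1 := fun e => by
    rw [Subgroup.index_eq_one] at e
    exact h _ (Subgroup.normalizer_eq_top_iff.1 e) hP
  have h3 : 3 ∣ Nat.card N := hP ▸ Subgroup.card_dvd_of_le Subgroup.le_normalizer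
  obtain ⟨k, hk⟩ := h3
  have hm := N.card_mul_index
  rw [hk, hC] at hm
  have hki : k * N.index = 4 := by nlinarith
  have hi4 : N.index ≤ 4 := Nat.le_of_dvd (by norm_num) ⟨k, by rw [mul_comm]; exact hki.symm⟩
  rw [hk, hP]
  generalize N.index = i at hn hne hki hi4
  interval_cases i <;> omega

variable {G : Type u} [Group G] [Finite G]

/-- An element of order eleven centralizes every subgroup of order prime to eleven that it normalizes. -/
theorem centralizes (hG : Nat.card G = 95040) {x : G} (hx : orderOf x = 11) (X : Subgroup G)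
    (hn : x ∈ Subgroup.normalizer (X : Set G)) (h11 : ¬ 11 ∣ Nat.card X) :
    X ≤ Subgroup.centralizer ({x} : Set G) := by
  classical
  haveI : Fact (Nat.Prime 11) := ⟨by norm_num⟩
  set C := Subgroup.centralizer ({x} : Set G) with hC
  have hXd : Nat.card X ∣ 8640 := by
    have h1 : Nat.card X ∣ 11 * 8640 := by
      have := X.card_subgroup_dvd_card
      rwa [hG] at this
    exact ((Nat.Prime.coprime_iff_not_dvd (by norm_num)).2 h11).symm.dvd_of_dvd_mul_left h1
  have key : ∀ q : ℕ, q.Prime → q ^ (Nat.card X).factorization q ∣ Nat.card (X ⊓ C : Subgroup G) := by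
    intro q hq
    haveI : Fact q.Prime := ⟨hq⟩
    have hle : Subgroup.zpowers x ≤ Subgroup.normalizer (X : Set G) := Subgroup.zpowers_le.2 hn
    obtain ⟨S, hS, hSA⟩ := Grp.exists_invariant_sylow (Subgroup.zpowers x) X hle
      (by rw [Nat.card_zpowers, hx]; exact (Nat.Prime.coprime_iff_not_dvd (by norm_num)).2 h11)
      (Or.inl inferInstance) q
    set k := (Nat.card X).factorization q with hk
    have hSc : Nat.card S = q ^ k := hS.card
    letI : MulAction (Subgroup.zpowers x) S :=
      MulAction.compHom S (S.normalizerMonoidHom.comp (Subgroup.inclusion hSA))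
    have hA : IsPGroup 11 (Subgroup.zpowers x) :=
      IsPGroup.of_card (n := 1) (by rw [Nat.card_zpowers, hx, pow_one])
    have h := hA.card_modEq_card_fixedPoints S
    have hfix : Nat.card (MulAction.fixedPoints (Subgroup.zpowers x) S) = Nat.card (S ⊓ C : Subgroup G) := by
      refine Nat.card_congr
        { toFun := fun y => ⟨(y.1 : G), y.1.2, ?_⟩
          invFun := fun y => ⟨⟨y.1, y.2.1⟩, ?_⟩
          left_inv := fun y => rfl
          right_inv := fun y => rfl }
      · have h2 : x * (y.1 : G) * x⁻¹ = y.1 := congrArg Subtype.val (y.2 ⟨x, Subgroup.mem_zpowers x⟩)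
        exact Subgroup.mem_centralizer_singleton_iff.2 (mul_inv_eq_iff_eq_mul.1 h2).symm
      · intro a
        obtain ⟨i, hi⟩ := Subgroup.mem_zpowers_iff.1 a.2
        refine Subtype.ext ?_
        show (a : G) * (y : G) * (a : G)⁻¹ = (y : G)
        have hc : Commute x (y : G) := (Subgroup.mem_centralizer_singleton_iff.1 y.2.2).symm
        rw [← hi, (hc.zpow_left i).eq, mul_inv_cancel_right]
    rw [hfix, hSc] at h
    have hdvd : Nat.card (S ⊓ C : Subgroup G) ∣ q ^ k := hSc ▸ Subgroup.card_dvd_of_le inf_le_left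
    obtain ⟨j, hj, hj'⟩ := (Nat.dvd_prime_pow hq).1 hdvd
    rw [hj'] at h
    have hkd : q ^ k ∣ 8640 := (Nat.ordProj_dvd _ _).trans hXd
    have hjk : k - j = 0 := by
      rcases Nat.eq_zero_or_pos k with h0 | h0
      · omega
      refine pow_small hq ((pow_dvd_pow q (Nat.sub_le k j)).trans hkd) ?_
      refine Nat.ModEq.cancel_right_of_coprime (c := q ^ j) ?_ ?_
      · refine Nat.Coprime.pow_right j ((Nat.coprime_primes (by norm_num) hq).2 fun e => ?_)
        exact absurd ((dvd_pow (dvd_of_eq e) h0.ne').trans hkd) (by norm_num)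
      · rw [← pow_add, Nat.sub_add_cancel hj, one_mul]
        exact h
    have hkj : k = j := by omega
    rw [hkj, ← hj']
    exact Subgroup.card_dvd_of_le (inf_le_inf_right C hS.1)
  have hdvd : Nat.card X ∣ Nat.card (X ⊓ C : Subgroup G) := by
    refine (Nat.factorization_le_iff_dvd Nat.card_pos.ne' Nat.card_pos.ne').1 fun q => ?_
    by_cases hq : q.Prime
    · exact (hq.pow_dvd_iff_le_factorization Nat.card_pos.ne').1 (key q hq)
    · rw [Nat.factorization_eq_zero_of_not_prime _ hq]
      exact Nat.zero_le _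
  exact (Subgroup.eq_of_le_of_card_ge inf_le_left (Nat.le_of_dvd Nat.card_pos hdvd)).ge.trans inf_le_right

/-- The subgroup generated by the elements of order eleven. -/
def elevenGen (G : Type u) [Group G] : Subgroup G := Subgroup.closure {g : G | orderOf g = 11}

theorem elevenGen_normal : (elevenGen G).Normal := by
  refine ⟨fun n hn g => ?_⟩
  have hle : elevenGen G ≤ (elevenGen G).comap (MulAut.conj g).toMonoidHom := by
    refine (Subgroup.closure_le _).2 fun y hy => ?_
    show MulAut.conj g y ∈ elevenGen G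
    refine Subgroup.subset_closure ?_
    show orderOf (MulAut.conj g y) = 11
    rw [MulEquiv.orderOf_eq]
    exact hy
  exact hle hn

/-- A normal subgroup of the subgroup generated by the elements of order eleven is everything or central. -/
theorem normal_dichotomy (hG : Nat.card G = 95040) (T : Subgroup (elevenGen G)) [T.Normal] :
    T = ⊤ ∨ T ≤ Subgroup.center (elevenGen G) := by
  classical
  haveI : Fact (Nat.Prime 11) := ⟨by norm_num⟩
  by_cases h11 : 11 ∣ Nat.card T
  · left
    obtain ⟨y, hy⟩ := exists_prime_orderOf_dvd_card' (G := T) 11 h11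
    rw [← Subgroup.orderOf_coe] at hy
    have hfac : (Nat.card (elevenGen G)).factorization 11 = 1 := by
      refine le_antisymm ?_ (Nat.Prime.factorization_pos_of_dvd Fact.out Nat.card_pos.ne'
        (h11.trans T.card_subgroup_dvd_card))
      rw [← fact_eleven, ← hG]
      exact (Nat.factorization_le_iff_dvd Nat.card_pos.ne' Nat.card_pos.ne').2 (elevenGen G).card_subgroup_dvd_card 11
    have hall : ∀ g : (elevenGen G), orderOf g = 11 → g ∈ T := by
      intro g hg
      let A : Sylow 11 (elevenGen G) := Sylow.ofCard (Subgroup.zpowers (y : (elevenGen G))) (by rw [Nat.card_zpowers, hy, hfac, pow_one])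
      let B : Sylow 11 (elevenGen G) := Sylow.ofCard (Subgroup.zpowers g) (by rw [Nat.card_zpowers, hg, hfac, pow_one])
      obtain ⟨c, hc⟩ := MulAction.exists_smul_eq (elevenGen G) A B
      have hgB : g ∈ ((c • A : Sylow 11 (elevenGen G)) : Subgroup (elevenGen G)) := by rw [hc]; exact Subgroup.mem_zpowers g
      rw [Sylow.smul_def, Sylow.pointwise_smul_def] at hgB
      have hle : (Subgroup.zpowers (y : (elevenGen G))) ≤ T := Subgroup.zpowers_le.2 y.2
      obtain ⟨a, ha, rfl⟩ := Subgroup.mem_map.1 hgB
      exact Subgroup.Normal.conj_mem inferInstance a (hle ha) c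
    rw [eq_top_iff]
    rintro ⟨g, hg⟩ -
    have hle : (elevenGen G) ≤ T.map (elevenGen G).subtype := (Subgroup.closure_le _).2 fun z hz =>
      ⟨⟨z, Subgroup.subset_closure hz⟩, hall _ (by rw [← Subgroup.orderOf_coe]; exact hz), rfl⟩
    obtain ⟨a, ha, hag⟩ := hle hg
    rwa [show (⟨g, hg⟩ : (elevenGen G)) = a from Subtype.ext hag.symm]
  · right
    intro t ht
    rw [Subgroup.mem_center_iff]
    have hle : (elevenGen G) ≤ Subgroup.centralizer ({(t : G)} : Set G) := by
      refine (Subgroup.closure_le _).2 fun z hz => ?_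
      have hzE : z ∈ (elevenGen G) := Subgroup.subset_closure hz
      have h1 := centralizes hG hz (T.map (elevenGen G).subtype) (by
        refine Subgroup.mem_normalizer_iff.2 fun m => ⟨?_, ?_⟩
        · rintro ⟨a, ha, rfl⟩
          exact ⟨⟨z, hzE⟩ * a * ⟨z, hzE⟩⁻¹, Subgroup.Normal.conj_mem inferInstance a ha _, rfl⟩
        · rintro ⟨a, ha, hae⟩
          refine ⟨⟨z, hzE⟩⁻¹ * a * ⟨z, hzE⟩⁻¹⁻¹, Subgroup.Normal.conj_mem inferInstance a ha _, ?_⟩
          show z⁻¹ * (a : G) * z⁻¹⁻¹ = m
          rw [show (a : G) = z * m * z⁻¹ from hae]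
          group) (by rwa [Subgroup.card_map_of_injective (elevenGen G).subtype_injective])
      have h2 := Subgroup.mem_centralizer_singleton_iff.1 (h1 ⟨t, ht, rfl⟩)
      exact Subgroup.mem_centralizer_singleton_iff.2 h2.symm
    intro g
    exact Subtype.ext (Subgroup.mem_centralizer_singleton_iff.1 (hle g.2))

/-- The identification. -/
theorem main (hG : Nat.card G = 95040) (h55 : ∃ χ : IrrCharacter G, 55 ∣ charDegree (χ : G → ℂ))
    (h33 : ∃ χ : IrrCharacter G, 33 ∣ charDegree (χ : G → ℂ)) :
    Nonempty (G ≃* ↥Cfsg.Spor.M12) ∨ Nonempty (G ≃* alternatingGroup (Fin 4) × ↥Cfsg.Spor.M11) := by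
  classical
  haveI : Fact (Nat.Prime 11) := ⟨by norm_num⟩
  haveI := Fintype.ofFinite G
  set E := elevenGen G with hE
  haveI : E.Normal := elevenGen_normal
  haveI := Fintype.ofFinite E
  obtain ⟨x, hx⟩ := exists_prime_orderOf_dvd_card' (G := G) 11 (by rw [hG]; norm_num)
  have hxE : x ∈ E := Subgroup.subset_closure hx
  have hEd : Nat.card E ∣ 95040 := hG ▸ E.card_subgroup_dvd_card
  have h11E : 11 ∣ Nat.card E := hx ▸ Subgroup.orderOf_dvd_natCard _ hxE
  obtain ⟨χ, hχ⟩ := h55
  -- the subgroup is not abelian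
  have hnab : ¬ ∀ a b : E, a * b = b * a := by
    intro hcomm
    have hfac : (Nat.card E).factorization 11 = 1 := by
      refine le_antisymm ?_ (Nat.Prime.factorization_pos_of_dvd Fact.out Nat.card_pos.ne' h11E)
      rw [← fact_eleven]
      exact (Nat.factorization_le_iff_dvd Nat.card_pos.ne' (by norm_num)).2 hEd 11
    let A : Sylow 11 E := Sylow.ofCard (Subgroup.zpowers ⟨x, hxE⟩)
      (by rw [Nat.card_zpowers, ← Subgroup.orderOf_coe, hx, hfac, pow_one])
    have hall : ∀ g : G, orderOf g = 11 → g ∈ Subgroup.zpowers x := by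
      intro g hg
      have hgE : g ∈ E := Subgroup.subset_closure hg
      let B : Sylow 11 E := Sylow.ofCard (Subgroup.zpowers ⟨g, hgE⟩)
        (by rw [Nat.card_zpowers, ← Subgroup.orderOf_coe, hg, hfac, pow_one])
      obtain ⟨c, hc⟩ := MulAction.exists_smul_eq E A B
      have hgB : (⟨g, hgE⟩ : E) ∈ ((c • A : Sylow 11 E) : Subgroup E) := by
        rw [hc]; exact Subgroup.mem_zpowers _
      rw [Sylow.smul_def, Sylow.pointwise_smul_def] at hgB
      obtain ⟨a, ha, hae⟩ := Subgroup.mem_map.1 hgB
      have h2 : (⟨g, hgE⟩ : E) = a := by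
        rw [← hae]
        show c * a * c⁻¹ = a
        rw [hcomm c a, mul_inv_cancel_right]
      obtain ⟨i, hi⟩ := Subgroup.mem_zpowers_iff.1 ha
      refine Subgroup.mem_zpowers_iff.2 ⟨i, ?_⟩
      have h3 := congrArg Subtype.val (h2.trans hi.symm)
      simpa using h3.symm
    haveI : (Subgroup.zpowers x).Normal := ⟨fun n hn g => by
      obtain ⟨i, rfl⟩ := Subgroup.mem_zpowers_iff.1 hn
      rw [← conj_zpow]
      refine Subgroup.zpow_mem _ (hall _ ?_) i
      rw [← hx]
      exact MulEquiv.orderOf_eq (MulAut.conj g) x⟩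
    haveI := Fintype.ofFinite (Subgroup.zpowers x)
    have h := ThreeDeg.deg_dvd_index_of_kills (Subgroup.zpowers x) χ fun g hg => by
      have hbot : ⁅Subgroup.zpowers x, Subgroup.zpowers x⁆ = ⊥ := by
        rw [Subgroup.commutator_eq_bot_iff_le_centralizer]
        exact fun a ha => Subgroup.mem_centralizer_iff.2 fun b hb =>
          congrArg Subtype.val (mul_comm' (⟨b, hb⟩ : Subgroup.zpowers x) ⟨a, ha⟩)
      rw [hbot, Subgroup.mem_bot] at hg
      rw [hg]
    have hidx := (Subgroup.zpowers x).card_mul_index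
    rw [Nat.card_zpowers, hx, hG] at hidx
    have := hχ.trans h
    omega
  have hZne : Subgroup.center E ≠ ⊤ := fun e => hnab fun a b =>
    Subgroup.mem_center_iff.1 (e ▸ Subgroup.mem_top b) a
  set Z := Subgroup.center E with hZ
  have hnt : Nontrivial (E ⧸ Z) := QuotientGroup.nontrivial_iff.2 hZne
  haveI hS : IsSimpleGroup (E ⧸ Z) := by
    haveI := hnt
    refine ⟨fun T hT => ?_⟩
    rcases normal_dichotomy hG (T.comap (QuotientGroup.mk' Z)) with h | h
    · right
      rw [← Subgroup.map_comap_eq_self_of_surjective (QuotientGroup.mk'_surjective Z) T, h,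
        Subgroup.map_top_of_surjective _ (QuotientGroup.mk'_surjective Z)]
    · left
      rw [← Subgroup.map_comap_eq_self_of_surjective (QuotientGroup.mk'_surjective Z) T,
        Subgroup.map_eq_bot_iff, QuotientGroup.ker_mk']
      exact h
  have hna : ¬ IsMulCommutative (E ⧸ Z) := fun hc => by
    haveI : Fact (Nat.card (E ⧸ Z)).Prime :=
      ⟨card_prime_of_simple_of_comm (G := E ⧸ Z) fun a b => hc.1.1 a b⟩
    haveI : IsCyclic (E ⧸ Z) := isCyclic_of_prime_card (p := Nat.card (E ⧸ Z)) rfl
    exact hnab fun a b => commutative_of_cyclic_center_quotient (QuotientGroup.mk' Z)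
      (by rw [QuotientGroup.ker_mk']) a b
  have hcard : Nat.card E = Nat.card (E ⧸ Z) * Nat.card Z := Subgroup.card_eq_card_quotient_mul_card_subgroup Z
  have h11Z : ¬ 11 ∣ Nat.card Z := fun h => by
    obtain ⟨z, hz⟩ := exists_prime_orderOf_dvd_card' (G := Z) 11 h
    have hzE : orderOf ((z : E) : G) = 11 := by rw [Subgroup.orderOf_coe, Subgroup.orderOf_coe, hz]
    refine hnab fun a b => ?_
    have hfac : (Nat.card E).factorization 11 = 1 := by
      refine le_antisymm ?_ (Nat.Prime.factorization_pos_of_dvd Fact.out Nat.card_pos.ne' h11E)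
      rw [← fact_eleven]
      exact (Nat.factorization_le_iff_dvd Nat.card_pos.ne' (by norm_num)).2 hEd 11
    have hle : E ≤ Z.map E.subtype := by
      refine (Subgroup.closure_le _).2 fun g hg => ?_
      have hgE : g ∈ E := Subgroup.subset_closure hg
      let A : Sylow 11 E := Sylow.ofCard (Subgroup.zpowers (z : E))
        (by rw [Nat.card_zpowers, Subgroup.orderOf_coe, hz, hfac, pow_one])
      let B : Sylow 11 E := Sylow.ofCard (Subgroup.zpowers ⟨g, hgE⟩)
        (by rw [Nat.card_zpowers, ← Subgroup.orderOf_coe, hg, hfac, pow_one])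
      obtain ⟨c, hc⟩ := MulAction.exists_smul_eq E A B
      have hgB : (⟨g, hgE⟩ : E) ∈ ((c • A : Sylow 11 E) : Subgroup E) := by
        rw [hc]; exact Subgroup.mem_zpowers _
      rw [Sylow.smul_def, Sylow.pointwise_smul_def] at hgB
      obtain ⟨d, hd, hde⟩ := Subgroup.mem_map.1 hgB
      refine ⟨⟨g, hgE⟩, ?_, rfl⟩
      rw [← hde]
      exact Subgroup.Normal.conj_mem inferInstance d (Subgroup.zpowers_le.2 z.2 hd) c
    obtain ⟨b', hb', hbe⟩ := hle b.2
    rw [show b = b' from Subtype.ext hbe.symm]
    exact Subgroup.mem_center_iff.1 hb' a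
  have hSd : Nat.card (E ⧸ Z) ∣ 95040 := (dvd_mul_right _ _).trans (hcard ▸ hEd)
  have hS11 : 11 ∣ Nat.card (E ⧸ Z) :=
    ((Nat.Prime.dvd_mul (by norm_num)).1 (hcard ▸ h11E)).resolve_right h11Z
  rcases simple_order hna hSd hS11 with hS660 | hS7920 | hS95040
  · -- no character degree divisible by 55
    exfalso
    obtain ⟨θ, hθ⟩ := exists_constituent_res E χ
    obtain ⟨e, he, hed⟩ := Ext.ratio_dvd_index' χ.2 θ.2 hθ
    have hχd : charDegree (χ : G → ℂ) = e * charDegree (θ : E → ℂ) := by
      refine Char.PIto.charDeg_eq ?_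
      rw [he, charDeg_spec']
      push_cast
      rfl
    have hidx := E.card_mul_index
    rw [hcard, hS660, hG] at hidx
    have hi : E.index ∣ 144 := ⟨Nat.card Z, by nlinarith⟩
    have he55 : Nat.Coprime 55 e :=
      Nat.Coprime.coprime_dvd_right (hed.trans hi) (by norm_num)
    rw [hχd] at hχ
    have h55θ : 55 ≤ charDegree (θ : E → ℂ) :=
      Nat.le_of_dvd (charDeg_pos θ) (he55.dvd_of_dvd_mul_left hχ)
    have hsq := Descent.sq_le_index Z θ.2 (n := charDegree (θ : E → ℂ)) (charDeg_spec' θ) fun z hz g => by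
      congr 1
      rw [← Subgroup.mem_center_iff.1 hz g, mul_inv_cancel_right, mul_inv_cancel]
    rw [show Z.index = Nat.card (E ⧸ Z) from rfl, hS660] at hsq
    nlinarith
  · right
    -- the centre is trivial
    have hperf : commutator E = ⊤ := by
      refine (normal_dichotomy hG (commutator E)).resolve_right fun h => hna ⟨⟨fun a b => ?_⟩⟩
      induction a using QuotientGroup.induction_on with | _ a =>
      induction b using QuotientGroup.induction_on with | _ b =>
      rw [← QuotientGroup.mk_mul, ← QuotientGroup.mk_mul, QuotientGroup.eq]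
      refine h ?_
      rw [show (a * b)⁻¹ * (b * a) = ⁅b⁻¹, a⁻¹⁆ by rw [commutatorElement_def]; group]
      exact Subgroup.commutator_mem_commutator (Subgroup.mem_top _) (Subgroup.mem_top _)
    haveI := Invol.M11Ord.m11_simple'
    obtain ⟨e₀⟩ := Invol.M11Ord.mulEquiv_of_card (G := E ⧸ Z) (G' := ↥Cfsg.Spor.M11) hS7920
      Fus.Mathieu.card11
    have hZbot : Z = ⊥ := by
      let f : Shrink.{0} E ≃* E := Shrink.mulEquiv
      haveI : Finite (Shrink.{0} E) := Finite.of_equiv E f.symm.toEquiv
      let σ : Shrink.{0} E →* ↥Cfsg.Spor.M11 :=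
        e₀.toMonoidHom.comp ((QuotientGroup.mk' Z).comp f.toMonoidHom)
      have hker : ∀ a, a ∈ σ.ker ↔ f a ∈ Z := fun a => by
        show e₀ (QuotientGroup.mk' Z (f a)) = 1 ↔ _
        rw [e₀.map_eq_one_iff]
        exact QuotientGroup.eq_one_iff _
      have hσ : Cfsg.IsStemExtension σ := by
        refine ⟨e₀.surjective.comp ((QuotientGroup.mk'_surjective Z).comp f.surjective),
          fun a ha => ?_, fun a _ => ?_⟩
        · refine Subgroup.mem_center_iff.2 fun b => f.injective ?_
          rw [map_mul, map_mul]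
          exact Subgroup.mem_center_iff.1 ((hker a).1 ha) (f b)
        · have h1 : (commutator (Shrink.{0} E)).map f.toMonoidHom = commutator E := by
            rw [commutator_def, commutator_def, Subgroup.map_commutator,
              Subgroup.map_top_of_surjective f.toMonoidHom f.surjective]
          have h2 : f a ∈ (commutator (Shrink.{0} E)).map f.toMonoidHom := by
            rw [h1, hperf]; exact Subgroup.mem_top _
          obtain ⟨b, hb, hba⟩ := h2
          rwa [f.injective hba] at hb
      have hbot := Cfsg.Agent.S2034.ker_bot (Shrink.{0} E) σ hσ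
      rw [eq_bot_iff]
      intro z hz
      have h1 : f.symm z ∈ σ.ker := (hker _).2 (by rw [f.apply_symm_apply]; exact hz)
      rw [hbot, Subgroup.mem_bot] at h1
      rw [Subgroup.mem_bot, ← f.apply_symm_apply z, h1, map_one]
    let e : E ≃* ↥Cfsg.Spor.M11 := (MulEquiv.ofBijective (QuotientGroup.mk' Z)
      ⟨(MonoidHom.ker_eq_bot_iff _).1 (by rw [QuotientGroup.ker_mk', hZbot]),
        QuotientGroup.mk'_surjective Z⟩).trans e₀
    haveI : IsSimpleGroup E := MulEquiv.isSimpleGroup e
    have hE7920 : Nat.card E = 7920 := (Nat.card_congr e.toEquiv).trans Fus.Mathieu.card11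
    -- every automorphism is inner
    have hinn : ∀ α : MulAut E, ∃ h : E, α = MulAut.conj h := by
      intro α
      have htop : Cfsg.Inn ↥Cfsg.Spor.M11 = ⊤ := Subgroup.index_eq_one.1 Cfsg.Agent.S2060.result
      have hmem : ((e.symm.trans α).trans e : MulAut ↥Cfsg.Spor.M11) ∈ Cfsg.Inn ↥Cfsg.Spor.M11 :=
        htop ▸ Subgroup.mem_top _
      obtain ⟨m, hm⟩ := hmem
      refine ⟨e.symm m, MulEquiv.ext fun y => e.injective ?_⟩
      have h1 := DFunLike.congr_fun hm (e y)
      simp only [MulEquiv.trans_apply, MulEquiv.symm_apply_apply] at h1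
      rw [← h1]
      simp [MulAut.conj_apply]
    set C := Subgroup.centralizer (E : Set G) with hC
    have hcomm : ∀ (c : C) (y : E), Commute (c : G) (y : G) := fun c y =>
      (Subgroup.mem_centralizer_iff.1 c.2 y y.2).symm
    let F : C × E →* G := MonoidHom.noncommCoprod C.subtype E.subtype fun c y => hcomm c y
    have hFinj : Function.Injective F := by
      rw [← MonoidHom.ker_eq_bot_iff, eq_bot_iff]
      rintro ⟨c, y⟩ h
      have h0 : (c : G) * (y : G) = 1 := h
      have hyC : (y : G) ∈ C := by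
        rw [eq_inv_of_mul_eq_one_right h0]
        exact inv_mem c.2
      have hyZ : y ∈ Z := Subgroup.mem_center_iff.2 fun b =>
        Subtype.ext (Subgroup.mem_centralizer_iff.1 hyC b b.2)
      rw [hZbot, Subgroup.mem_bot] at hyZ
      subst hyZ
      rw [Subgroup.mem_bot]
      refine Prod.ext (Subtype.ext ?_) rfl
      simpa using h0
    have hFsurj : Function.Surjective F := by
      intro g
      obtain ⟨h, hh⟩ := hinn (MulAut.conjNormal g)
      have hgC : g * ((h : E) : G)⁻¹ ∈ C := by
        refine Subgroup.mem_centralizer_iff.2 fun y hy => ?_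
        have h1 := congrArg Subtype.val (DFunLike.congr_fun hh (⟨((h : E) : G)⁻¹ * y * h,
          E.mul_mem (E.mul_mem (E.inv_mem h.2) hy) h.2⟩ : E))
        have h2 : g * (((h : E) : G)⁻¹ * y * h) * g⁻¹ = y := by
          rw [MulAut.conjNormal_apply] at h1
          simp only [MulAut.conj_apply, Subgroup.coe_mul, Subgroup.coe_inv] at h1
          rw [h1]
          group
        calc y * (g * ((h : E) : G)⁻¹) = g * (((h : E) : G)⁻¹ * y * h) * g⁻¹ * (g * ((h : E) : G)⁻¹) := by rw [h2]
          _ = g * ((h : E) : G)⁻¹ * y := by group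
      exact ⟨(⟨_, hgC⟩, h), by show g * ((h : E) : G)⁻¹ * (h : G) = g; group⟩
    let Φ : C × E ≃* G := MulEquiv.ofBijective F ⟨hFinj, hFsurj⟩
    have hC12 : Nat.card C = 12 := by
      have h1 := Nat.card_congr Φ.toEquiv
      rw [Nat.card_prod, hE7920, hG] at h1
      omega
    obtain ⟨χ', hχ'⟩ := h33
    obtain ⟨iC⟩ := four_of_no_normal hC12 fun P hP hP3 => by
      haveI := hP
      refine no_thirty_three hC12 hE7920 P hP3 ⟨_, IsIrr.comp_mulEquiv Φ χ'.2⟩ ?_
      show 33 ∣ charDegree (fun q => (χ' : G → ℂ) (Φ q))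
      simpa [charDegree] using hχ'
    exact ⟨Φ.symm.trans (iC.prodCongr e)⟩
  · left
    have hZ1 : Nat.card Z = 1 := by
      have := Nat.le_of_dvd (by norm_num) hEd
      rw [hcard, hS95040] at this
      have := Nat.card_pos (α := Z)
      omega
    have hEtop : E = ⊤ := Subgroup.eq_top_of_card_eq _ (by rw [hcard, hS95040, hZ1, hG])
    let e : G ≃* E ⧸ Z := (Subgroup.topEquiv.symm.trans (MulEquiv.subgroupCongr hEtop.symm)).trans
      (MulEquiv.ofBijective (QuotientGroup.mk' Z)
        ⟨(MonoidHom.ker_eq_bot_iff _).1 (by rw [QuotientGroup.ker_mk', Subgroup.card_eq_one.1 hZ1]),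
          QuotientGroup.mk'_surjective Z⟩)
    haveI : IsSimpleGroup G := MulEquiv.isSimpleGroup e
    exact isoM12_of_card hG

end Cfsg.Agent.Invol.M12Ord
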