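import Mathlib

/-!
An exhaustive search through the multisets drawn from a list of weight vectors that keep below a
bound, with a check of each multiset found.
-/

set_option autoImplicit false

namespace Cfsg.Agent.Invol.M12Ord

variable {V : Type*} [Add V]

/-- Add `v` any number of times as long as the bound `P` holds, continuing with `k`; fails without fuel. -/
def addMany (P k : V → Bool) (v : V) : ℕ → V → Bool
  | 0, _ => false
  | n + 1, acc => k acc && (!P (acc + v) || addMany P k v n (acc + v))

/-- Every multiset from `vs` keeping below `P`, added to `acc`, passes `f`. -/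
def search (P f : V → Bool) (fuel : ℕ) : List V → V → Bool
  | [], acc => f acc
  | v :: vs, acc => addMany P (search P f fuel vs) v fuel acc

theorem addMany_sound {W : Type*} [AddCommMonoid W] (P k : W → Bool) (v : W) :
    ∀ (n : ℕ) (acc : W), addMany P k v n acc = true →
      ∀ j : ℕ, (∀ i ≤ j, P (acc + i • v) = true) → k (acc + j • v) = true := by
  intro n
  induction n with
  | zero => intro acc h; simp [addMany] at h
  | succ n ih =>
    intro acc h j hP
    simp only [addMany, Bool.and_eq_true, Bool.or_eq_true, Bool.not_eq_true'] at h
    rcases j with _ | j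
    · simpa using h.1
    have h1 : P (acc + v) = true := by simpa using hP 1 (by omega)
    have h2 := ih (acc + v) (h.2.resolve_left (by simp [h1])) j fun i hi => by
      have := hP (i + 1) (by omega)
      rwa [succ_nsmul', ← add_assoc] at this
    rwa [succ_nsmul', ← add_assoc]

/-- A finite family with values in the list all of whose partial sums keep below the bound passes. -/
theorem search_sound {W : Type*} [AddCommMonoid W] {ι : Type*} (P f : W → Bool) (fuel : ℕ) :
    ∀ (vs : List W) (acc : W), search P f fuel vs acc = true →
      ∀ (Z : Finset ι) (g : ι → W), (∀ x ∈ Z, g x ∈ vs) →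
        (∀ S ⊆ Z, P (acc + ∑ x ∈ S, g x) = true) → f (acc + ∑ x ∈ Z, g x) = true := by
  classical
  intro vs
  induction vs with
  | nil =>
    intro acc h Z g hg _
    have hZ : Z = ∅ := Finset.eq_empty_of_forall_notMem fun x hx => List.not_mem_nil (hg x hx)
    subst hZ
    simpa [search] using h
  | cons v vs ih =>
    intro acc h Z g hg hP
    set A := Z.filter fun x => g x = v with hA
    set B := Z.filter fun x => ¬ g x = v with hB
    have hsumA : ∀ S ⊆ A, ∑ x ∈ S, g x = S.card • v := fun S hS => by
      rw [Finset.sum_congr rfl (g := fun _ => v) fun x hx => (Finset.mem_filter.1 (hS hx)).2,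
        Finset.sum_const]
    have hk := addMany_sound P (search P f fuel vs) v fuel acc h A.card fun i hi => by
      obtain ⟨S, hS, hSc⟩ := Finset.exists_subset_card_eq hi
      have := hP S (hS.trans (Finset.filter_subset _ _))
      rwa [hsumA S hS, hSc] at this
    have hj := ih (acc + A.card • v) hk B g (fun x hx => by
      obtain ⟨hxZ, hxv⟩ := Finset.mem_filter.1 hx
      exact (List.mem_cons.1 (hg x hxZ)).resolve_left hxv) fun S hS => by
        have hd : Disjoint A S := (Finset.disjoint_filter_filter_not Z Z fun x => g x = v).mono_right hS
        have := hP (A ∪ S) (Finset.union_subset (Finset.filter_subset _ _)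
          (hS.trans (Finset.filter_subset _ _)))
        rwa [Finset.sum_union hd, hsumA A subset_rfl, ← add_assoc] at this
    rw [add_assoc] at hj
    rwa [← Finset.sum_filter_add_sum_filter_not Z fun x => g x = v, ← hA, ← hB, hsumA A subset_rfl]

end Cfsg.Agent.Invol.M12Ord
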