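import Cfsg.Agent.Lib.Invol.Order95040.SmallFactorChecks
import Cfsg.Agent.Lib.Block.SmallOrd.Degrees
import Cfsg.Agent.Lib.Invol.Order95040.Basic
import Cfsg.Agent.S4441
import Cfsg.Agent.S0496

/-!
The non-abelian simple groups whose order divides 95040 and is divisible by eleven have order
660, 7920 or 95040.
-/

set_option autoImplicit false
set_option linter.style.haveILetI false
set_option linter.unusedSectionVars false

namespace Cfsg.Agent.Invol.M12Ord

open scoped ComplexConjugate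
open Cfsg Cfsg.Agent.Block Cfsg.Agent.Char

universe u

variable {G : Type u} [Group G] [Finite G] [IsSimpleGroup G]

/-- An element of prime order `q ≠ p` is trivial on a character of degree below `2 p` all of whose
values on its powers are congruent modulo `p` to a fixed integer. -/
theorem small_degree_false {p : ℕ} [Fact p.Prime] {M : Ideal AlgInt} (hna : ¬ IsMulCommutative G)
    (hM : IsPModular p M) {χ : IrrCharacter G} (hne : χ ≠ trivialIrr G) {v : G} (hv1 : v ≠ 1) {q : ℕ}
    [hq : Fact q.Prime] (hqp : q ≠ p) (hv : v ^ q = 1) {δ : ℤ}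
    (hcong : ∀ k : ℕ, MemLocalIdeal M ((χ : G → ℂ) (v ^ k) - (δ : ℂ)))
    (hd : charDegree (χ : G → ℂ) < 2 * p) : False := by
  classical
  haveI : NeZero q := ⟨hq.out.ne_zero⟩
  obtain ⟨a, ω, -, hsum, hcg, hdet, hval⟩ := OrdP.spectrum hna hM χ hqp hv hcong
  have hdvd : ∀ j : ZMod q, j ≠ 0 → p ∣ a j := by
    intro j hj
    have := hcg j
    rw [if_neg hj, Int.modEq_zero_iff_dvd, Int.natCast_dvd_natCast] at this
    exact this
  by_cases hall : ∀ j ≠ 0, a j = 0
  · exact hv1 (OrdP.eq_one_of_spectrum hne hsum hval hall)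
  push Not at hall
  obtain ⟨j, hj, haj⟩ := hall
  have hle : ∀ k, k ≠ 0 → k ≠ j → a k = 0 := by
    intro k hk hkj
    by_contra hak
    have h1 := Nat.le_of_dvd (Nat.pos_of_ne_zero haj) (hdvd j hj)
    have h2 := Nat.le_of_dvd (Nat.pos_of_ne_zero hak) (hdvd k hk)
    have h3 : a j + a k ≤ charDegree (χ : G → ℂ) := by
      rw [← hsum, ← Finset.sum_pair (Ne.symm hkj)]
      exact Finset.sum_le_sum_of_subset (Finset.subset_univ _)
    omega
  have hjp : a j = p := by
    obtain ⟨t, ht⟩ := hdvd j hj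
    have h3 : a j ≤ charDegree (χ : G → ℂ) := hsum ▸ Finset.single_le_sum (fun k _ => Nat.zero_le _) (Finset.mem_univ j)
    rcases Nat.lt_or_ge t 2 with h | h
    · interval_cases t
      · exact absurd ht (by simpa using haj)
      · simpa using ht
    · have := Nat.mul_le_mul_left p h
      omega
  rw [Finset.sum_eq_single j (fun k _ hk => by
    by_cases hk0 : k = 0
    · subst hk0; rw [mul_zero]
    · rw [hle k hk0 hk, Nat.cast_zero, zero_mul]) (fun h => absurd (Finset.mem_univ j) h), hjp,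
    mul_eq_zero] at hdet
  rcases hdet with h | h
  · rw [ZMod.natCast_eq_zero_iff] at h
    exact hqp ((Nat.prime_dvd_prime_iff_eq hq.out Fact.out).1 h)
  · exact hj h

theorem index_mul (g : G) :
    (Subgroup.centralizer ({g} : Set G)).index * Nat.card (Subgroup.centralizer ({g} : Set G)) = Nat.card G :=
  Subgroup.index_mul_card _

/-- The data at an automizer of order five with larger centralizer. -/
theorem five_block [Fact (Nat.Prime 11)] {M : Ideal AlgInt} (hna : ¬ IsMulCommutative G) (hM : IsPModular 11 M)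
    {n : ℕ} (hn : Nat.card G = n) (hn' : n ≤ 309 * 309) (P : Sylow 11 G) (hP : Nat.card P = 11)
    (he : (Subgroup.centralizer ((P : Subgroup G) : Set G)).relIndex
      (Subgroup.normalizer ((P : Subgroup G) : Set G)) = 5)
    {q : ℕ} {v : G} (hq : q.Prime) (hq11 : q ≠ 11)
    (hv : v ∈ Subgroup.centralizer ((P : Subgroup G) : Set G)) (hov : orderOf v = q) :
    ∃ (X : Finset (IrrCharacter G)) (y : IrrCharacter G) (s : IrrCharacter G → ℤ) (ε : ℤ),
      y ≠ trivialIrr G ∧ 22 ≤ charDegree (y : G → ℂ) ∧ (ε = 1 ∨ ε = -1) ∧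
      (charDegree (y : G → ℂ) : ℤ) ≡ ε * 5 [ZMOD 11] ∧
      (∀ χ ∈ X, χ ≠ trivialIrr G ∧ (s χ = 1 ∨ s χ = -1) ∧
        (charDegree (χ : G → ℂ) : ℤ) ≡ s χ [ZMOD 11] ∧
        MemLocalIdeal M ((χ : G → ℂ) v - (s χ : ℂ))) ∧
      MemLocalIdeal M ((y : G → ℂ) v - ((ε * 5 : ℤ) : ℂ)) ∧
      1 + 2 * Complex.normSq ((y : G → ℂ) v) ≤ (Nat.card (Subgroup.centralizer ({v} : Set G)) : ℝ) ∧
      ∀ (post : ℕ → Bool) (ok : ℕ → ℕ → Bool), testFiveSF n post ok = true →
        ok (charDegree (y : G → ℂ)) (1 - 1 + ∑ χ ∈ X, if post (charDegree (χ : G → ℂ)) then 0 else 1) = true := by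
  classical
  haveI : Fact q.Prime := ⟨hq⟩
  obtain ⟨X, y, s, ε, hXc, hX, hy, hε, hdy, hrel, hnorm⟩ :=
    OrdP.data hna hM (by norm_num) P hP he (by norm_num) (by norm_num) (by norm_num)
  obtain ⟨hd1, hd2⟩ := OrdP.degree_data hrel hnorm
  rw [hn] at hd2
  have hnd : ∀ k : ℕ, ¬ 11 ∣ orderOf (v ^ k) := fun k h => by
    have h2 := h.trans (orderOf_pow_dvd k)
    rw [hov] at h2
    exact hq11 ((Nat.prime_dvd_prime_iff_eq (Fact.out : Nat.Prime 11) hq).1 h2).symm
  have hεε : (ε : ℂ) * (ε : ℂ) = 1 := by rcases hε with rfl | rfl <;> norm_num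
  have hyc : ∀ k : ℕ, MemLocalIdeal M ((y : G → ℂ) (v ^ k) - ((ε * 5 : ℤ) : ℂ)) := by
    intro k
    have h := ideal_sum hM (s := X) (f := fun χ => (ε : ℂ) * (s χ : ℂ) * ((χ : G → ℂ) (v ^ k) - (s χ : ℂ)))
      fun χ hχ => ideal_mul_left hM (ring_of_integral hM (by
        exact_mod_cast isIntegral_algebraMap (R := ℤ) (A := ℂ) (x := ε * s χ)))
        ((hX χ hχ).2.2.2 _ (pow_mem hv k) (hnd k))
    have hXc' : ((X.card : ℕ) : ℂ) = 4 := by exact_mod_cast (show X.card = 4 by omega)
    have hss : ∀ χ ∈ X, (s χ : ℂ) * (s χ : ℂ) = 1 := fun χ hχ => by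
      rcases (hX χ hχ).2.1 with e | e <;> rw [e] <;> norm_num
    convert h using 1
    rw [Finset.sum_congr rfl (g := fun χ => (ε : ℂ) * ((s χ : ℂ) * (χ : G → ℂ) (v ^ k)) - (ε : ℂ))
      fun χ hχ => by linear_combination -(ε : ℂ) * hss χ hχ, Finset.sum_sub_distrib, ← Finset.mul_sum,
      Finset.sum_const, nsmul_eq_mul, hXc']
    push_cast
    linear_combination -(y : G → ℂ) (v ^ k) * hεε + (ε : ℂ) * hrel (v ^ k) (hnd k)
  have hy22 : 22 ≤ charDegree (y : G → ℂ) := by
    by_contra hlt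
    exact small_degree_false hna hM hy (ne_one_of_orderOf hov hq.ne_one) hq11
      (by rw [← hov]; exact pow_orderOf_eq_one v) hyc (by omega)
  refine ⟨X, y, s, ε, hy, hy22, hε, hdy, fun χ hχ => ⟨(hX χ hχ).1, (hX χ hχ).2.1, (hX χ hχ).2.2.1, ?_⟩,
    by simpa using hyc 1, ?_, fun post ok ht => ?_⟩
  · simpa using (hX χ hχ).2.2.2 _ hv (by simpa using hnd 1)
  · refine le_trans ?_ (hnorm v (by simpa using hnd 1))
    have h2 : (((11 - 1) / 5 : ℕ) : ℝ) = 2 := by norm_num
    rw [h2]
    have := Finset.sum_nonneg (s := X) fun χ _ => Complex.normSq_nonneg ((χ : G → ℂ) v)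
    linarith
  · have hin : ∀ χ ∈ X, (s χ * (charDegree (χ : G → ℂ) : ℤ), charDegree (χ : G → ℂ) * charDegree (χ : G → ℂ),
        if post (charDegree (χ : G → ℂ)) then 0 else 1) ∈ SmallOrd.cands n 11 309 true (fun _ => true) post := by
      intro χ hχ
      obtain ⟨hne, hs, hd, hc⟩ := hX χ hχ
      refine SmallOrd.mem_cands (by norm_num) (OrdP.two_le_deg hna hne) ?_ hn' (hn ▸ charDeg_dvd χ) rfl
        hs hd fun _ => OrdP.deg_large hna hM hne hs hd hc hq hq11 hv hov
      have := Finset.single_le_sum (f := fun ξ : IrrCharacter G => charDegree (ξ : G → ℂ) ^ 2)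
        (fun ξ _ => Nat.zero_le _) hχ
      rw [← sq]
      omega
    unfold testFiveSF at ht
    have hf := SmallOrd.search_sound (n := n) _ (fun v hv => by simp [Nat.lt_add_right _ hv]) _ _ _ ht X _
      (by omega) hin
    simp only [Prod.fst_add, Prod.snd_add, Prod.fst_sum, Prod.snd_sum, ← sq] at hf
    rw [← hd1] at hf
    have habs : (ε * (charDegree (y : G → ℂ) : ℤ)).natAbs = charDegree (y : G → ℂ) := by
      rcases hε with rfl | rfl <;> simp
    rw [habs] at hf
    simp only [zero_add, Bool.or_eq_true, Bool.and_eq_true, decide_eq_true_iff, bne_iff_ne, ne_eq] at hf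
    have hdv : n % charDegree (y : G → ℂ) = 0 := Nat.mod_eq_zero_of_dvd (hn ▸ charDeg_dvd y)
    norm_num at hd2
    simp only [sq] at hf hd2
    rw [Int.ModEq] at hdy
    rcases hf with (((h | h) | h) | h) | h
    · omega
    · exact absurd hdv h
    · rcases hε with rfl | rfl <;> omega
    · omega
    · simpa using h

/-- An automizer of order five and a small centralizer are excluded. -/
theorem five_small [Fact (Nat.Prime 11)] (hna : ¬ IsMulCommutative G) {n c : ℕ} (hn : Nat.card G = n)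
    (hn' : n ≤ 309 * 309) (P : Sylow 11 G) (hP : Nat.card P = 11)
    (he : (Subgroup.centralizer ((P : Subgroup G) : Set G)).relIndex
      (Subgroup.normalizer ((P : Subgroup G) : Set G)) = 5)
    (hC : Nat.card (Subgroup.centralizer ((P : Subgroup G) : Set G)) = 11 * c) (hc : c = 3 ∨ c = 4)
    (ht : testFiveSF n (fun _ => true) (fun _ _ => false) = true) : False := by
  obtain ⟨M, hM⟩ := exists_isPModular 11 (Fact.out : Nat.Prime 11)
  obtain ⟨q, v, hq, hq11, hv, hov⟩ := OrdP.exists_prime_elem (p := 11) (m := c)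
    (by rcases hc with rfl | rfl <;> norm_num) hC dvd_rfl (by omega)
  obtain ⟨X, y, s, ε, -, -, -, -, -, -, -, h⟩ := five_block hna hM hn hn' P hP he hq hq11 hv hov
  exact absurd (h _ _ ht) Bool.false_ne_true

theorem value_int [Fact (Nat.Prime 11)] {M : Ideal AlgInt} (hna : ¬ IsMulCommutative G) (hM : IsPModular 11 M)
    {χ : IrrCharacter G} (hne : χ ≠ trivialIrr G) {t : G} (ht : orderOf t = 2) {δ : ℤ}
    (hc : MemLocalIdeal M ((χ : G → ℂ) t - (δ : ℂ))) :
    ∃ a : ℤ, (χ : G → ℂ) t = (a : ℂ) ∧ (4 : ℤ) ∣ (charDegree (χ : G → ℂ) : ℤ) - a ∧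
      (11 : ℤ) ∣ a - δ ∧ a ≠ (charDegree (χ : G → ℂ) : ℤ) ∧ -(charDegree (χ : G → ℂ) : ℤ) ≤ a ∧
      a ≤ (charDegree (χ : G → ℂ) : ℤ) ∧
      (charDegree (χ : G → ℂ) : ℤ) ∣ ((Subgroup.centralizer ({t} : Set G)).index : ℤ) * a := by
  obtain ⟨a, ha, h4⟩ := OrdP.involution_value hna χ (x := t) (by rw [← ht]; exact pow_orderOf_eq_one t)
  rw [ha, ← Int.cast_sub] at hc
  have hb := OrdP.norm_value_le χ t
  rw [ha, Complex.norm_intCast] at hb
  have hb' : |a| ≤ (charDegree (χ : G → ℂ) : ℤ) := by exact_mod_cast hb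
  refine ⟨a, ha, h4, (ideal_intCast_iff hM _).1 hc, fun e => ?_, (abs_le.1 hb').1, (abs_le.1 hb').2,
    OrdP.index_dvd χ ha⟩
  exact ne_one_of_orderOf ht (by norm_num) (OrdP.eq_one_of_value hne
    (by rw [ha, e, charDeg_spec', Int.cast_natCast]))

/-- The order 47520 with automizer of order five. -/
theorem five_47520 [Fact (Nat.Prime 11)] (hna : ¬ IsMulCommutative G) (hn : Nat.card G = 47520) (P : Sylow 11 G)
    (hP : Nat.card P = 11)
    (he : (Subgroup.centralizer ((P : Subgroup G) : Set G)).relIndex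
      (Subgroup.normalizer ((P : Subgroup G) : Set G)) = 5)
    (hC : Nat.card (Subgroup.centralizer ((P : Subgroup G) : Set G)) = 11 * 6) : False := by
  classical
  haveI : Fact (Nat.Prime 2) := ⟨Nat.prime_two⟩
  obtain ⟨M, hM⟩ := exists_isPModular 11 (Fact.out : Nat.Prime 11)
  obtain ⟨⟨t, htC⟩, ht⟩ := exists_prime_orderOf_dvd_card'
    (G := Subgroup.centralizer ((P : Subgroup G) : Set G)) 2 (hC ▸ by norm_num)
  rw [Subgroup.orderOf_mk] at ht
  obtain ⟨X, y, s, ε, hy, hy22, hε, hdy, hX, hyt, hnorm, hok⟩ :=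
    five_block hna hM hn (by norm_num) P hP he Nat.prime_two (by norm_num) htC ht
  set h := Nat.card (Subgroup.centralizer ({t} : Set G)) with hh
  set I := (Subgroup.centralizer ({t} : Set G)).index with hI
  have hIh : I * h = 47520 := by rw [hI, hh, index_mul, hn]
  obtain ⟨b, hb, hb4, hb11, hbne, hblo, hbhi, hbd⟩ := value_int hna hM hy ht hyt
  have hnorm' : 1 + 2 * (b * b) ≤ (h : ℤ) := by
    rw [hb, Complex.normSq_intCast] at hnorm
    exact_mod_cast hnorm
  have h1 := hok _ _ five_47520_a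
  have h2 := hok _ _ five_47520_b
  simp only [Bool.and_eq_true, Bool.or_eq_true, beq_iff_eq, decide_eq_true_iff, bne_iff_ne, ne_eq] at h1 h2
  have hex : ∀ e : ℕ, 1 ≤ 1 - 1 + ∑ χ ∈ X, (if ¬ charDegree (χ : G → ℂ) = e then 0 else 1) →
      ∃ χ ∈ X, charDegree (χ : G → ℂ) = e := by
    intro e he'
    by_contra hne
    push Not at hne
    rw [Finset.sum_eq_zero fun χ hχ => by simp [hne χ hχ]] at he'
    omega
  obtain ⟨χ, hχ, hd⟩ := hex 32 h1.2
  obtain ⟨hne, hs, hds, hc⟩ := hX χ hχ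
  obtain ⟨a, -, ha4, ha11, hane, halo, hahi, had⟩ := value_int hna hM hne ht hc
  rw [hd] at hds ha4 hane halo hahi had
  rw [Int.ModEq] at hds hdy
  have hs' : s χ = -1 := by rcases hs with e | e <;> rw [e] at hds ⊢ <;> norm_num at hds
  have ha : a = -12 := by rw [hs'] at ha11; push_cast at *; omega
  subst ha
  have h8 : 8 ∣ I := by
    have : (32 : ℤ) ∣ (I : ℤ) * (-12) := had
    omega
  have hI0 : 0 < I := by
    rcases Nat.eq_zero_or_pos I with e | e
    · rw [e, zero_mul] at hIh; norm_num at hIh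
    · exact e
  rcases h1.1 with hy27 | hy72
  · rw [hy27] at hdy hb4 hbne hblo hbhi hbd
    have hb17 : b = -17 := by rcases hε with rfl | rfl <;> push_cast at * <;> omega
    subst hb17
    have h27 : 27 ∣ I := by
      have : (27 : ℤ) ∣ (I : ℤ) * (-17) := hbd
      omega
    have h216 : 216 ≤ I := Nat.le_of_dvd hI0 (by omega)
    have : 216 * h ≤ 47520 := hIh ▸ Nat.mul_le_mul_right h h216
    omega
  · obtain ⟨ξ, hξ, hd'⟩ := hex 45 (h2.resolve_left (fun hne => hne hy72))
    obtain ⟨hne', hs₂, hds', hc'⟩ := hX ξ hξ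
    obtain ⟨a, -, ha4', ha11', hane', halo', hahi', had'⟩ := value_int hna hM hne' ht hc'
    rw [hd'] at hds' ha4' hane' halo' hahi' had'
    rw [hy72] at hdy hb4 hbne hblo hbhi
    rw [Int.ModEq] at hds'
    have hs2 : s ξ = 1 := by rcases hs₂ with e | e <;> rw [e] at hds' ⊢ <;> norm_num at hds'
    have h45 : 45 ∣ I := by
      have ha : a = 1 ∨ a = -43 := by rw [hs2] at ha11'; push_cast at *; omega
      rcases ha with rfl | rfl <;> push_cast at had' <;> omega
    have h360 : 360 ≤ I := Nat.le_of_dvd hI0 (by omega)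
    have : 360 * h ≤ 47520 := hIh ▸ Nat.mul_le_mul_right h h360
    have hb16 : b = 28 ∨ b = -16 ∨ b = -60 ∨ b = 72 := by rcases hε with rfl | rfl <;> push_cast at * <;> omega
    rcases hb16 with rfl | rfl | rfl | rfl <;> omega

theorem zmod_three_univ : (Finset.univ : Finset (ZMod 3)) = {0, 1, 2} := by decide

theorem zmod_three_zero_not : (0 : ZMod 3) ∉ ({1, 2} : Finset (ZMod 3)) := by decide

theorem zmod_three_one_ne_two : (1 : ZMod 3) ≠ 2 := by decide

theorem zmod_three_two_ne : (2 : ZMod 3) ≠ 0 := by decide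

/-- The values of the characters of degree 32 and 45 at an element of order three. -/
theorem three_values [Fact (Nat.Prime 11)] {M : Ideal AlgInt} (hna : ¬ IsMulCommutative G)
    (hM : IsPModular 11 M) {χ : IrrCharacter G} (hne : χ ≠ trivialIrr G) {v : G} (hv : orderOf v = 3) {s : ℤ}
    (hs : s = 1 ∨ s = -1) (hds : (charDegree (χ : G → ℂ) : ℤ) ≡ s [ZMOD 11])
    (hcong : ∀ k : ℕ, MemLocalIdeal M ((χ : G → ℂ) (v ^ k) - (s : ℂ))) :
    (charDegree (χ : G → ℂ) = 32 → 32 ∣ (Subgroup.centralizer ({v} : Set G)).index) ∧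
    (charDegree (χ : G → ℂ) = 45 →
      (15 ∣ (Subgroup.centralizer ({v} : Set G)).index ∧ (144 : ℝ) ≤ Complex.normSq ((χ : G → ℂ) v)) ∨
      (5 ∣ (Subgroup.centralizer ({v} : Set G)).index ∧ (837 : ℝ) ≤ Complex.normSq ((χ : G → ℂ) v))) := by
  haveI : Fact (Nat.Prime 3) := ⟨Nat.prime_three⟩
  obtain ⟨a, ω, hω, hsum, hcg, hdet, hval⟩ :=
    OrdP.spectrum hna hM χ (q := 3) (by norm_num) (by rw [← hv]; exact pow_orderOf_eq_one v) hcong
  have hu := zmod_three_univ
  have h20 := zmod_three_two_ne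
  have h12 : (1 : ZMod 3) ≠ 2 := by exact zmod_three_one_ne_two
  have h01 : (0 : ZMod 3) ∉ ({1, 2} : Finset (ZMod 3)) := by exact zmod_three_zero_not
  rw [hu, Finset.sum_insert h01, Finset.sum_pair h12] at hsum hdet hval
  rw [show (0 : ZMod 3).val = 0 from rfl, show (1 : ZMod 3).val = 1 from rfl,
    show (2 : ZMod 3).val = 2 from rfl, pow_zero, pow_one, mul_one] at hval
  have hdet' : (a 1 + a 2 * 2) % 3 = 0 := by
    have h : ((a 1 + a 2 * 2 : ℕ) : ZMod 3) = 0 := by
      push_cast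
      rw [mul_zero, zero_add, mul_one] at hdet
      exact hdet
    rw [ZMod.natCast_eq_zero_iff] at h
    omega
  have c0 := hcg 0
  have c1 := hcg 1
  have c2 := hcg 2
  rw [if_pos rfl] at c0
  rw [if_neg one_ne_zero] at c1
  rw [if_neg h20] at c2
  have hnz : ¬ (a 1 = 0 ∧ a 2 = 0) := by
    rintro ⟨e1, e2⟩
    refine ne_one_of_orderOf hv (by norm_num) (OrdP.eq_one_of_value hne ?_)
    rw [hval, charDeg_spec', ← hsum, e1, e2]
    simp
  have hg : 1 + ω + ω ^ 2 = 0 := by
    have := hω.geom_sum_eq_zero (by norm_num : 1 < 3)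
    simpa [Finset.sum_range_succ] using this
  have hconj : conj ω = ω ^ 2 := by
    have h3 : ω * ω ^ 2 = 1 := by rw [← pow_succ']; exact hω.pow_eq_one
    rw [← Complex.inv_eq_conj (hω.norm'_eq_one (by norm_num)), inv_eq_of_mul_eq_one_right h3]
  rw [Int.ModEq] at c0 c1 c2 hds
  obtain ⟨i, hi⟩ : 11 ∣ a 1 := by omega
  obtain ⟨j, hj⟩ : 11 ∣ a 2 := by omega
  refine ⟨fun hd => ?_, fun hd => ?_⟩
  · rw [hd] at hsum hds
    have hs1 : s = -1 := by rcases hs with e | e <;> rw [e] at hds ⊢ <;> norm_num at hds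
    subst hs1
    have hi3 : i ≤ 2 := by omega
    have hj3 : j ≤ 2 := by omega
    obtain ⟨e0, e1, e2⟩ : a 0 = 10 ∧ a 1 = 11 ∧ a 2 = 11 := by
      interval_cases i <;> interval_cases j <;> omega
    have hz : (χ : G → ℂ) v = ((-1 : ℤ) : ℂ) := by
      rw [hval, e0, e1, e2]
      push_cast
      linear_combination 11 * hg
    have h := OrdP.index_dvd χ hz
    rw [hd, mul_neg_one, dvd_neg] at h
    exact Int.natCast_dvd_natCast.1 h
  · rw [hd] at hsum hds
    have hs1 : s = 1 := by rcases hs with e | e <;> rw [e] at hds ⊢ <;> norm_num at hds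
    subst hs1
    have hcases : (a 0 = 23 ∧ a 1 = 11 ∧ a 2 = 11) ∨ (a 0 = 1 ∧ a 1 = 22 ∧ a 2 = 22) ∨
        (a 0 = 12 ∧ a 1 = 33 ∧ a 2 = 0) ∨ (a 0 = 12 ∧ a 1 = 0 ∧ a 2 = 33) := by
      have hi5 : i ≤ 4 := by omega
      have hj5 : j ≤ 4 := by omega
      interval_cases i <;> interval_cases j <;> omega
    set I := (Subgroup.centralizer ({v} : Set G)).index with hI
    rcases hcases with ⟨e0, e1, e2⟩ | ⟨e0, e1, e2⟩ | ⟨e0, e1, e2⟩ | ⟨e0, e1, e2⟩
    · left
      have hz : (χ : G → ℂ) v = ((12 : ℤ) : ℂ) := by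
        rw [hval, e0, e1, e2]
        push_cast
        linear_combination 11 * hg
      have h := OrdP.index_dvd χ hz
      rw [hd, ← hI] at h
      push_cast at h
      refine ⟨by omega, ?_⟩
      rw [hz, Complex.normSq_intCast]
      norm_num
    · left
      have hz : (χ : G → ℂ) v = ((-21 : ℤ) : ℂ) := by
        rw [hval, e0, e1, e2]
        push_cast
        linear_combination 22 * hg
      have h := OrdP.index_dvd χ hz
      rw [hd, ← hI] at h
      push_cast at h
      refine ⟨by omega, ?_⟩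
      rw [hz, Complex.normSq_intCast]
      norm_num
    all_goals
      right
      have h := centralChar_isIntegral χ v
      rw [centralChar, charDeg_spec', hd] at h
      have h' := h.map (starRingEnd ℂ).toIntAlgHom
      have hadd := (h.add h').neg
      rw [hval, e0, e1, e2] at hadd
      simp only [RingHom.toIntAlgHom_apply, map_div₀, map_mul, map_add, map_natCast, map_pow, hconj] at hadd
      have e : ∀ z : ℂ, IsIntegral ℤ z → z = (I : ℂ) / ((5 : ℕ) : ℂ) →
          IsIntegral ℤ ((I : ℂ) / ((5 : ℕ) : ℂ)) := fun z hz e => e ▸ hz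
      refine ⟨nat_dvd_of_isIntegral_div (by norm_num : (5 : ℕ) ≠ 0) (e _ hadd (by
        have h4 : ω ^ 4 = ω := by rw [pow_succ, hω.pow_eq_one, one_mul]
        rw [← pow_mul, show (2 : ℕ) * 2 = 4 from rfl, h4]
        push_cast
        linear_combination (-11 / 15 * (I : ℂ)) * hg)), ?_⟩
      refine le_of_eq ?_
      apply Complex.ofReal_injective
      rw [Complex.normSq_eq_conj_mul_self, hval, e0, e1, e2]
      simp only [map_add, map_mul, map_natCast, map_pow, hconj]
      have h4 : ω ^ 4 = ω := by rw [pow_succ, hω.pow_eq_one, one_mul]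
      rw [← pow_mul, show (2 : ℕ) * 2 = 4 from rfl, h4]
      push_cast
      linear_combination (-396 : ℂ) * hg - 1089 * hω.pow_eq_one

/-- The order 47520 with a full automizer. -/
theorem ten_47520 [Fact (Nat.Prime 11)] (hna : ¬ IsMulCommutative G) (hn : Nat.card G = 47520) (P : Sylow 11 G)
    (hP : Nat.card P = 11)
    (he : (Subgroup.centralizer ((P : Subgroup G) : Set G)).relIndex
      (Subgroup.normalizer ((P : Subgroup G) : Set G)) = 11 - 1)
    (hC : Nat.card (Subgroup.centralizer ((P : Subgroup G) : Set G)) = 11 * 3) : False := by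
  classical
  haveI : Fact (Nat.Prime 3) := ⟨Nat.prime_three⟩
  obtain ⟨M, hM⟩ := exists_isPModular 11 (Fact.out : Nat.Prime 11)
  obtain ⟨⟨v, hvC⟩, hv⟩ := exists_prime_orderOf_dvd_card'
    (G := Subgroup.centralizer ((P : Subgroup G) : Set G)) 3 (hC ▸ by norm_num)
  rw [Subgroup.orderOf_mk] at hv
  obtain ⟨Z, s, hZc, htZ, -, hZ, hrel, hcol⟩ := OrdP.full hna hM (by norm_num) P hP he
  obtain ⟨⟨u, hu⟩, hou⟩ := exists_prime_orderOf_dvd_card' (G := (P : Subgroup G)) 11 (dvd_of_eq hP.symm)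
  rw [Subgroup.orderOf_mk] at hou
  have hu1 : u ≠ 1 := ne_one_of_orderOf hou (by norm_num)
  have hnd : ∀ k : ℕ, ¬ 11 ∣ orderOf (v ^ k) := fun k h => by
    have h2 := h.trans (orderOf_pow_dvd k)
    rw [hv] at h2
    norm_num at h2
  have hcong : ∀ χ ∈ Z, ∀ k : ℕ, MemLocalIdeal M ((χ : G → ℂ) (v ^ k) - (s χ : ℂ)) := fun χ hχ k =>
    ((hZ χ hχ).2.2 u hu hu1 _ (pow_mem hvC k) (hnd k)).2
  have h1 := hrel 1 (by rw [orderOf_one]; norm_num)
  simp only [charDeg_spec'] at h1
  have hsum : (1 : ℤ) + ∑ χ ∈ Z, s χ * (charDegree (χ : G → ℂ) : ℤ) = 0 := by exact_mod_cast h1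
  have h3 := hcol 1
  rw [centralizer_one_eq_top, Subgroup.card_top, hn] at h3
  simp only [OrdP.normSq_one] at h3
  have hsz : 1 + ∑ χ ∈ Z, charDegree (χ : G → ℂ) ^ 2 ≤ 47520 := by exact_mod_cast h3
  have hne : ∀ χ ∈ Z, χ ≠ trivialIrr G := fun χ hχ e => htZ (e ▸ hχ)
  have hex : ∀ e : ℕ, testTenSF 47520 (fun d => d != e) = true → ∃ χ ∈ Z, charDegree (χ : G → ℂ) = e := by
    intro e ht
    by_contra hno
    push Not at hno
    have hin : ∀ χ ∈ Z, (s χ * (charDegree (χ : G → ℂ) : ℤ), charDegree (χ : G → ℂ) * charDegree (χ : G → ℂ),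
        if (fun d => d != e) (charDegree (χ : G → ℂ)) then 0 else 1) ∈
          SmallOrd.cands 47520 11 309 true (fun _ => true) (fun d => d != e) := by
      intro χ hχ
      obtain ⟨hs, hd, hc⟩ := hZ χ hχ
      refine SmallOrd.mem_cands (by norm_num) (OrdP.two_le_deg hna (hne χ hχ)) ?_ (by norm_num)
        (hn ▸ charDeg_dvd χ) rfl hs hd fun _ => OrdP.deg_large hna hM (hne χ hχ) hs hd
          (fun w hw hwr => (hc u hu hu1 w hw hwr).2) Nat.prime_three (by norm_num) hvC hv
      have := Finset.single_le_sum (f := fun ξ : IrrCharacter G => charDegree (ξ : G → ℂ) ^ 2)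
        (fun ξ _ => Nat.zero_le _) hχ
      rw [← sq]
      omega
    unfold testTenSF at ht
    have hf := SmallOrd.search_sound (n := 47520) _ (fun v hv => by simp [hv]) _ _ _ ht Z _ (by omega) hin
    simp only [Prod.fst_add, Prod.snd_add, Prod.fst_sum, Prod.snd_sum, ← sq] at hf
    simp only [zero_add, Bool.or_eq_true, decide_eq_true_iff, bne_iff_ne, ne_eq] at hf
    rcases hf with (h | h) | h
    · omega
    · exact h hsum
    · rw [Finset.sum_eq_zero fun χ hχ => by simp [hno χ hχ]] at h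
      omega
  obtain ⟨χ, hχ, hd32⟩ := hex 32 ten_47520_a
  obtain ⟨ξ, hξ, hd45⟩ := hex 45 ten_47520_b
  obtain ⟨hsχ, hdχ, -⟩ := hZ χ hχ
  obtain ⟨hsξ, hdξ, -⟩ := hZ ξ hξ
  have h32 := (three_values hna hM (hne χ hχ) hv hsχ hdχ (hcong χ hχ)).1 hd32
  have h45 := (three_values hna hM (hne ξ hξ) hv hsξ hdξ (hcong ξ hξ)).2 hd45
  set h := Nat.card (Subgroup.centralizer ({v} : Set G)) with hh
  set I := (Subgroup.centralizer ({v} : Set G)).index with hI
  have hIh : I * h = 47520 := by rw [hI, hh, index_mul, hn]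
  have hI0 : 0 < I := by
    rcases Nat.eq_zero_or_pos I with e | e
    · rw [e, zero_mul] at hIh; norm_num at hIh
    · exact e
  have hbound : 1 + Complex.normSq ((ξ : G → ℂ) v) ≤ (h : ℝ) := by
    refine le_trans ?_ (hcol v)
    have := Finset.single_le_sum (f := fun η : IrrCharacter G => Complex.normSq ((η : G → ℂ) v))
      (fun η _ => Complex.normSq_nonneg _) hξ
    linarith
  rcases h45 with ⟨hd, hN⟩ | ⟨hd, hN⟩
  · have hle : 480 * h ≤ 47520 := hIh ▸ Nat.mul_le_mul_right h (Nat.le_of_dvd hI0 (by omega))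
    have : (145 : ℝ) ≤ (h : ℝ) := by linarith
    have : 145 ≤ h := by exact_mod_cast this
    omega
  · have hle : 160 * h ≤ 47520 := hIh ▸ Nat.mul_le_mul_right h (Nat.le_of_dvd hI0 (by omega))
    have : (838 : ℝ) ≤ (h : ℝ) := by linarith
    have : 838 ≤ h := by exact_mod_cast this
    omega

/-- The order 15840 with a self-centralizing Sylow subgroup and full automizer. -/
theorem ten_self [Fact (Nat.Prime 11)] (hna : ¬ IsMulCommutative G) (hn : Nat.card G = 15840) (P : Sylow 11 G)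
    (hP : Nat.card P = 11)
    (he : (Subgroup.centralizer ((P : Subgroup G) : Set G)).relIndex
      (Subgroup.normalizer ((P : Subgroup G) : Set G)) = 11 - 1)
    (hC : Nat.card (Subgroup.centralizer ((P : Subgroup G) : Set G)) = 11) : False := by
  classical
  obtain ⟨M, hM⟩ := exists_isPModular 11 (Fact.out : Nat.Prime 11)
  obtain ⟨Z, s, a, c, hZc, hZ, hsd, hsa, hsz, -, heq⟩ := OrdP.full_self hna hM (by norm_num) P hP hC he
  rw [hn] at hsz heq
  have hkind : ∀ χ ∈ Z, vecSF (charDegree (χ : G → ℂ)) (s χ) (a χ) ∈ kindsSF := by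
    intro χ hχ
    obtain ⟨hd2, hdv, hlt, hs, hd, h4, hb1, hb2⟩ := hZ χ hχ
    rw [hn] at hdv hlt
    have hds : (s χ = 1 ∧ (charDegree (χ : G → ℂ) = 12 ∨ charDegree (χ : G → ℂ) = 45)) ∨
        (s χ = -1 ∧ (charDegree (χ : G → ℂ) = 10 ∨ charDegree (χ : G → ℂ) = 32 ∨
          charDegree (χ : G → ℂ) = 120)) := by
      have key : ((List.range 126).all fun k => 15840 % k != 0 || decide (k < 2) ||
          (k % 11 != 1 && k % 11 != 10) || [10, 12, 32, 45, 120].contains k) = true := by decide +kernel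
      have hd126 : charDegree (χ : G → ℂ) < 126 := by nlinarith
      have h := List.all_eq_true.1 key _ (List.mem_range.2 hd126)
      simp [Nat.mod_eq_zero_of_dvd hdv] at h
      rw [Int.ModEq] at hd
      rcases hs with e | e <;> rw [e] at hd <;> omega
    push_cast at hb1 hb2
    generalize charDegree (χ : G → ℂ) = d at *
    generalize a χ = A at *
    generalize s χ = S at *
    rcases hds with ⟨rfl, rfl | rfl⟩ | ⟨rfl, rfl | rfl | rfl⟩
    · obtain rfl : A = 0 := by omega
      decide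
    · rcases (by omega : A = 5 ∨ A = 1 ∨ A = -3) with rfl | rfl | rfl <;> decide
    · omega
    · obtain rfl : A = 0 := by omega
      decide
    · rcases (by omega : A = 0 ∨ A = 4 ∨ A = -4 ∨ A = 8 ∨ A = -8) with rfl | rfl | rfl | rfl | rfl <;> decide
  have hbd : ∀ S ⊆ Z, boundSF ((0, 0, 0, 0, 0) + ∑ χ ∈ S,
      vecSF (charDegree (χ : G → ℂ)) (s χ) (a χ)) = true := by
    intro S hS
    simp only [boundSF, vecSF, Prod.fst_add, Prod.snd_add, Prod.fst_sum, Prod.snd_sum, zero_add,
      Finset.sum_const, smul_eq_mul, mul_one, Bool.and_eq_true, decide_eq_true_iff, ← sq]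
    have h1 := Finset.card_le_card hS
    have h2 : ∑ χ ∈ S, charDegree (χ : G → ℂ) ^ 2 ≤ ∑ χ ∈ Z, charDegree (χ : G → ℂ) ^ 2 :=
      Finset.sum_le_sum_of_subset hS
    exact ⟨by omega, by omega⟩
  have hf := search_sound boundSF finalSF 12 kindsSF _ ten_15840 Z _ hkind hbd
  simp only [finalSF, vecSF, Prod.fst_add, Prod.snd_add, Prod.fst_sum, Prod.snd_sum, zero_add,
    Finset.sum_const, smul_eq_mul, mul_one, ← sq] at hf
  rw [show Z.card = 10 by omega] at hf
  have e1 : ∑ χ ∈ Z, s χ * (charDegree (χ : G → ℂ) : ℤ) = -1 := by omega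
  have e2 : ∑ χ ∈ Z, s χ * a χ = -1 := by omega
  rw [e1, e2] at hf
  have hr : 15840 + ∑ χ ∈ Z, ((15840 / charDegree (χ : G → ℂ) : ℕ) : ℤ) * (s χ * a χ ^ 2) =
      ((11 * c ^ 2 : ℕ) : ℤ) := by
    apply Int.cast_injective (α := ℚ)
    push_cast at heq ⊢
    rw [heq, mul_add, mul_one, Finset.mul_sum]
    refine congrArg _ (Finset.sum_congr rfl fun χ hχ => ?_)
    obtain ⟨q, hq⟩ : charDegree (χ : G → ℂ) ∣ 15840 := hn ▸ charDeg_dvd χ
    have hd0 : (charDegree (χ : G → ℂ) : ℚ) ≠ 0 := Nat.cast_ne_zero.2 (charDeg_pos χ).ne'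
    have hz : (15840 : ℤ) / (charDegree (χ : G → ℂ) : ℤ) = (q : ℤ) := by
      have : (15840 : ℕ) / charDegree (χ : G → ℂ) = q := by rw [hq, Nat.mul_div_cancel_left _ (charDeg_pos χ)]
      exact_mod_cast this
    have hQ : (15840 : ℚ) = (charDegree (χ : G → ℂ) : ℚ) * (q : ℚ) := by exact_mod_cast hq
    rw [hz, hQ]
    push_cast
    field_simp
  rw [hr] at hf
  have hm : ((11 * c ^ 2 : ℕ) : ℤ) % 11 = 0 := by push_cast; omega
  have hdiv : ((((11 * c ^ 2 : ℕ) : ℤ)) / 11).toNat = c * c := by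
    push_cast
    rw [Int.mul_ediv_cancel_left _ (by norm_num), ← sq]
    exact_mod_cast Int.toNat_natCast (c ^ 2)
  simp only [hdiv, Nat.sqrt_eq, hm, Bool.or_eq_true, Bool.not_eq_true', Bool.and_eq_false_iff,
    decide_eq_true_iff, decide_eq_false_iff_not, bne_iff_ne, ne_eq, not_true, beq_eq_false_iff_ne] at hf
  simp only [false_or, or_false] at hf
  rcases hf with h | h | h
  · omega
  · exact absurd h (not_lt.2 (Int.natCast_nonneg _))
  · exact h (sq c)

/-- The order 11880 with a self-centralizing Sylow subgroup and automizer of order two. -/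
theorem two_11880 [Fact (Nat.Prime 11)] (hna : ¬ IsMulCommutative G) (hn : Nat.card G = 11880) (P : Sylow 11 G)
    (hP : Nat.card P = 11)
    (he : (Subgroup.centralizer ((P : Subgroup G) : Set G)).relIndex
      (Subgroup.normalizer ((P : Subgroup G) : Set G)) = 2)
    (hC : Nat.card (Subgroup.centralizer ((P : Subgroup G) : Set G)) = 11) : False := by
  classical
  haveI := Fintype.ofFinite G
  obtain ⟨M, hM⟩ := exists_isPModular 11 (Fact.out : Nat.Prime 11)
  obtain ⟨X, Y, hXY, -, hXc, hYc, s, ε, hX, hε, hY, -, hreg⟩ :=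
    Cfsg.Agent.S4441.result 11 M hM (by norm_num) P hP 2 he
  obtain ⟨y, hy⟩ : Y.Nonempty := by
    refine Set.nonempty_of_ncard_ne_zero ?_
    rw [← Nat.card_coe_set_eq, hYc]
    omega
  have hr1 : ¬ 11 ∣ orderOf (1 : G) := by rw [orderOf_one]; norm_num
  have h := hreg y hy 1 hr1
  rw [finsum_mem_eq_toFinset_sum] at h
  obtain ⟨χ₁, χ₂, hne, hXe⟩ := Finset.card_eq_two.1 (show X.toFinset.card = 2 by
    rw [← Set.ncard_eq_toFinset_card', ← Nat.card_coe_set_eq, hXc])
  rw [hXe, Finset.sum_pair hne] at h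
  simp only [charDeg_spec'] at h
  have h' : ε * (charDegree (y : G → ℂ) : ℤ) =
      s χ₁ * (charDegree (χ₁ : G → ℂ) : ℤ) + s χ₂ * (charDegree (χ₂ : G → ℂ) : ℤ) := by exact_mod_cast h
  obtain ⟨χ, hχX, hχne, hd⟩ : ∃ χ ∈ X, χ ≠ trivialIrr G ∧ charDegree (χ : G → ℂ) = 10 := by
    by_contra hno
    push Not at hno
    have hdiv : ∀ ξ : IrrCharacter G, charDegree (ξ : G → ℂ) ∣ 11880 ∧ charDegree (ξ : G → ℂ) < 110 := by
      intro ξ
      refine ⟨hn ▸ charDeg_dvd ξ, ?_⟩
      have h1 := OrdP.normSq_column {ξ} (1 : G)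
      rw [Finset.sum_singleton, centralizer_one_eq_top, Subgroup.card_top, OrdP.normSq_one, hn] at h1
      have h1' : charDegree (ξ : G → ℂ) ^ 2 ≤ 11880 := by exact_mod_cast h1
      by_contra hlt
      have := Nat.pow_le_pow_left (Nat.le_of_not_lt hlt) 2
      omega
    have hkey : ∀ ξ ∈ X, s ξ * (charDegree (ξ : G → ℂ) : ℤ) ∈ ([1, 12, 45, -54] : List ℤ) ∧
        (s ξ * (charDegree (ξ : G → ℂ) : ℤ) = 1 → ξ = trivialIrr G) := by
      intro ξ hξ
      obtain ⟨hs, hds, -⟩ := hX ξ hξ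
      obtain ⟨hdv, hlt⟩ := hdiv ξ
      have key : ((List.range 110).all fun k => 11880 % k != 0 || (k % 11 != 1 && k % 11 != 10) ||
          [1, 10, 12, 45, 54].contains k) = true := by decide +kernel
      have hk := List.all_eq_true.1 key _ (List.mem_range.2 hlt)
      simp [Nat.mod_eq_zero_of_dvd hdv] at hk
      rw [Int.ModEq] at hds
      have hpos := charDeg_pos ξ
      refine ⟨?_, fun h1 => OrdP.eq_trivial_of_deg hna (by rcases hs with e | e <;> rw [e] at h1 <;> omega)⟩
      have h10 : ¬ charDegree (ξ : G → ℂ) = 10 := fun e => by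
        refine hno ξ hξ (fun ht => ?_) e
        rw [ht] at e
        have h1 : charDegree ((trivialIrr G : IrrCharacter G) : G → ℂ) = 1 := charDeg_trivial
        omega
      simp only [List.mem_cons, List.not_mem_nil, or_false]
      rcases hs with e | e <;> rw [e] at hds ⊢ <;> omega
    have hm1 : χ₁ ∈ X := Set.mem_toFinset.1 (hXe ▸ Finset.mem_insert_self _ _)
    have hm2 : χ₂ ∈ X := Set.mem_toFinset.1 (hXe ▸ Finset.mem_insert_of_mem (Finset.mem_singleton_self _))
    obtain ⟨k1, u1⟩ := hkey χ₁ hm1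
    obtain ⟨k2, u2⟩ := hkey χ₂ hm2
    have hone : s χ₁ * (charDegree (χ₁ : G → ℂ) : ℤ) = 1 ∨ s χ₂ * (charDegree (χ₂ : G → ℂ) : ℤ) = 1 := by
      have h1 : charDegree ((trivialIrr G : IrrCharacter G) : G → ℂ) = 1 := charDeg_trivial
      have hτB : trivialIrr G ∈ principalBlock M G := trivial_mem_principalBlock hM
      rw [hXY] at hτB
      have hτX : trivialIrr G ∈ X := hτB.resolve_right fun hh => by
        have h2 := hY _ hh
        rw [h1, Int.ModEq] at h2
        rcases hε with rfl | rfl <;> norm_num at h2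
      have hsτ : s (trivialIrr G) * (charDegree ((trivialIrr G : IrrCharacter G) : G → ℂ) : ℤ) = 1 := by
        obtain ⟨h2, h3, -⟩ := hX _ hτX
        rw [h1, Int.ModEq] at h3
        rw [h1]
        rcases h2 with e | e <;> rw [e] at h3 <;> first | (norm_num at h3; done) | simp [e]
      have hmem : trivialIrr G ∈ ({χ₁, χ₂} : Finset _) := hXe ▸ Set.mem_toFinset.2 hτX
      rcases Finset.mem_insert.1 hmem with e | e
      · exact Or.inl (e ▸ hsτ)
      · exact Or.inr (Finset.mem_singleton.1 e ▸ hsτ)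
    have hnot : ¬ (s χ₁ * (charDegree (χ₁ : G → ℂ) : ℤ) = 1 ∧ s χ₂ * (charDegree (χ₂ : G → ℂ) : ℤ) = 1) :=
      fun hh => hne ((u1 hh.1).trans (u2 hh.2).symm)
    have hyd := hY y hy
    rw [Int.ModEq] at hyd
    obtain ⟨hyv, hyl⟩ := hdiv y
    have key : ((List.range 110).all fun k => 11880 % k != 0 ||
        ([1, 12, 45, -54].all fun i => [1, 12, 45, -54].all fun j =>
          (i != (1 : ℤ) && j != (1 : ℤ)) || (i == (1 : ℤ) && j == (1 : ℤ)) || (k : ℤ) != (i + j).natAbs || (k % 11 != 2 && k % 11 != 9))) = true := by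
      decide +kernel
    have hk := List.all_eq_true.1 key _ (List.mem_range.2 hyl)
    rw [Nat.mod_eq_zero_of_dvd hyv] at hk
    simp only [bne_self_eq_false, Bool.false_or, List.all_eq_true] at hk
    have hk' := hk _ k1 _ k2
    rw [← h'] at hk'
    simp at hk'
    rcases hε with rfl | rfl <;> simp at hk' hyd <;> omega
  obtain ⟨hs, hds, hval⟩ := hX χ hχX
  rw [hd, Int.ModEq] at hds
  have hs1 : s χ = -1 := by rcases hs with e | e <;> rw [e] at hds ⊢ <;> norm_num at hds
  obtain ⟨S, hSu⟩ := OrdP.exists_self P hP (by norm_num) hC he dvd_rfl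
  obtain ⟨a, ha, h4⟩ := OrdP.involution_value hna χ (x := S.t) (by rw [← S.ht]; exact pow_orderOf_eq_one _)
  have hb := OrdP.inverted_bound S (by norm_num) χ (s := s χ) (fun i hi => by
    have := hval (S.u ^ i) ((P : Subgroup G).zpow_mem hSu i) hi 1 (one_mem _) hr1
    rwa [mul_one] at this) ha
  rw [hd, hs1] at hb
  rw [hd] at h4
  push_cast at hb
  omega

/-- The simple groups. -/
theorem simple_order (hna : ¬ IsMulCommutative G) (hdvd : Nat.card G ∣ 95040) (h11 : 11 ∣ Nat.card G) :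
    Nat.card G = 660 ∨ Nat.card G = 7920 ∨ Nat.card G = 95040 := by
  classical
  rcases Nat.lt_or_ge 1092 (Nat.card G) with hbig | hsmall
  swap
  · rcases Cfsg.Agent.S0496.result hna hsmall with e | e | e | e | e | e <;> rw [e] at h11 ⊢ <;> omega
  haveI : Fact (Nat.Prime 11) := ⟨by norm_num⟩
  obtain ⟨m, hm⟩ := h11
  have hm8 : m ∣ 8640 := Nat.dvd_of_mul_dvd_mul_left (by norm_num : 0 < 11) (by rw [← hm]; exact hdvd)
  have hpm : ¬ 11 ∣ m := fun h => absurd (h.trans hm8) (by norm_num)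
  obtain ⟨P⟩ : Nonempty (Sylow 11 G) := inferInstance
  have hfac : ¬ 2 * (11 * m) ∣ 11 * (11 - 1) * (11 + 1) := fun h => by
    have := Nat.le_of_dvd (by norm_num) h
    omega
  obtain ⟨e, k, c, hk, hkm, he, he1, hep, hC, hprod⟩ := OrdP.exists_e' hna hm hpm (by norm_num) hfac P
  have hP := OrdP.card_sylow_eq hm hpm P
  have hq : 11 * k + 1 = 45 ∨ 11 * k + 1 = 144 ∨ 11 * k + 1 = 320 ∨ 11 * k + 1 = 540 ∨ 11 * k + 1 = 1728 := by
    have hle : 11 * k + 1 ≤ 8640 := Nat.le_of_dvd (by norm_num) (hkm.trans hm8)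
    have h := List.all_eq_true.1 configsSF_true (11 * k + 1) (List.mem_range.2 (by omega))
    simp [Nat.mod_eq_zero_of_dvd (hkm.trans hm8), Nat.add_mod] at h
    omega
  have hce : c * e * (11 * k + 1) ∣ 8640 := hprod ▸ hm8
  have hsub : e * (11 * k + 1) ∣ 8640 := (Dvd.intro_left c (mul_assoc c e _).symm).trans hce
  have hele : e ≤ 10 := Nat.le_of_dvd (by norm_num) hep
  have he' : e = 2 ∨ e = 5 ∨ e = 10 := by interval_cases e <;> norm_num at hep <;> norm_num
  obtain ⟨M, hM⟩ := exists_isPModular 11 (Fact.out : Nat.Prime 11)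
  have htwo : e = 2 → c ≠ 1 → False := by
    intro h2 hc1
    obtain ⟨r, v, hr, hr11, hv, hov⟩ := OrdP.exists_prime_elem (p := 11) hpm hC ⟨e * (11 * k + 1), by
      rw [← mul_assoc]; exact hprod.symm⟩ hc1
    refine OrdP.two_false hna hM (by norm_num) P hP (he.trans h2) hr hr11 hv hov ?_
    intro d hd hlt hdc d' hd' hadj hpd'
    have key : ((List.range 309).all fun d => !(95040 % d == 0 && ((d % 11 == 1 && decide (23 ≤ d)) ||
        (d % 11 == 10 && decide (32 ≤ d)))) || ([d - 1, d + 1].all fun d' => 95040 % d' != 0 || d' % 11 == 0)) =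
          true := by decide +kernel
    have hle := Nat.le_of_dvd (by norm_num) hdvd
    have hd309 : d < 309 := by
      by_contra hge
      have := Nat.mul_le_mul (Nat.le_of_not_lt hge) (Nat.le_of_not_lt hge)
      omega
    have hh := List.all_eq_true.1 key d (List.mem_range.2 hd309)
    have h1 : 95040 % d = 0 := Nat.mod_eq_zero_of_dvd (hd.trans hdvd)
    have h2 : 95040 % d' = 0 := Nat.mod_eq_zero_of_dvd (hd'.trans hdvd)
    have hne : d' % 11 ≠ 0 := fun e => hpd' (Nat.dvd_of_mod_eq_zero e)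
    have h3 : d' = d - 1 ∨ d' = d + 1 := by omega
    rcases h3 with rfl | rfl <;> simp [h1, h2, hne] at hh <;> omega
  have hcard : Nat.card G = 11 * (c * e * (11 * k + 1)) := by rw [hm, hprod]
  rcases hq with hq | hq | hq | hq | hq <;> rcases he' with rfl | rfl | rfl <;> rw [hq] at hce hcard hsub
  -- `45`
  · by_cases hc1 : c = 1
    · subst hc1; omega
    · exact (htwo rfl hc1).elim
  · norm_num at hsub
  · norm_num at hsub
  -- `144`
  · by_cases hc1 : c = 1
    · subst hc1
      exact (SmallOrd.deg_elim hna (n := 3168) (B := 57) (by rw [hcard]) hpm (by norm_num) P hP (one_dvd m) he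
        (by norm_num) (by norm_num) hC (fun _ => true) (fun _ _ => rfl) (by norm_num) (by decide +kernel)).elim
    · exact (htwo rfl hc1).elim
  · have hc12 : c ∣ 12 := Nat.dvd_of_mul_dvd_mul_right (by norm_num : 0 < 720) (by rw [mul_assoc] at hce; simpa using hce)
    have := Nat.le_of_dvd (by norm_num) hc12
    interval_cases c <;> norm_num at hc12 <;> norm_num at hcard ⊢
    · omega
    · exact (SmallOrd.deg_elim hna (n := 15840) (B := 309) hcard hpm (by norm_num) P hP
        (by rw [← hprod]; exact Dvd.intro _ (mul_assoc _ _ _).symm) he (by norm_num) (by norm_num) hC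
        (fun _ => true) (fun _ _ => rfl) (by norm_num) (by decide +kernel)).elim
    · exact (five_small hna hcard (by norm_num) P hP he hC (Or.inl rfl) five_23760).elim
    · exact (five_small hna hcard (by norm_num) P hP he hC (Or.inr rfl) five_31680).elim
    · exact (five_47520 hna hcard P hP he hC).elim
    · omega
  · have hc6 : c ∣ 6 := Nat.dvd_of_mul_dvd_mul_right (by norm_num : 0 < 1440) (by rw [mul_assoc] at hce; simpa using hce)
    have := Nat.le_of_dvd (by norm_num) hc6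
    interval_cases c <;> norm_num at hc6 <;> norm_num at hcard ⊢
    · exact (ten_self hna hcard P hP he (by simpa using hC)).elim
    · exact (SmallOrd.deg_elim hna (n := 31680) (B := 309) hcard hpm (by norm_num) P hP
        (by rw [← hprod]; exact Dvd.intro _ (mul_assoc _ _ _).symm) he (by norm_num) (by norm_num) hC
        (fun _ => true) (fun _ _ => rfl) (by norm_num) (by decide +kernel)).elim
    · exact (ten_47520 hna hcard P hP he hC).elim
    · omega
  -- `320`
  · norm_num at hsub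
  · norm_num at hsub
  · norm_num at hsub
  -- `540`
  · by_cases hc1 : c = 1
    · subst hc1
      exact (two_11880 hna (by rw [hcard]) P hP he (by rw [hC])).elim
    · exact (htwo rfl hc1).elim
  · norm_num at hsub
  · norm_num at hsub
  -- `1728`
  · norm_num at hsub
  · have hc1 : c ∣ 1 := Nat.dvd_of_mul_dvd_mul_right (by norm_num : 0 < 8640) (by rw [mul_assoc] at hce; simpa using hce)
    rw [Nat.dvd_one] at hc1
    subst hc1
    omega
  · norm_num at hsub

end Cfsg.Agent.Invol.M12Ord
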