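import Cfsg.Agent.Lib.Block.SmallOrd.Picks
import Cfsg.Agent.Lib.Invol.Order95040.Search

/-!
Finite checks for the simple groups whose order divides 95040 and is divisible by eleven.
-/

set_option autoImplicit false

namespace Cfsg.Agent.Invol.M12Ord

open Cfsg.Agent.Block

/-- The possible configurations at eleven: quotient by eleven of the order, automizer, centralizer. -/
def configsSF : Bool :=
  (List.range 8641).all fun q =>
    !(8640 % q == 0 && q % 11 == 1 && decide (22 < q)) || [45, 144, 320, 540, 1728].contains q

/-- An admissible signed degree and the running sums for an automizer of order five. -/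
def testFiveSF (n : ℕ) (post : ℕ → Bool) (ok : ℕ → ℕ → Bool) : Bool :=
  SmallOrd.search n
    (fun v => decide (n < v.2.1 + 2 * (v.1.natAbs * v.1.natAbs)) || n % v.1.natAbs != 0 ||
      (v.1.natAbs % 11 != 5 && v.1.natAbs % 11 != 6) || decide (v.1.natAbs < 22) || ok v.1.natAbs v.2.2)
    (SmallOrd.cands n 11 309 true (fun _ => true) post) 4 (1, 1, 0)

/-- An admissible signed degree and the running sums for an automizer of order ten. -/
def testTenSF (n : ℕ) (post : ℕ → Bool) : Bool :=
  SmallOrd.search n (fun v => decide (n < v.2.1) || v.1 != 0 || decide (1 ≤ v.2.2))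
    (SmallOrd.cands n 11 309 true (fun _ => true) post) 10 (1, 1, 0)

theorem configsSF_true : configsSF = true := by decide +kernel

theorem five_23760 : testFiveSF 23760 (fun _ => true) (fun _ _ => false) = true := by decide +kernel

theorem five_31680 : testFiveSF 31680 (fun _ => true) (fun _ _ => false) = true := by decide +kernel

theorem five_47520_a :
    testFiveSF 47520 (fun d => d != 32) (fun y k => (y == 27 || y == 72) && decide (1 ≤ k)) = true := by
  decide +kernel

theorem five_47520_b : testFiveSF 47520 (fun d => d != 45) (fun y k => y != 72 || decide (1 ≤ k)) = true := by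
  decide +kernel

theorem ten_47520_a : testTenSF 47520 (fun d => d != 32) = true := by decide +kernel

theorem ten_47520_b : testTenSF 47520 (fun d => d != 45) = true := by decide +kernel

/-- Weights: number, signed degree, signed value, squared degree, weighted squared value. -/
abbrev WSF : Type := ℕ × ℤ × ℤ × ℕ × ℤ

/-- The weight of a degree, sign and value. -/
def vecSF (d : ℕ) (s a : ℤ) : WSF := (1, s * d, s * a, d * d, (15840 / d : ℕ) * (s * (a * a)))

/-- The degrees, signs and values possible at the involution inverting an element of order eleven. -/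
def kindsSF : List WSF :=
  [vecSF 12 1 0, vecSF 32 (-1) 0, vecSF 45 1 5, vecSF 45 1 1, vecSF 45 1 (-3), vecSF 120 (-1) 0,
    vecSF 120 (-1) 4, vecSF 120 (-1) (-4), vecSF 120 (-1) 8, vecSF 120 (-1) (-8)]

def boundSF (v : WSF) : Bool := decide (v.1 ≤ 10) && decide (v.2.2.2.1 ≤ 15839)

/-- The class equation has no solution. -/
def finalSF (v : WSF) : Bool :=
  !(v.1 == 10 && v.2.1 == -1 && v.2.2.1 == -1 && decide (v.2.2.2.1 ≤ 15839)) ||
    (let r := 15840 + v.2.2.2.2
     decide (r < 0) || r % 11 != 0 || (r / 11).toNat.sqrt * (r / 11).toNat.sqrt != (r / 11).toNat)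

theorem ten_15840 : search boundSF finalSF 12 kindsSF (0, 0, 0, 0, 0) = true := by decide +kernel

end Cfsg.Agent.Invol.M12Ord
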